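import Cfsg.Agent.Lib.Blocks.RankFourNine

/-!
The column of the principal 2-block at an involution whose centraliser has a normal 2-complement.
-/

set_option autoImplicit false
set_option linter.style.haveILetI false
set_option linter.unusedSectionVars false

namespace Cfsg.Agent.RegularOrbit

open Cfsg Cfsg.Agent.Blocks Cfsg.Agent.Char
open scoped ComplexConjugate

universe u

variable {G : Type u} [Group G] [Fintype G] {M : Ideal AlgInt} [M.IsPrime]

theorem column (hM : IsPModular 2 M) {x : G} (hx : orderOf x = 2) {C : Subgroup G} [Fintype C]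
    (hC : C = Subgroup.centralizer ({x} : Set G)) (hfac : (Nat.card C).factorization 2 =
      (Nat.card G).factorization 2) (N : Subgroup C) [N.Normal] (hodd : ¬ 2 ∣ Nat.card N) {q : ℕ}
    (hidx : N.index = q) (hq : q = 2 ^ (Nat.card G).factorization 2)
    (hreg : ∀ w : C, ¬ 2 ∣ orderOf w ↔ w ∈ N) [DecidablePred (· ∈ principalBlock M G)] :
    ∃ d : IrrCharacter G → ℤ, (∀ χ : IrrCharacter G, (χ : G → ℂ) x = (d χ : ℂ)) ∧
      ∑ χ ∈ Finset.univ.filter (· ∈ principalBlock M G), d χ * d χ = (q : ℤ) ∧
      (∀ χ ∈ principalBlock M G, d χ ≠ 0) ∧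
      ∀ χ : IrrCharacter G,
        ∑ w ∈ Finset.univ.filter (fun w : C => ¬ 2 ∣ orderOf w), (χ : G → ℂ) (x * (w : G)) =
          if χ ∈ principalBlock M G then (Nat.card N : ℂ) * (d χ : ℂ) else 0 := by
  classical
  haveI : Fact (Nat.Prime 2) := ⟨Nat.prime_two⟩
  set B := principalBlock M G with hBdef
  have hB : IsPBlock M B := isPBlock_principalBlock M G
  choose d hd0 hdpar using fun χ : IrrCharacter G => char_involution χ hx
  have hpow : ∃ k, orderOf x = 2 ^ k := ⟨1, hx⟩
  have hd : ∀ χ ∈ B, ∀ w : C, ¬ 2 ∣ orderOf w → (χ : G → ℂ) (x * (w : G)) = (d χ : ℂ) := by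
    intro χ hχ w hw
    rw [← hd0 χ]
    exact irr_section_of_kernel hM hpow hC hχ N hodd ((hreg w).1 hw)
  have hregC : (Finset.univ.filter fun w : C => ¬ 2 ∣ orderOf w).card = Nat.card N := by
    rw [Nat.card_eq_fintype_card, Fintype.card_subtype]
    exact congrArg Finset.card (Finset.filter_congr fun w _ => hreg w)
  have hd2 : ∑ χ ∈ Finset.univ.filter (· ∈ B), d χ * d χ = (q : ℤ) := by
    have h1 := sum_normSq_section_principal hM hpow hC (y := (1 : C)) (by simp)
    rw [OneMemClass.coe_one, mul_one, blockPair_principal_of_pComplement hM N hodd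
      ⟨_, hidx.trans hq⟩ (by simp), hfac, ← hq] at h1
    unfold blockPair at h1
    have h2 : ((∑ χ ∈ Finset.univ.filter (· ∈ B), d χ * d χ : ℤ) : ℂ) = ((q : ℤ) : ℂ) := by
      push_cast
      refine Eq.trans (Finset.sum_congr (by ext; simp [hBdef]) fun χ _ => ?_) h1
      rw [hd0 χ, map_intCast]
    exact_mod_cast h2
  have hind : IsInducedBlock M C (principalBlock M C) B :=
    (mem_unitBlocks_iff_induced' hM hpow hC hB).1
      (by rw [unitBlocks_principal hM hpow hC]; exact Finset.mem_singleton_self _)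
  have hN0 : (Nat.card N : ℂ) ≠ 0 := Nat.cast_ne_zero.2 Nat.card_pos.ne'
  have hq0 : (q : ℂ) ≠ 0 := Nat.cast_ne_zero.2 (by rw [hq]; positivity)
  have hdne : ∀ χ ∈ B, d χ ≠ 0 := by
    intro χ hχ hzero
    have hdef : blockDefect 2 (principalBlock M C) = blockDefect 2 B := by
      rw [BrauerPairs.blockDefect_principal_eq hM, hBdef, BrauerPairs.blockDefect_principal_eq hM,
        hfac]
    have hcard : (Nat.card C : ℝ) = (q : ℝ) * (Nat.card N : ℝ) := by
      rw [← N.index_mul_card, hidx]; push_cast; ring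
    have hval : ∀ φ ∈ B, regPair 2 (blockScale 2 (principalBlock M C))
        (secFun x C (φ : G → ℂ)) (fun _ => 1) = (d φ : ℂ) := by
      intro φ hφ
      rw [regPair_eq_sum, Finset.sum_congr rfl (g := fun _ => (d φ : ℂ)) fun w hw => by
        rw [map_one, mul_one]
        exact hd φ hφ w (Finset.mem_filter.1 hw).2,
        Finset.sum_const, hregC, nsmul_eq_mul, blockScale,
        BrauerPairs.blockDefect_principal_eq hM, hfac, hcard]
      push_cast
      rw [show ((2 : ℂ) ^ (Nat.card G).factorization 2) = (q : ℂ) by rw [hq]; push_cast; rfl]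
      field_simp
    have h0 : blockHeight 2 B ((principal G : IrrCharacter G) : G → ℂ) = 0 := blockHeight_one hM
    have hmaj := (regPair_major hM hpow hC hind hdef hχ (χ₀ := principal G)
      principal_mem_principalBlock h0 (v := fun _ => 1)
      (fun _ _ => rfl) (fun w => by rw [map_one]; exact (locRing M).one_mem)).2
    rw [hval χ hχ, hzero, Int.cast_zero, zero_div,
      hval _ principal_mem_principalBlock] at hmaj
    have hp1 : (d (principal G) : ℂ) = 1 := (hd0 (principal G)).symm
    rw [hp1] at hmaj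
    exact not_memLocalIdeal_one (M := M) (hmaj.1 memLocalIdeal_zero)
  refine ⟨d, hd0, by convert hd2, hdne, fun χ => ?_⟩
  by_cases hχ : χ ∈ B
  · rw [if_pos hχ, Finset.sum_congr rfl fun w hw => hd χ hχ w (Finset.mem_filter.1 hw).2,
      Finset.sum_const, hregC, nsmul_eq_mul]
  · rw [if_neg hχ]
    have hB' := isPBlock_blockOf (M := M) χ
    have hmem : χ ∈ blockOf M (χ : G → ℂ) := self_mem_blockOf χ
    have hnot : ¬ IsInducedBlock M C (principalBlock M C) (blockOf M χ) := fun h =>
      hχ (by rw [isInducedBlock_unique hind h]; exact hmem)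
    set f : C → ℂ := secFun x C (χ : G → ℂ) with hf
    have hz : blockPart (principalBlock M C) f 1 = 0 :=
      blockPart_secFun_eq_zero hM hpow hC hB' hmem
        (isPBlock_principalBlock M C) hnot (by simp)
    have h := sum_regular_pair hM (isPBlock_principalBlock M C) f (u := (1 : C)) (by simp)
    rw [hz, mul_zero] at h
    have hbp : ∀ w : C, ¬ 2 ∣ orderOf w → blockPair (principalBlock M C) 1 w = (q : ℂ) := by
      intro w hw
      have h1 := blockPair_principal_of_pComplement hM N hodd ⟨_, hidx.trans hq⟩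
        (y := (1 : C)) (by simp)
      rw [hfac, ← hq] at h1
      rw [← h1]
      unfold blockPair
      refine Finset.sum_congr rfl fun θ hθ => ?_
      have hθ' := (Finset.mem_filter.1 hθ).2
      rw [principalBlock_eq_trivialOn hM N hodd ⟨_, hidx.trans hq⟩] at hθ'
      rw [hθ' w ((hreg w).1 hw)]
    rw [Finset.sum_congr rfl (g := fun w : C => (q : ℂ) * (χ : G → ℂ) (x * (w : G))) fun w hw => by
      rw [hbp w (Finset.mem_filter.1 hw).2]; rfl, ← Finset.mul_sum] at h
    exact (mul_eq_zero.1 h).resolve_left hq0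

end Cfsg.Agent.RegularOrbit
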