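import Cfsg.Agent.Lib.Blocks.RegularOrbit.FreePrime
import Cfsg.Agent.S4569

/-!
The rank and number of characters of the principal 2-block for a prime inertial index, and the
number when some involution of an abelian Sylow 2-subgroup of order eight or sixteen has the
centraliser as its stabiliser.
-/

set_option autoImplicit false
set_option linter.style.haveILetI false
set_option linter.unusedSectionVars false

namespace Cfsg.Agent.RegularOrbit

open Cfsg Cfsg.Agent.Blocks Cfsg.Agent.Char Cfsg.Agent.BrauerPairs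

universe u

theorem eq_one_of_orderOf {G : Type u} [Group G] {x : G} (hx : orderOf x = 2) : x ≠ 1 := fun e => by
  rw [e, orderOf_one] at hx
  omega

/-- A nontrivial element fixed by the normaliser gives an involution fixed by it. -/
theorem exists_fixed_involution {G : Type u} [Group G] [Finite G] {P : Sylow 2 G} {u : G}
    (hu : u ∈ (P : Subgroup G)) (hu1 : u ≠ 1) (hfix : ∀ n ∈ nN P, n * u * n⁻¹ = u) :
    ∃ z ∈ (P : Subgroup G), orderOf z = 2 ∧ ∀ n ∈ nN P, n * z * n⁻¹ = z := by
  haveI : Fact (Nat.Prime 2) := ⟨Nat.prime_two⟩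
  obtain ⟨k, hk⟩ := IsPGroup.iff_orderOf.1 P.isPGroup' ⟨u, hu⟩
  rw [Subgroup.orderOf_mk] at hk
  rcases k with _ | k
  · exact absurd (orderOf_eq_one_iff.1 (by simpa using hk)) hu1
  refine ⟨u ^ 2 ^ k, pow_mem hu _, ?_, fun n hn => by rw [← conj_pow, hfix n hn]⟩
  rw [orderOf_pow' u (pow_ne_zero _ two_ne_zero), hk, Nat.gcd_eq_right (pow_dvd_pow 2 (Nat.le_succ k)),
    pow_succ, Nat.mul_div_cancel_left _ (pow_pos two_pos k)]

/-- With a prime inertial index the rank is that index. -/
theorem rank_prime : ∀ (n : ℕ) (G : Type u) [Group G] [Fintype G] (M : Ideal AlgInt) [M.IsPrime]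
    (_ : IsPModular 2 M) (P : Sylow 2 G) (x : G) (_ : Orbit P x)
    (_ : Nat.card (P : Subgroup G) = n) (_ : (eIdx P).Prime),
    blockRank 2 (principalBlock M G) = eIdx P := by
  intro n
  induction n using Nat.strong_induction_on with
  | _ n ih =>
    intro G _ _ M _ hM P x hO hn he
    by_cases hfree : ∀ n ∈ nN P, ∀ u ∈ (P : Subgroup G), u ≠ 1 → n * u * n⁻¹ = u → n ∈ cC P
    · exact (free_prime hM hO hfree he).1
    push Not at hfree
    obtain ⟨g, hg, u, hu, hu1, hgu, hgC⟩ := hfree
    have hfix := (fixed_or_stab he hu).resolve_right fun h => hgC (h g hg hgu)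
    obtain ⟨z, hz, hzo, hzfix⟩ := exists_fixed_involution hu hu1 hfix
    obtain ⟨Q, _, _, S, y, hOS, heS, hcardS, hrank⟩ :=
      exists_quotient hM hO hz hzo hzfix he.ne_one
    have hpos : 0 < Nat.card (S : Subgroup Q) := Nat.card_pos
    rw [← hrank, ← heS]
    exact ih (Nat.card (S : Subgroup Q)) (by omega) Q M hM S y hOS rfl (heS ▸ he)

variable {G : Type u} [Group G] [Fintype G] {M : Ideal AlgInt} [M.IsPrime] {P : Sylow 2 G} {x : G}

/-- The count over the classes of 2-elements for a prime index. -/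
theorem count_prime (hM : IsPModular 2 M) (hO : Orbit P x) (he : (eIdx P).Prime) :
    ∃ F, F = Nat.card ↥((P : Subgroup G) ⊓ Subgroup.centralizer (nN P : Set G)) ∧
      F ∣ Nat.card (P : Subgroup G) ∧ 0 < F ∧ F + eIdx P ≤ Nat.card (P : Subgroup G) ∧
      (F = 1 → ∀ n ∈ nN P, ∀ u ∈ (P : Subgroup G), u ≠ 1 → n * u * n⁻¹ = u → n ∈ cC P) ∧
      Nat.card (principalBlock M G) * eIdx P =
        F * (eIdx P * eIdx P) + (Nat.card (P : Subgroup G) - F) := by
  classical
  haveI : Fact (Nat.Prime 2) := ⟨Nat.prime_two⟩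
  let Fix : Subgroup G := (P : Subgroup G) ⊓ Subgroup.centralizer (nN P : Set G)
  have hFixmem : ∀ u, u ∈ Fix ↔ u ∈ (P : Subgroup G) ∧ ∀ n ∈ nN P, n * u * n⁻¹ = u := fun u =>
    ⟨fun h => ⟨h.1, fun n hn => mul_inv_eq_iff_eq_mul.2 (Subgroup.mem_centralizer_iff.1 h.2 n hn)⟩,
      fun h => ⟨h.1, Subgroup.mem_centralizer_iff.2 fun n hn => mul_inv_eq_iff_eq_mul.1 (h.2 n hn)⟩⟩
  set Pf := Finset.univ.filter fun u : G => u ∈ (P : Subgroup G) with hPf
  have hPmem : ∀ u, u ∈ Pf ↔ u ∈ (P : Subgroup G) := fun u => by simp [hPf]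
  have hPcard : Pf.card = Nat.card (P : Subgroup G) := by
    rw [Nat.card_eq_fintype_card, Fintype.card_subtype]
  set Ff := Pf.filter (· ∈ Fix) with hFf
  have hFcard : Ff.card = Nat.card Fix := by
    rw [Nat.card_eq_fintype_card, Fintype.card_subtype, hFf, hPf, Finset.filter_filter]
    exact congrArg Finset.card (Finset.filter_congr fun u _ => ⟨fun h => h.2, fun h => ⟨h.1, h⟩⟩)
  have hxFix : ∀ n ∈ nN P, n * x * n⁻¹ ∉ Fix := by
    intro n hn h
    have hfix : ∀ m ∈ nN P, m * x * m⁻¹ = x := by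
      intro m hm
      have h1 := ((hFixmem _).1 h).2 n⁻¹ (inv_mem hn)
      have h2 : n⁻¹ * (n * x * n⁻¹) * n⁻¹⁻¹ = x := by group
      rw [h2] at h1
      have h3 := ((hFixmem _).1 h).2 m hm
      rw [← h1] at h3
      exact h3
    exact he.ne_one (Subgroup.relIndex_eq_one.2 fun m hm => hO.stab m hm (hfix m hm))
  refine ⟨Nat.card Fix, rfl, Subgroup.card_dvd_of_le inf_le_left, Nat.card_pos, ?_, ?_, ?_⟩
  · have h : eIdx P ≤ (Pf \ Ff).card := by
      have h := eIdx_le_card hO.mem hO.stab {v : G | v ∈ Pf \ Ff} fun n hn =>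
        Finset.mem_sdiff.2 ⟨(hPmem _).2 (mem_P_of_conj hn hO.mem), fun h =>
          hxFix n hn (Finset.mem_filter.1 h).2⟩
      rwa [Nat.card_eq_fintype_card, Fintype.card_subtype,
        show (Finset.univ.filter fun v : G => v ∈ {v : G | v ∈ Pf \ Ff}) = Pf \ Ff from Finset.ext fun v => by simp] at h
    rw [Finset.card_sdiff_of_subset (Finset.filter_subset _ _), hFcard, hPcard] at h
    have := Subgroup.card_le_of_le (show Fix ≤ (P : Subgroup G) from inf_le_left)
    omega
  · intro h1 n hn u hu hu1 hnu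
    refine (fixed_or_stab he hu).elim (fun h => absurd ?_ hu1) fun h => h n hn hnu
    have := Subgroup.card_eq_one.1 h1
    exact Subgroup.mem_bot.1 (this ▸ (hFixmem u).2 ⟨hu, h⟩)
  -- representatives in the Sylow subgroup
  let rep : ConjClasses G → G := fun c =>
    if h : ∃ v ∈ (P : Subgroup G), ConjClasses.mk v = c then h.choose else 1
  have hrep : ∀ u ∈ (P : Subgroup G), rep (ConjClasses.mk u) ∈ (P : Subgroup G) ∧
      IsConj u (rep (ConjClasses.mk u)) := by
    intro u hu
    have h : ∃ v ∈ (P : Subgroup G), ConjClasses.mk v = ConjClasses.mk u := ⟨u, hu, rfl⟩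
    simp only [rep, dif_pos h]
    exact ⟨h.choose_spec.1, (ConjClasses.mk_eq_mk_iff_isConj.1 h.choose_spec.2).symm⟩
  let r : G → G := fun u => rep (ConjClasses.mk u)
  have hrr : ∀ u v, IsConj u v → r u = r v := fun u v h =>
    congrArg rep (ConjClasses.mk_eq_mk_iff_isConj.2 h)
  set X := Pf.image r with hX
  have hXmem : ∀ y ∈ X, y ∈ (P : Subgroup G) ∧ r y = y := by
    intro y hy
    obtain ⟨u, hu, rfl⟩ := Finset.mem_image.1 hy
    obtain ⟨h1, h2⟩ := hrep u ((hPmem u).1 hu)
    exact ⟨h1, hrr _ _ h2.symm⟩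
  have hpow : ∀ y ∈ (P : Subgroup G), ∃ k : ℕ, orderOf y = 2 ^ k := fun y hy => by
    obtain ⟨k, hk⟩ := IsPGroup.iff_orderOf.1 P.isPGroup' ⟨y, hy⟩
    exact ⟨k, by rw [← hk, ← Subgroup.orderOf_coe]⟩
  have hcount := card_eq_sum_blockRank hM (isPBlock_principalBlock M G) X
    (fun y hy => hpow y (hXmem y hy).1) (fun g hg => by
      obtain ⟨v, hv, hgv⟩ := conj_into (P := P) hg
      refine ⟨r v, ⟨Finset.mem_image_of_mem r ((hPmem v).2 hv), hgv.trans (hrep v hv).2⟩, ?_⟩
      rintro y ⟨hy, hgy⟩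
      rw [← (hXmem y hy).2]
      exact hrr _ _ (hgy.symm.trans hgv))
  have hl : blockRank 2 (principalBlock M G) = eIdx P :=
    rank_prime _ G M hM P x hO rfl he
  rw [hcount, Finset.sum_mul]
  have hfibre : ∀ y ∈ X, ∀ v, v ∈ Pf.filter (fun v => r v = y) ↔
      v ∈ (P : Subgroup G) ∧ ∃ n ∈ nN P, n * y * n⁻¹ = v := by
    intro y hy v
    rw [Finset.mem_filter, hPmem]
    refine and_congr_right fun hv => ⟨fun e => ?_, fun ⟨n, _, e⟩ => ?_⟩
    · exact fusion hO.comm (hXmem y hy).1 hv (e ▸ (hrep v hv).2.symm)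
    · rw [← hrr y v (isConj_iff.2 ⟨n, e⟩), (hXmem y hy).2]
  have hterm : ∀ y ∈ X,
      (∑ᶠ b ∈ {b : Set (IrrCharacter ↥(Subgroup.centralizer ({y} : Set G))) |
        IsInducedBlock M (Subgroup.centralizer ({y} : Set G)) b (principalBlock M G)},
          blockRank 2 b) * eIdx P =
      ∑ v ∈ Pf.filter (fun v => r v = y), if v ∈ Fix then eIdx P * eIdx P else 1 := by
    intro y hy
    obtain ⟨hyP, -⟩ := hXmem y hy
    haveI : Fintype (Subgroup.centralizer ({y} : Set G)) := Fintype.ofFinite _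
    rw [RankFourNine.induced_sum hM (hpow y hyP) rfl]
    by_cases hfix : ∀ n ∈ nN P, n * y * n⁻¹ = y
    · have e : Pf.filter (fun v => r v = y) = {y} := by
        ext v
        rw [hfibre y hy, Finset.mem_singleton]
        refine ⟨fun ⟨_, n, hn, e⟩ => by rw [← e, hfix n hn], fun e => by subst e; exact ⟨hyP, 1, one_mem _, by simp⟩⟩
      rw [e, Finset.sum_singleton, if_pos ((hFixmem y).2 ⟨hyP, hfix⟩),
        fixed_rank hM hO.comm hyP hfix rfl, hl]
    · have hstab := (fixed_or_stab he hyP).resolve_left hfix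
      rw [stab_rank hM hO.comm hyP hstab rfl, one_mul, Finset.sum_congr rfl (g := fun _ => 1)
        fun v hv => if_neg fun hvF => hfix ?_, Finset.sum_const, smul_eq_mul, mul_one]
      · rw [← card_orbit hyP hstab, Nat.card_eq_fintype_card, Fintype.card_subtype]
        refine congrArg Finset.card (Finset.ext fun v => ?_)
        rw [hfibre y hy, Finset.mem_filter]
        exact ⟨fun ⟨_, n, hn, e⟩ => ⟨hn |> fun _ => e ▸ mem_P_of_conj hn hyP, n, hn, e⟩,
          fun ⟨_, h⟩ => ⟨Finset.mem_univ _, h⟩⟩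
      · obtain ⟨-, n, hn, e⟩ := (hfibre y hy v).1 hv
        have hy' : n⁻¹ * v * n⁻¹⁻¹ = v := ((hFixmem v).1 hvF).2 _ (inv_mem hn)
        have : v = y := by rw [← hy', ← e]; group
        exact fun m hm => by rw [← this]; exact ((hFixmem v).1 hvF).2 m hm
  rw [Finset.sum_congr rfl hterm, Finset.sum_fiberwise_of_maps_to
    (fun v hv => Finset.mem_image_of_mem r hv), Finset.sum_ite, Finset.sum_const, Finset.sum_const,
    smul_eq_mul, smul_eq_mul, mul_one, ← hFf, hFcard]
  congr 1
  rw [Finset.filter_not, Finset.card_sdiff_of_subset (Finset.filter_subset _ _), ← hFf, hFcard,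
    hPcard]

/-- The counts. -/
theorem counts (hM : IsPModular 2 M) (hO : Orbit P x) :
    (Nat.card (P : Subgroup G) = 8 → Nat.card (principalBlock M G) = 8) ∧
      (Nat.card (P : Subgroup G) = 16 →
        Nat.card (principalBlock M G) = 8 ∨ Nat.card (principalBlock M G) = 16) := by
  classical
  suffices h : Nat.card (P : Subgroup G) = 8 ∨ Nat.card (P : Subgroup G) = 16 →
      Nat.card (principalBlock M G) = Nat.card (P : Subgroup G) ∨
        (Nat.card (P : Subgroup G) = 16 ∧ Nat.card (principalBlock M G) = 8) by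
    refine ⟨fun h8 => ?_, fun h16 => ?_⟩
    · rcases h (Or.inl h8) with h1 | h1 <;> omega
    · rcases h (Or.inr h16) with h1 | h1 <;> omega
  intro hq
  have hx1 := eq_one_of_orderOf hO.ord
  have hodd := eIdx_odd hO.comm
  have hxx : x * x = 1 := by rw [← pow_two, ← hO.ord, pow_orderOf_eq_one]
  have hcard1 : Nat.card {v : G | v ∈ (P : Subgroup G) ∧ v ≠ 1} + 1 =
      Nat.card (P : Subgroup G) := by
    rw [Nat.card_eq_fintype_card, Fintype.card_subtype, Nat.card_eq_fintype_card,
      Fintype.card_subtype]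
    simp only [Set.mem_setOf_eq]
    have e : (Finset.univ.filter fun v : G => v ∈ (P : Subgroup G) ∧ v ≠ 1) =
        (Finset.univ.filter fun v : G => v ∈ (P : Subgroup G)).erase 1 := by
      ext v; simp [and_comm]
    rw [e, Finset.card_erase_add_one (by simp)]
  have horb : {v : G | ∃ n ∈ nN P, n * x * n⁻¹ = v} ⊆ {v : G | v ∈ (P : Subgroup G) ∧ v ≠ 1} := by
    rintro v ⟨n, hn, rfl⟩
    exact ⟨mem_P_of_conj hn hO.mem, fun e => hx1 (conj_eq_one_iff.1 e)⟩
  have hebound : eIdx P + 1 ≤ Nat.card (P : Subgroup G) := by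
    have h := eIdx_le_card hO.mem hO.stab _ (fun n hn => horb ⟨n, hn, rfl⟩)
    omega
  have hfreecase : (∀ n ∈ nN P, ∀ u ∈ (P : Subgroup G), u ≠ 1 → n * u * n⁻¹ = u → n ∈ cC P) →
      Nat.card (principalBlock M G) = Nat.card (P : Subgroup G) ∨
        (Nat.card (P : Subgroup G) = 16 ∧ Nat.card (principalBlock M G) = 8) := by
    intro hfree
    obtain ⟨m, hm, -, hk⟩ := free_counts hM hO hfree (by omega)
    rw [hk]
    have hmle : m ≤ 15 := by
      have := eIdx_pos (P := P)
      have h2 : m ≤ m * eIdx P := Nat.le_mul_of_pos_right _ this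
      omega
    rcases hq with h8 | h16
    · left
      rw [h8] at hm ⊢
      have : eIdx P ≤ 7 := by omega
      generalize eIdx P = e at *
      interval_cases e <;> omega
    · rw [h16] at hm ⊢
      have : eIdx P ≤ 15 := by omega
      generalize eIdx P = e at *
      interval_cases e <;> omega
  have hprimecase : (eIdx P).Prime →
      Nat.card (principalBlock M G) = Nat.card (P : Subgroup G) ∨
        (Nat.card (P : Subgroup G) = 16 ∧ Nat.card (principalBlock M G) = 8) := by
    intro he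
    obtain ⟨F, -, hFd, hF0, hFe, hF1, hk⟩ := count_prime hM hO he
    by_cases hF : F = 1
    · exact hfreecase (hF1 hF)
    left
    have he2 := he.two_le
    rcases hq with h8 | h16
    · rw [h8] at hFd hFe hk ⊢
      have hF8 : F ≤ 8 := Nat.le_of_dvd (by norm_num) hFd
      have : eIdx P ≤ 7 := by omega
      generalize eIdx P = e at *
      interval_cases F <;> first | omega | (interval_cases e <;> omega)
    · rw [h16] at hFd hFe hk ⊢
      have hF16 : F ≤ 16 := Nat.le_of_dvd (by norm_num) hFd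
      have : eIdx P ≤ 15 := by omega
      generalize eIdx P = e at *
      interval_cases F <;> first | omega | (interval_cases e <;> omega)
  by_cases h1 : eIdx P = 1
  · exact hfreecase fun n hn _ _ _ _ => (Subgroup.relIndex_eq_one.1 h1) hn
  by_cases hp : (eIdx P).Prime
  · exact hprimecase hp
  have h16 : Nat.card (P : Subgroup G) = 16 ∧ (eIdx P = 9 ∨ eIdx P = 15) := by
    have he0 := eIdx_pos (P := P)
    have : eIdx P ≤ 15 := by omega
    generalize eIdx P = e at *
    interval_cases e <;> first | omega | (exfalso; exact hp (by norm_num))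
  rcases h16.2 with h9 | h15
  · left
    have hel : ∀ a : P, a ^ 2 = 1 := by
      let Ω : Subgroup G :=
        { carrier := {v | v ∈ (P : Subgroup G) ∧ v * v = 1}
          mul_mem' := fun {a b} ha hb => ⟨mul_mem ha.1 hb.1, by
            rw [show a * b * (a * b) = a * (b * a) * b by group, hO.comm b hb.1 a ha.1,
              show a * (a * b) * b = a * a * (b * b) by group, ha.2, hb.2, mul_one]⟩
          one_mem' := ⟨one_mem _, mul_one 1⟩
          inv_mem' := fun {a} ha => ⟨inv_mem ha.1, by rw [← mul_inv_rev, ha.2, inv_one]⟩ }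
      have hle : Ω ≤ (P : Subgroup G) := fun v hv => hv.1
      have h := eIdx_le_card hO.mem hO.stab (Ω : Set G) fun n hn =>
        ⟨mem_P_of_conj hn hO.mem, by
          rw [show n * x * n⁻¹ * (n * x * n⁻¹) = n * (x * x) * n⁻¹ by group, hxx]; group⟩
      have hd := Subgroup.card_dvd_of_le hle
      rw [h16.1] at hd
      have hle16 : Nat.card Ω ≤ 16 := Nat.le_of_dvd (by norm_num) hd
      rw [h9] at h
      change 9 ≤ Nat.card Ω at h
      have hΩ : Nat.card Ω = 16 := by
        generalize Nat.card Ω = c at *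
        interval_cases c <;> omega
      have heq := Subgroup.eq_of_le_of_card_ge hle (by rw [hΩ, h16.1])
      intro a
      have ha : (a : G) ∈ Ω := heq.symm ▸ a.2
      exact Subtype.ext (by rw [pow_two]; exact ha.2)
    rw [h16.1]
    exact (Cfsg.Agent.S4569.result M hM P h16.1 hel h9).1
  · refine hfreecase fun n hn u hu hu1 hnu => ?_
    have heq : {v : G | ∃ n ∈ nN P, n * x * n⁻¹ = v} = {v : G | v ∈ (P : Subgroup G) ∧ v ≠ 1} := by
      refine Set.eq_of_subset_of_ncard_le horb ?_ (Set.toFinite _)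
      rw [← Nat.card_coe_set_eq, ← Nat.card_coe_set_eq,
        show Nat.card {v : G | ∃ n ∈ nN P, n * x * n⁻¹ = v} = eIdx P from card_orbit hO.mem hO.stab]
      omega
    obtain ⟨k, hk, rfl⟩ : u ∈ {v : G | ∃ n ∈ nN P, n * x * n⁻¹ = v} := by rw [heq]; exact ⟨hu, hu1⟩
    have h := hO.stab (k⁻¹ * n * k) (mul_mem (mul_mem (inv_mem hk) hn) hk) (by
      calc k⁻¹ * n * k * x * (k⁻¹ * n * k)⁻¹ = k⁻¹ * (n * (k * x * k⁻¹) * n⁻¹) * k := by group
        _ = x := by rw [hnu]; group)
    haveI := cC_normal (P := P)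
    have h' := (cC_normal (P := P)).conj_mem ⟨_, cC_le_nN h⟩ (Subgroup.mem_subgroupOf.2 h) ⟨k, hk⟩
    simpa [mul_assoc] using Subgroup.mem_subgroupOf.1 h'

end Cfsg.Agent.RegularOrbit
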