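import Cfsg.Agent.Lib.Blocks.RegularOrbit.Indicator
import Cfsg.Agent.Lib.Involutions.SwapCount
import Cfsg.Agent.Lib.Char.Induction
import Mathlib.GroupTheory.FiniteAbelian.Duality
import Mathlib.RingTheory.RootsOfUnity.AlgebraicallyClosed
import Mathlib.Analysis.Complex.Polynomial.Basic

/-!
Characters induced from the linear characters of a strongly embedded subgroup, and the count of
the principal 2-block they force.
-/

set_option autoImplicit false
set_option linter.style.haveILetI false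
set_option linter.unusedSectionVars false

namespace Cfsg.Agent.RegularOrbit

open Cfsg Cfsg.Agent.Blocks Cfsg.Agent.Char
open scoped ComplexConjugate

universe u w

variable {G : Type u} [Group G] [Fintype G] {A : Type w} [CommGroup A] [Finite A]

theorem card_dual (A : Type w) [CommGroup A] [Finite A] :
    Nat.card (A →* ℂˣ) = Nat.card A :=
  CommGroup.card_monoidHom_of_hasEnoughRootsOfUnity A ℂ

theorem conj_hom (l : A →* ℂˣ) (a : A) : conj (l a : ℂ) = ((l⁻¹) a : ℂ) := by
  have h : (l a : ℂ) ^ Nat.card A = 1 := by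
    rw [← Units.val_pow_eq_pow_val, ← map_pow, pow_card_eq_one', map_one, Units.val_one]
  have hn : ‖(l a : ℂ)‖ = 1 := Complex.norm_eq_one_of_pow_eq_one h Nat.card_pos.ne'
  rw [MonoidHom.inv_apply, Units.val_inv_eq_inv_val, Complex.inv_def,
    Complex.normSq_eq_norm_sq, hn]
  simp

theorem dual_inv_ne (hodd : ¬ 2 ∣ Nat.card A) {l : A →* ℂˣ} (hl : l ≠ 1) : l⁻¹ ≠ l := by
  intro h
  apply hl
  ext z
  have h1 : (l z)⁻¹ = l z := by
    conv_rhs => rw [← h]
    rfl
  have h2 : l z * l z = 1 := mul_eq_one_iff_eq_inv.2 h1.symm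
  have hn : l z ^ Nat.card A = 1 := by rw [← map_pow, pow_card_eq_one', map_one]
  obtain ⟨k, hk⟩ : ∃ k, Nat.card A = 2 * k + 1 := ⟨Nat.card A / 2, by omega⟩
  rw [hk, pow_succ, pow_mul, pow_two, h2, one_pow, one_mul] at hn
  rw [hn, MonoidHom.one_apply]

variable {H : Subgroup G} {φ : H →* A}

/-- A linear character pulled back to the subgroup. -/
def lam (φ : H →* A) (l : A →* ℂˣ) : H → ℂ := fun m => (l (φ m) : ℂ)

theorem isIrr_lam (l : A →* ℂˣ) : IsIrrCharacter H (lam φ l) :=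
  isIrrCharacter_linear (l.comp φ)

theorem sum_lam [Fintype H] (hsurj : Function.Surjective φ) {l : A →* ℂˣ} (hl : l ≠ 1) :
    ∑ m : H, lam φ l m = 0 := by
  obtain ⟨a, ha⟩ : ∃ a, l a ≠ 1 := by
    by_contra h
    push Not at h
    exact hl (MonoidHom.ext h)
  obtain ⟨m₀, rfl⟩ := hsurj a
  have h : (l (φ m₀) : ℂ) * ∑ m : H, lam φ l m = ∑ m : H, lam φ l m := by
    rw [Finset.mul_sum]
    exact Fintype.sum_equiv (Equiv.mulLeft m₀) _ _ fun m => by simp [lam]
  have h' : ((l (φ m₀) : ℂ) - 1) * ∑ m : H, lam φ l m = 0 := by rw [sub_mul, one_mul, h, sub_self]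
  exact (mul_eq_zero.1 h').resolve_left fun e => ha (Units.ext (sub_eq_zero.1 e))

variable [Fintype H]

/-- The inner product of two induced linear characters. -/
theorem inner_induced [DecidableEq (A →* ℂˣ)] (hH : IsStronglyEmbedded H) {x : G} (hx : orderOf x = 2) (hxH : x ∈ H)
    (hker : ∀ m : H, Commute (m : G) x → φ m = 1) (hsurj : Function.Surjective φ)
    (a b : A →* ℂˣ) (hab : b ≠ a⁻¹) :
    classInner (indFun H (lam φ a)) (indFun H (lam φ b)) = if a = b then 1 else 0 := by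
  classical
  rw [classInner_indFun_right H _ (isClassFunction_indFun H _)]
  simp only [classInner, indFun_apply, Finset.mul_sum, Finset.sum_mul]
  rw [Finset.sum_comm]
  have key : ∀ g : G, ∑ m : H, extendByZero H (lam φ a) (g⁻¹ * (m : G) * g) * conj (lam φ b m) =
      if g ∈ H then (if a = b then (Nat.card H : ℂ) else 0) else 0 := by
    intro g
    by_cases hg : g ∈ H
    · rw [if_pos hg]
      have e : ∀ m : H, extendByZero H (lam φ a) (g⁻¹ * (m : G) * g) * conj (lam φ b m) =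
          lam φ (a * b⁻¹) m := by
        intro m
        rw [extendByZero_mem H _ (mul_mem (mul_mem (inv_mem hg) m.2) hg)]
        have e1 : (⟨g⁻¹ * (m : G) * g, mul_mem (mul_mem (inv_mem hg) m.2) hg⟩ : H) =
            (⟨g, hg⟩ : H)⁻¹ * m * ⟨g, hg⟩ := rfl
        have e3 : φ ⟨g⁻¹ * (m : G) * g, mul_mem (mul_mem (inv_mem hg) m.2) hg⟩ = φ m := by
          rw [e1, map_mul, map_mul, map_inv, mul_comm _ (φ ⟨g, hg⟩), mul_inv_cancel_left]
        simp [lam, e3, conj_hom]
      rw [Finset.sum_congr rfl fun m _ => e m]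
      by_cases hab' : a = b
      · subst hab'
        rw [if_pos rfl, Finset.sum_congr rfl (g := fun _ => (1 : ℂ)) fun m _ => by simp [lam]]
        simp [Nat.card_eq_fintype_card]
      · rw [if_neg hab']
        exact sum_lam hsurj fun h => hab' (mul_inv_eq_one.1 h)
    · rw [if_neg hg]
      set I := ∑ m : H, extendByZero H (lam φ a) (g⁻¹ * (m : G) * g) * conj (lam φ b m) with hI
      by_contra hne
      -- every value of the action is inverted
      refine hab (MonoidHom.ext fun α => ?_)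
      obtain ⟨m, rfl⟩ := hsurj α
      have hxy : ((1 : G) : G ⧸ H) ≠ (g : G ⧸ H) := by
        rw [Ne, QuotientGroup.eq, inv_one, one_mul]; exact hg
      have hfix1 : ∀ v : G, orderOf v = 2 → v ∈ H → v • ((1 : G) : G ⧸ H) = ((1 : G) : G ⧸ H) := by
        intro v hv hvH
        rw [MulAction.Quotient.smul_mk, QuotientGroup.eq, smul_eq_mul, mul_one, mul_one]
        exact inv_mem hvH
      have hgx : (g * x * g⁻¹) • (g : G ⧸ H) = (g : G ⧸ H) := by
        rw [MulAction.Quotient.smul_mk, QuotientGroup.eq, smul_eq_mul]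
        simpa using inv_mem hxH
      obtain ⟨w₀, hw₀, hw₀x, -⟩ := Invol.se_swap hH hx (by rw [Invol.order_conj, hx] :
        orderOf (g * x * g⁻¹) = 2) (hfix1 x hx hxH) hgx hxy
      have hw₀y : w₀ • (g : G ⧸ H) = ((1 : G) : G ⧸ H) := by
        rw [← hw₀x, ← mul_smul, Invol.mul_self hw₀, one_smul]
      set t := (m : G) * x * (m : G)⁻¹ with ht
      have htH : t ∈ H := mul_mem (mul_mem m.2 hxH) (inv_mem m.2)
      have hto : orderOf t = 2 := by rw [ht, Invol.order_conj, hx]
      have htfix : (w₀ * t * w₀⁻¹) • (g : G ⧸ H) = (g : G ⧸ H) := by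
        rw [Invol.inv_self hw₀, mul_smul, mul_smul, hw₀y, hfix1 t hto htH, hw₀x]
      obtain ⟨w, hwo, hwx, hwc⟩ := Invol.se_swap hH hx (by rw [Invol.order_conj, hto] :
        orderOf (w₀ * t * w₀⁻¹) = 2) (hfix1 x hx hxH) htfix hxy
      set j := w₀ * w with hj
      have hjH : j ∈ H := by
        have h : j • ((1 : G) : G ⧸ H) = ((1 : G) : G ⧸ H) := by rw [hj, mul_smul, hwx, hw₀y]
        rw [MulAction.Quotient.smul_mk, QuotientGroup.eq, smul_eq_mul, mul_one, mul_one] at h
        simpa using inv_mem h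
      have hjx : j * x * j⁻¹ = t := by
        rw [hj, show w₀ * w * x * (w₀ * w)⁻¹ = w₀ * (w * x * w⁻¹) * w₀⁻¹ by group, hwc,
          Invol.inv_self hw₀, show w₀ * (w₀ * t * w₀) * w₀ = w₀ * w₀ * t * (w₀ * w₀) by group,
          Invol.mul_self hw₀, one_mul, mul_one]
      have hφj : φ ⟨j, hjH⟩ = φ m := by
        have h1 : φ (m⁻¹ * ⟨j, hjH⟩) = 1 := hker _ (by
          show (m : G)⁻¹ * j * x = x * ((m : G)⁻¹ * j)
          calc (m : G)⁻¹ * j * x = (m : G)⁻¹ * (j * x * j⁻¹) * j := by group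
            _ = (m : G)⁻¹ * t * j := by rw [hjx]
            _ = x * ((m : G)⁻¹ * j) := by rw [ht]; group)
        rw [map_mul, map_inv, inv_mul_eq_one] at h1
        exact h1.symm
      have hh₀ : w₀⁻¹ * g ∈ H := by
        have h : w₀⁻¹ • (g : G ⧸ H) = ((1 : G) : G ⧸ H) := by
          rw [← hw₀x, inv_smul_smul]
        rw [MulAction.Quotient.smul_mk, QuotientGroup.eq, smul_eq_mul, mul_one] at h
        exact (inv_mem_iff (H := H)).1 h
      have hjconj : g⁻¹ * j * g ∈ H ∧ ∀ hm : g⁻¹ * j * g ∈ H,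
          φ ⟨g⁻¹ * j * g, hm⟩ = (φ ⟨j, hjH⟩)⁻¹ := by
        have e : g⁻¹ * j * g = (w₀⁻¹ * g)⁻¹ * j⁻¹ * (w₀⁻¹ * g) := by
          rw [hj, mul_inv_rev, mul_inv_rev, inv_inv, Invol.inv_self hw₀, Invol.inv_self hwo]
          calc g⁻¹ * (w₀ * w) * g = g⁻¹ * w₀ * (w * (1 : G)) * g := by group
            _ = g⁻¹ * w₀ * (w * (w₀ * w₀)) * g := by rw [Invol.mul_self hw₀]
            _ = g⁻¹ * w₀ * (w * w₀) * (w₀ * g) := by group
        refine ⟨e ▸ mul_mem (mul_mem (inv_mem hh₀) (inv_mem hjH)) hh₀, fun hm => ?_⟩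
        have e' : (⟨g⁻¹ * j * g, hm⟩ : H) = (⟨_, hh₀⟩ : H)⁻¹ * (⟨j, hjH⟩ : H)⁻¹ * ⟨_, hh₀⟩ :=
          Subtype.ext e
        rw [e', map_mul, map_mul, map_inv, map_inv, mul_comm _ (φ ⟨_, hh₀⟩), mul_inv_cancel_left]
      set c : ℂ := (a (φ m) : ℂ)⁻¹ * conj (b (φ m) : ℂ) with hc
      have hcI : c * I = I := by
        rw [hI, Finset.mul_sum]
        refine Fintype.sum_equiv (Equiv.mulRight (⟨j, hjH⟩ : H)) _ _ fun y => ?_
        simp only [Equiv.coe_mulRight, Subgroup.coe_mul]
        rw [show g⁻¹ * ((y : G) * j) * g = g⁻¹ * (y : G) * g * (g⁻¹ * j * g) by group]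
        by_cases hy : g⁻¹ * (y : G) * g ∈ H
        · rw [extendByZero_mem H _ hy, extendByZero_mem H _ (mul_mem hy hjconj.1)]
          have e1 : (⟨g⁻¹ * (y : G) * g * (g⁻¹ * j * g), mul_mem hy hjconj.1⟩ : H) =
              (⟨_, hy⟩ : H) * ⟨_, hjconj.1⟩ := rfl
          simp only [lam, e1, map_mul, Units.val_mul, hjconj.2, hφj, map_inv,
            Units.val_inv_eq_inv_val, hc]
          ring
        · rw [extendByZero_not_mem H _ hy, extendByZero_not_mem H _ fun h => hy (by
            have := mul_mem h (inv_mem hjconj.1)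
            rwa [mul_inv_cancel_right] at this)]
          simp
      have hc1 : c = 1 := by
        have h : (c - 1) * I = 0 := by rw [sub_mul, hcI, one_mul, sub_self]
        exact sub_eq_zero.1 ((mul_eq_zero.1 h).resolve_right hne)
      rw [hc, conj_hom, MonoidHom.inv_apply, ← Units.val_inv_eq_inv_val, ← Units.val_mul,
        Units.val_eq_one, ← mul_inv, inv_eq_one] at hc1
      rw [MonoidHom.inv_apply]
      exact (inv_eq_of_mul_eq_one_right hc1).symm
  simp only [mul_assoc ((Nat.card H : ℂ)⁻¹), ← Finset.mul_sum]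
  rw [Finset.sum_congr rfl fun g _ => key g, ← Finset.sum_filter, Finset.sum_const,
    nsmul_eq_mul]
  have hcard : ((Finset.univ.filter fun g : G => g ∈ H).card : ℂ) = (Nat.card H : ℂ) := by
    rw [Nat.card_eq_fintype_card, Fintype.card_subtype]
  rw [hcard]
  have hH0 : (Nat.card H : ℂ) ≠ 0 := Nat.cast_ne_zero.2 Nat.card_pos.ne'
  split_ifs
  · field_simp
  · simp

theorem conj_induced (a : A →* ℂˣ) (g : G) :
    conj (indFun H (lam φ a) g) = indFun H (lam φ a⁻¹) g := by
  simp only [indFun_apply, map_mul, map_inv₀, map_natCast, map_sum]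
  refine congrArg _ (Finset.sum_congr rfl fun y _ => ?_)
  by_cases hy : y⁻¹ * g * y ∈ H
  · rw [extendByZero_mem H _ hy, extendByZero_mem H _ hy]
    exact conj_hom a _
  · rw [extendByZero_not_mem H _ hy, extendByZero_not_mem H _ hy, map_zero]

theorem induced_section (hH : IsStronglyEmbedded H) {x : G} (hx : orderOf x = 2) (hxH : x ∈ H)
    (hker : ∀ m : H, Commute (m : G) x → φ m = 1) (a : A →* ℂˣ) {v : G} (hv : Commute v x)
    (hv2 : ¬ 2 ∣ orderOf v) : indFun H (lam φ a) (x * v) = 1 := by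
  classical
  rw [indFun_apply]
  have hvH : v ∈ H := Invol.se_centralizer_le hH hx hxH
    (Subgroup.mem_centralizer_singleton_iff.2 hv.eq)
  have e : ∀ y : G, extendByZero H (lam φ a) (y⁻¹ * (x * v) * y) = if y ∈ H then 1 else 0 := by
    intro y
    by_cases hy : y ∈ H
    · rw [if_pos hy, extendByZero_mem H _ (mul_mem (mul_mem (inv_mem hy) (mul_mem hxH hvH)) hy)]
      have e1 : (⟨y⁻¹ * (x * v) * y, mul_mem (mul_mem (inv_mem hy) (mul_mem hxH hvH)) hy⟩ : H) =
          (⟨y, hy⟩ : H)⁻¹ * (⟨x, hxH⟩ * ⟨v, hvH⟩) * ⟨y, hy⟩ := rfl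
      simp only [lam, e1, map_mul, map_inv, hker ⟨x, hxH⟩ (Commute.refl x),
        hker ⟨v, hvH⟩ hv, mul_one]
      rw [inv_mul_cancel, Units.val_one]
    · rw [if_neg hy, extendByZero_not_mem H _ fun hmem => hy ?_]
      obtain ⟨k, hk⟩ : Odd (orderOf v) := Nat.odd_iff.2 (Nat.two_dvd_ne_zero.1 hv2)
      have hpow : (x * v) ^ orderOf v = x := by
        rw [hv.symm.mul_pow, pow_orderOf_eq_one, mul_one, hk, pow_succ, pow_mul, pow_two,
          Invol.mul_self hx, one_pow, one_mul]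
      have hmem' := H.pow_mem hmem (orderOf v)
      rw [show y⁻¹ * (x * v) * y = y⁻¹ * (x * v) * y⁻¹⁻¹ by group, conj_pow, hpow] at hmem'
      exact inv_mem_iff.1 (Invol.se_mem_of_conj hH hx hxH hmem')
  rw [Finset.sum_congr rfl fun y _ => e y, Finset.sum_boole,
    show ((Finset.univ.filter fun y : G => y ∈ H).card : ℂ) = (Nat.card H : ℂ) by
      rw [Nat.card_eq_fintype_card, Fintype.card_subtype]]
  exact inv_mul_cancel₀ (Nat.cast_ne_zero.2 Nat.card_pos.ne')

end Cfsg.Agent.RegularOrbit
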