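import Cfsg.Agent.Lib.Blocks.RegularOrbit.Signalizer

/-!
The odd subgroup generated by the odd parts of the centralisers of the involutions of an abelian
Sylow 2-subgroup on which the inertial quotient acts without fixed points.
-/

set_option autoImplicit false
set_option linter.style.haveILetI false
set_option linter.unusedSectionVars false

namespace Cfsg.Agent.RegularOrbit

open Cfsg

universe u

variable {G : Type u} [Group G] [Finite G] {P : Sylow 2 G}

/-- The involutions of the Sylow subgroup with the identity. -/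
def omegaOne (P : Sylow 2 G)
    (hab : ∀ a ∈ (P : Subgroup G), ∀ b ∈ (P : Subgroup G), a * b = b * a) : Subgroup G where
  carrier := {v | v ∈ (P : Subgroup G) ∧ v * v = 1}
  mul_mem' := fun {a b} ha hb => ⟨mul_mem ha.1 hb.1, by
    rw [show a * b * (a * b) = a * (b * a) * b by group, hab b hb.1 a ha.1,
      show a * (a * b) * b = a * a * (b * b) by group, ha.2, hb.2, mul_one]⟩
  one_mem' := ⟨one_mem _, mul_one 1⟩
  inv_mem' := fun {a} ha => ⟨inv_mem ha.1, by rw [← mul_inv_rev, ha.2, inv_one]⟩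

/-- An odd subgroup invariant under the normaliser which with the Sylow subgroup contains all
centralisers of its elements. -/
structure Frame (P : Sylow 2 G) (W : Subgroup G) : Prop where
  odd : ¬ 2 ∣ Nat.card W
  normN : ∀ n ∈ nN P, ∀ w ∈ W, n * w * n⁻¹ ∈ W
  cent : ∀ u ∈ (P : Subgroup G), u ≠ 1 → ∀ g, Commute g u → g ∈ W ⊔ (P : Subgroup G)
  embedded : nN P ⊔ W ≠ ⊤ → IsStronglyEmbedded (nN P ⊔ W)

/-- An element of an abelian Sylow 2-subgroup other than the identity has an involution power. -/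
theorem exists_involution_pow {u : G} (hu : u ∈ (P : Subgroup G)) (hu1 : u ≠ 1) :
    ∃ k : ℕ, orderOf (u ^ k) = 2 := by
  haveI : Fact (Nat.Prime 2) := ⟨Nat.prime_two⟩
  obtain ⟨k, hk⟩ := IsPGroup.iff_orderOf.1 P.isPGroup' ⟨u, hu⟩
  rw [Subgroup.orderOf_mk] at hk
  rcases k with _ | k
  · exact absurd (orderOf_eq_one_iff.1 (by simpa using hk)) hu1
  exact ⟨2 ^ k, by rw [orderOf_pow' u (pow_ne_zero _ two_ne_zero), hk,
    Nat.gcd_eq_right (pow_dvd_pow 2 (Nat.le_succ k)), pow_succ,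
    Nat.mul_div_cancel_left _ (pow_pos two_pos k)]⟩

theorem exists_frame (hab : ∀ a ∈ (P : Subgroup G), ∀ b ∈ (P : Subgroup G), a * b = b * a)
    (hfree : ∀ n ∈ nN P, ∀ u ∈ (P : Subgroup G), u ≠ 1 → n * u * n⁻¹ = u → n ∈ cC P)
    (h8 : 8 ≤ Nat.card (omegaOne P hab)) : ∃ W : Subgroup G, Frame P W := by
  classical
  haveI : Fact (Nat.Prime 2) := ⟨Nat.prime_two⟩
  set A := omegaOne P hab with hA
  have hmem : ∀ {a : G}, a ∈ A → a ≠ 1 → ∀ g : G,
      g ∈ oddPart a ↔ g ∈ Subgroup.centralizer ({a} : Set G) ∧ ¬ 2 ∣ orderOf g :=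
    fun {a} ha ha1 => mem_oddPart_iff hab hfree ha.1 ha1
  have hcop : ∀ a ∈ A, a ≠ 1 → ¬ 2 ∣ Nat.card (oddPart a) := fun a ha ha1 h2 => by
    obtain ⟨w, hw⟩ := exists_prime_orderOf_dvd_card' 2 h2
    exact ((hmem ha ha1 _).1 w.2).2 (by rw [Subgroup.orderOf_coe, hw])
  obtain ⟨hW2, -⟩ := Cfsg.Agent.S0217.result (p := 2) A (fun a ha b hb => hab a ha.1 b hb.1)
    (fun a ha => by rw [pow_two]; exact ha.2) (by simpa using h8) oddPart
    (fun a ha ha1 => fun g hg => ((hmem ha ha1 g).1 hg).1) hcop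
    (fun a ha ha1 b hb g hg => by
      obtain ⟨h1, h2⟩ := (hmem ha ha1 g).1 hg
      refine (hmem ha ha1 _).2 ⟨?_, by rwa [← MulAut.conj_apply, MulEquiv.orderOf_eq]⟩
      have hbC : b ∈ Subgroup.centralizer ({a} : Set G) :=
        Subgroup.mem_centralizer_singleton_iff.2 (hab b hb.1 a ha.1)
      exact mul_mem (mul_mem hbC h1) (inv_mem hbC))
    (fun a ha ha1 => Cfsg.Agent.S0205.result
      (Nat.odd_iff.2 (Nat.two_dvd_ne_zero.1 (hcop a ha ha1))))
    (fun a ha ha1 b hb hb1 g hg =>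
      (hmem hb hb1 g).2 ⟨hg.2, ((hmem ha ha1 g).1 hg.1).2⟩)
  set W : Subgroup G := ⨆ a : {a : G // a ∈ A ∧ a ≠ 1}, oddPart (a : G) with hW
  have hin : ∀ b ∈ A, b ≠ 1 → oddPart b ≤ W := fun b hb hb1 =>
    le_iSup (fun a : {a : G // a ∈ A ∧ a ≠ 1} => oddPart (a : G)) ⟨b, hb, hb1⟩
  have hWN : ∀ n ∈ nN P, ∀ w ∈ W, n * w * n⁻¹ ∈ W := by
    intro n hn w hw
    refine Subgroup.iSup_induction
      (fun a : {a : G // a ∈ A ∧ a ≠ 1} => oddPart (a : G))
      (C := fun w => n * w * n⁻¹ ∈ W) hw (fun a g hg => ?_) ?_ ?_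
    · obtain ⟨h1, h2⟩ := (hmem a.2.1 a.2.2 g).1 hg
      have hbA : n * (a : G) * n⁻¹ ∈ A := ⟨mem_P_of_conj hn a.2.1.1, by
        rw [show n * (a : G) * n⁻¹ * (n * a * n⁻¹) = n * (a * a) * n⁻¹ by group, a.2.1.2]; group⟩
      have hb : n * (a : G) * n⁻¹ ≠ 1 := fun e => a.2.2 (conj_eq_one_iff.1 e)
      refine hin _ hbA hb ((hmem hbA hb _).2 ⟨?_, by rwa [← MulAut.conj_apply, MulEquiv.orderOf_eq]⟩)
      refine Subgroup.mem_centralizer_singleton_iff.2 ?_
      rw [show n * g * n⁻¹ * (n * a * n⁻¹) = n * (g * a) * n⁻¹ by group,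
        Subgroup.mem_centralizer_singleton_iff.1 h1]
      group
    · simp
    · intro g h hg hh
      rw [show n * (g * h) * n⁻¹ = n * g * n⁻¹ * (n * h * n⁻¹) by group]
      exact mul_mem hg hh
  have hcent : ∀ u ∈ (P : Subgroup G), u ≠ 1 → ∀ g, Commute g u → g ∈ W ⊔ (P : Subgroup G) := by
    intro u hu hu1 g hg
    obtain ⟨k, hk⟩ := exists_involution_pow hu hu1
    set a := u ^ k with ha
    have haA : a ∈ A := ⟨pow_mem hu k, by rw [← pow_two, ← hk, pow_orderOf_eq_one]⟩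
    have ha1 : a ≠ 1 := fun e => by
      rw [e, orderOf_one] at hk
      omega
    set C := Subgroup.centralizer ({a} : Set G) with hC
    obtain ⟨-, -, N, hNn, -, hidx, hreg⟩ :=
      exists_complement hab haA.1 (fun n hn h => hfree n hn a haA.1 ha1 h) (C := C) hC
    haveI := hNn
    have hPC : (P : Subgroup G) ≤ C := fun v hv =>
      Subgroup.mem_centralizer_singleton_iff.2 (hab v hv a haA.1)
    have hgC : g ∈ C := Subgroup.mem_centralizer_singleton_iff.2 (hg.pow_right k).eq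
    have hgrp : IsPGroup 2 (C ⧸ N) := by
      obtain ⟨k, hk⟩ := IsPGroup.iff_card.1 P.isPGroup'
      exact IsPGroup.of_card (n := k) (hidx.trans hk)
    have htop := PBasic.sylow_sup_eq_top (P.subtype hPC) (N := N) hgrp
    have hg' : (⟨g, hgC⟩ : C) ∈ ((P.subtype hPC : Subgroup C) ⊔ N : Subgroup C) := by
      rw [htop]; exact Subgroup.mem_top _
    rw [← SetLike.mem_coe, Subgroup.mul_normal] at hg'
    obtain ⟨v, hv, w, hw, e⟩ := Set.mem_mul.1 hg'
    have e' : (v : G) * (w : G) = g := congrArg Subtype.val e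
    rw [← e']
    exact mul_mem (Subgroup.mem_sup_right hv) (Subgroup.mem_sup_left (hin a haA ha1
      ((hmem haA ha1 _).2 ⟨w.2, by rw [Subgroup.orderOf_coe]; exact (hreg w).2 hw⟩)))
  refine ⟨W, hW2, hWN, hcent, fun hne => ?_⟩
  set H := nN P ⊔ W with hH
  have hPH : (P : Subgroup G) ≤ H := Subgroup.le_normalizer.trans le_sup_left
  have hWP : W ⊔ (P : Subgroup G) ≤ H := sup_le le_sup_right hPH
  have h8' : 8 ≤ Nat.card (P : Subgroup G) :=
    h8.trans (Nat.le_of_dvd Nat.card_pos (Subgroup.card_dvd_of_le fun v hv => hv.1))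
  have heven : Even (Nat.card H) := by
    refine even_iff_two_dvd.2 (Dvd.dvd.trans ?_ (Subgroup.card_dvd_of_le hPH))
    obtain ⟨k, hk⟩ := IsPGroup.iff_card.1 P.isPGroup'
    rcases k with _ | k
    · rw [hk] at h8'; omega
    · rw [hk]; exact Dvd.intro_left _ (pow_succ 2 k).symm
  have hinto : ∀ t ∈ H, orderOf t = 2 →
      ∃ m ∈ H, m * t * m⁻¹ ∈ (P : Subgroup G) ∧ m * t * m⁻¹ ≠ 1 := by
    intro t ht ho
    obtain ⟨v, hv, hconj⟩ := conj_into (P := P.subtype hPH) (g := (⟨t, ht⟩ : H))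
      ⟨1, by rw [Subgroup.orderOf_mk, ho, pow_one]⟩
    obtain ⟨c, hc⟩ := isConj_iff.1 hconj
    have e : (c : G) * t * (c : G)⁻¹ = v := congrArg Subtype.val hc
    refine ⟨c, c.2, e ▸ hv, fun e1 => ?_⟩
    rw [conj_eq_one_iff.1 e1, orderOf_one] at ho
    omega
  refine (Cfsg.Agent.S0223.result H hne heven).2 ⟨fun t ht ho g hg => ?_,
    fun t ht s hs ho ho' hc => ?_⟩
  · obtain ⟨m, hm, hmP, hm1⟩ := hinto t ht ho
    have h : m * g * m⁻¹ ∈ H := hWP (hcent _ hmP hm1 _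
      (show m * g * m⁻¹ * (m * t * m⁻¹) = m * t * m⁻¹ * (m * g * m⁻¹) by
        rw [show m * g * m⁻¹ * (m * t * m⁻¹) = m * (g * t) * m⁻¹ by group,
          Subgroup.mem_centralizer_singleton_iff.1 hg]
        group))
    have := mul_mem (mul_mem (inv_mem hm) h) hm
    simpa [mul_assoc] using this
  · obtain ⟨m, hm, hmP, -⟩ := hinto t ht ho
    obtain ⟨m', hm', hmP', -⟩ := hinto s hs ho'
    obtain ⟨n, hn, he⟩ := fusion hab hmP hmP'
      (((isConj_iff.2 ⟨m, rfl⟩ : IsConj t _).symm.trans hc).trans (isConj_iff.2 ⟨m', rfl⟩))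
    refine ⟨m'⁻¹ * n * m, mul_mem (mul_mem (inv_mem hm') (Subgroup.mem_sup_left hn)) hm, ?_⟩
    rw [show m'⁻¹ * n * m * t * (m'⁻¹ * n * m)⁻¹ = m'⁻¹ * (n * (m * t * m⁻¹) * n⁻¹) * m' by group, he]
    group

end Cfsg.Agent.RegularOrbit
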