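import Cfsg.Agent.Lib.Blocks.RegularOrbit.Setup
import Cfsg.Agent.S0205
import Cfsg.Agent.S0217
import Cfsg.Agent.S0223

/-!
An elementary abelian Sylow 2-subgroup of order at least eight on which the inertial quotient acts
without fixed points: the subgroup generated by the odd parts of the involution centralisers.
-/

set_option autoImplicit false
set_option linter.style.haveILetI false
set_option linter.unusedSectionVars false

namespace Cfsg.Agent.RegularOrbit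

open Cfsg

universe u

variable {G : Type u} [Group G] [Finite G] {P : Sylow 2 G}

/-- The subgroup generated by the elements of odd order of a centraliser. -/
def oddPart (a : G) : Subgroup G :=
  Subgroup.closure {g : G | g ∈ Subgroup.centralizer ({a} : Set G) ∧ ¬ 2 ∣ orderOf g}

theorem mem_oddPart_iff
    (hab : ∀ a ∈ (P : Subgroup G), ∀ b ∈ (P : Subgroup G), a * b = b * a)
    (hfree : ∀ n ∈ nN P, ∀ u ∈ (P : Subgroup G), u ≠ 1 → n * u * n⁻¹ = u → n ∈ cC P) {a : G}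
    (ha : a ∈ (P : Subgroup G)) (ha1 : a ≠ 1) (g : G) :
    g ∈ oddPart a ↔ g ∈ Subgroup.centralizer ({a} : Set G) ∧ ¬ 2 ∣ orderOf g := by
  refine ⟨fun hg => ?_, fun h => Subgroup.subset_closure h⟩
  obtain ⟨-, -, N, -, -, -, hreg⟩ :=
    exists_complement hab ha (fun n hn h => hfree n hn a ha ha1 h) (C := _) rfl
  have hle : oddPart a ≤ N.map (Subgroup.centralizer ({a} : Set G)).subtype := by
    rw [oddPart, Subgroup.closure_le]
    rintro w ⟨hw, hw2⟩
    exact ⟨⟨w, hw⟩, (hreg _).1 (by rwa [← Subgroup.orderOf_coe]), rfl⟩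
  obtain ⟨w, hw, rfl⟩ := hle hg
  exact ⟨w.2, by rw [Subgroup.coe_subtype, Subgroup.orderOf_coe]; exact (hreg w).2 hw⟩

/-- The subgroup containing all involution centralisers and the kernel of its action on the Sylow
subgroup. -/
theorem exists_embedded (hab : ∀ a ∈ (P : Subgroup G), ∀ b ∈ (P : Subgroup G), a * b = b * a)
    (hsq : ∀ a ∈ (P : Subgroup G), a * a = 1) (h8 : 8 ≤ Nat.card (P : Subgroup G))
    (hfree : ∀ n ∈ nN P, ∀ u ∈ (P : Subgroup G), u ≠ 1 → n * u * n⁻¹ = u → n ∈ cC P) :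
    ∃ H K : Subgroup G, K ≤ H ∧ nN P ≤ H ∧ (∀ m ∈ H, ∀ k ∈ K, m * k * m⁻¹ ∈ K) ∧
      (∀ a ∈ (P : Subgroup G), a ≠ 1 → Subgroup.centralizer ({a} : Set G) ≤ K) ∧
      K ⊓ nN P ≤ cC P ∧ (∀ m ∈ H, ∃ n ∈ nN P, n⁻¹ * m ∈ K) ∧
      (H ≠ ⊤ → IsStronglyEmbedded H) := by
  classical
  haveI : Fact (Nat.Prime 2) := ⟨Nat.prime_two⟩
  have hmem : ∀ {a : G}, a ∈ (P : Subgroup G) → a ≠ 1 → ∀ g : G,
      g ∈ oddPart a ↔ g ∈ Subgroup.centralizer ({a} : Set G) ∧ ¬ 2 ∣ orderOf g :=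
    fun {a} ha ha1 => mem_oddPart_iff hab hfree ha ha1
  have hcop : ∀ a ∈ (P : Subgroup G), a ≠ 1 → ¬ 2 ∣ Nat.card (oddPart a) := fun a ha ha1 h2 => by
    obtain ⟨w, hw⟩ := exists_prime_orderOf_dvd_card' 2 h2
    exact ((hmem ha ha1 _).1 w.2).2 (by rw [Subgroup.orderOf_coe, hw])
  obtain ⟨hW2, -⟩ := Cfsg.Agent.S0217.result (p := 2) (P : Subgroup G) hab
    (fun a ha => by rw [pow_two]; exact hsq a ha) (by simpa using h8) oddPart
    (fun a ha ha1 => fun g hg => ((hmem ha ha1 g).1 hg).1) hcop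
    (fun a ha ha1 b hb g hg => by
      obtain ⟨h1, h2⟩ := (hmem ha ha1 g).1 hg
      refine (hmem ha ha1 _).2 ⟨?_, by rwa [← MulAut.conj_apply, MulEquiv.orderOf_eq]⟩
      have hbC : b ∈ Subgroup.centralizer ({a} : Set G) :=
        Subgroup.mem_centralizer_singleton_iff.2 (hab b hb a ha)
      exact mul_mem (mul_mem hbC h1) (inv_mem hbC))
    (fun a ha ha1 => Cfsg.Agent.S0205.result
      (Nat.odd_iff.2 (Nat.two_dvd_ne_zero.1 (hcop a ha ha1))))
    (fun a ha ha1 b hb hb1 g hg =>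
      (hmem hb hb1 g).2 ⟨hg.2, ((hmem ha ha1 g).1 hg.1).2⟩)
  set W : Subgroup G := ⨆ a : {a : G // a ∈ (P : Subgroup G) ∧ a ≠ 1}, oddPart (a : G) with hW
  have hin : ∀ b ∈ (P : Subgroup G), b ≠ 1 → oddPart b ≤ W := fun b hb hb1 =>
    le_iSup (fun a : {a : G // a ∈ (P : Subgroup G) ∧ a ≠ 1} => oddPart (a : G)) ⟨b, hb, hb1⟩
  have hWN : ∀ n ∈ nN P, ∀ w ∈ W, n * w * n⁻¹ ∈ W := by
    intro n hn w hw
    refine Subgroup.iSup_induction
      (fun a : {a : G // a ∈ (P : Subgroup G) ∧ a ≠ 1} => oddPart (a : G))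
      (C := fun w => n * w * n⁻¹ ∈ W) hw (fun a g hg => ?_) ?_ ?_
    · obtain ⟨h1, h2⟩ := (hmem a.2.1 a.2.2 g).1 hg
      have hb : n * (a : G) * n⁻¹ ≠ 1 := fun e => a.2.2 (conj_eq_one_iff.1 e)
      refine hin _ (mem_P_of_conj hn a.2.1) hb
        ((hmem (mem_P_of_conj hn a.2.1) hb _).2 ⟨?_, by rwa [← MulAut.conj_apply, MulEquiv.orderOf_eq]⟩)
      refine Subgroup.mem_centralizer_singleton_iff.2 ?_
      rw [show n * g * n⁻¹ * (n * a * n⁻¹) = n * (g * a) * n⁻¹ by group,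
        Subgroup.mem_centralizer_singleton_iff.1 h1]
      group
    · simp
    · intro g h hg hh
      rw [show n * (g * h) * n⁻¹ = n * g * n⁻¹ * (n * h * n⁻¹) by group]
      exact mul_mem hg hh
  set K := W ⊔ cC P with hK
  have hKN : nN P ≤ Subgroup.normalizer (K : Set G) := by
    intro n hn
    have key : ∀ n ∈ nN P, ∀ k ∈ K, n * k * n⁻¹ ∈ K := by
      intro n hn k hk
      have : K.map (MulAut.conj n).toMonoidHom ≤ K := by
        rw [hK, Subgroup.map_sup, sup_le_iff]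
        refine ⟨?_, ?_⟩
        · rintro _ ⟨w, hw, rfl⟩
          exact Subgroup.mem_sup_left (by simpa using hWN n hn w hw)
        · rintro _ ⟨c, hc, rfl⟩
          refine Subgroup.mem_sup_right ?_
          have h := (cC_normal (P := P)).conj_mem ⟨c, cC_le_nN hc⟩
            (Subgroup.mem_subgroupOf.2 hc) ⟨n, hn⟩
          simpa using Subgroup.mem_subgroupOf.1 h
      exact this ⟨k, hk, by simp⟩
    refine Subgroup.mem_normalizer_iff.2 fun h => ⟨fun hh => key n hn h hh, fun hh => ?_⟩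
    have := key n⁻¹ (inv_mem hn) _ hh
    simpa [mul_assoc] using this
  set H := nN P ⊔ K with hH
  have hHN : H ≤ Subgroup.normalizer (K : Set G) := sup_le hKN Subgroup.le_normalizer
  have hCK : ∀ a ∈ (P : Subgroup G), a ≠ 1 → Subgroup.centralizer ({a} : Set G) ≤ K := by
    intro a ha ha1
    set C := Subgroup.centralizer ({a} : Set G) with hC
    obtain ⟨-, -, N, hNn, -, hidx, hreg⟩ :=
      exists_complement hab ha (fun n hn h => hfree n hn a ha ha1 h) (C := C) hC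
    haveI := hNn
    have hPC : (P : Subgroup G) ≤ C := fun v hv =>
      Subgroup.mem_centralizer_singleton_iff.2 (hab v hv a ha)
    intro g hg
    have hgrp : IsPGroup 2 (C ⧸ N) := by
      obtain ⟨k, hk⟩ := IsPGroup.iff_card.1 P.isPGroup'
      exact IsPGroup.of_card (n := k) (hidx.trans hk)
    have htop := PBasic.sylow_sup_eq_top (P.subtype hPC) (N := N) hgrp
    have hg' : (⟨g, hg⟩ : C) ∈ ((P.subtype hPC : Subgroup C) ⊔ N : Subgroup C) := by
      rw [htop]; exact Subgroup.mem_top _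
    rw [← SetLike.mem_coe, Subgroup.mul_normal] at hg'
    obtain ⟨v, hv, w, hw, e⟩ := Set.mem_mul.1 hg'
    have e' : (v : G) * (w : G) = g := congrArg Subtype.val e
    rw [← e']
    refine mul_mem (Subgroup.mem_sup_right (le_cC hab hv)) (Subgroup.mem_sup_left ?_)
    exact hin a ha ha1 ((hmem ha ha1 _).2
      ⟨w.2, by rw [Subgroup.orderOf_coe]; exact (hreg w).2 hw⟩)
  have hKC : K ⊓ nN P ≤ cC P := by
    rintro k ⟨hk, hkN⟩
    have hCW : cC P ≤ Subgroup.normalizer (W : Set G) := fun c hc =>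
      Subgroup.mem_normalizer_iff.2 fun h => ⟨fun hh => hWN c (cC_le_nN hc) h hh, fun hh => by
        have := hWN c⁻¹ (inv_mem (cC_le_nN hc)) _ hh
        simpa [mul_assoc] using this⟩
    replace hk : k ∈ ((W ⊔ cC P : Subgroup G) : Set G) := hk
    rw [Subgroup.coe_mul_of_right_le_normalizer_left W (cC P) hCW] at hk
    obtain ⟨w, hw, c, hc, rfl⟩ := Set.mem_mul.1 hk
    have hwN : w ∈ nN P := by
      have := mul_mem (show w * c ∈ nN P from hkN) (inv_mem (cC_le_nN hc))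
      simpa using this
    refine mul_mem (Subgroup.mem_centralizer_iff.2 fun v hv => ?_) hc
    have h1 : w * v * w⁻¹ * v⁻¹ ∈ (P : Subgroup G) :=
      mul_mem (mem_P_of_conj hwN hv) (inv_mem hv)
    have h2 : w * v * w⁻¹ * v⁻¹ ∈ W := by
      rw [show w * v * w⁻¹ * v⁻¹ = w * (v * w⁻¹ * v⁻¹) by group]
      exact mul_mem hw (hWN v (Subgroup.le_normalizer hv) _ (inv_mem hw))
    have h3 : orderOf (w * v * w⁻¹ * v⁻¹) ∣ 2 :=
      orderOf_dvd_of_pow_eq_one (by rw [pow_two]; exact hsq _ h1)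
    rcases (Nat.dvd_prime Nat.prime_two).1 h3 with h4 | h4
    · have h5 : w * v * w⁻¹ = v := mul_inv_eq_one.1 (orderOf_eq_one_iff.1 h4)
      exact (mul_inv_eq_iff_eq_mul.1 h5).symm
    · exact absurd (h4 ▸ Subgroup.orderOf_dvd_natCard W h2) hW2
  have hcover : ∀ m ∈ H, ∃ n ∈ nN P, n⁻¹ * m ∈ K := by
    intro m hm
    rw [hH, ← SetLike.mem_coe, Subgroup.coe_mul_of_left_le_normalizer_right _ _ hKN] at hm
    obtain ⟨n, hn, k, hk, rfl⟩ := Set.mem_mul.1 hm
    exact ⟨n, hn, by simpa using hk⟩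
  refine ⟨H, K, le_sup_right, le_sup_left, fun m hm k hk =>
    (Subgroup.mem_normalizer_iff.1 (hHN hm) k).1 hk, hCK, hKC, hcover, fun hne => ?_⟩
  have hPH : (P : Subgroup G) ≤ H := Subgroup.le_normalizer.trans le_sup_left
  have heven : Even (Nat.card H) := by
    refine even_iff_two_dvd.2 (Dvd.dvd.trans ?_ (Subgroup.card_dvd_of_le hPH))
    obtain ⟨k, hk⟩ := IsPGroup.iff_card.1 P.isPGroup'
    rcases k with _ | k
    · rw [hk] at h8; omega
    · rw [hk]; exact Dvd.intro_left _ (pow_succ 2 k).symm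
  have habH : ∀ a ∈ ((P.subtype hPH : Sylow 2 H) : Subgroup H),
      ∀ b ∈ ((P.subtype hPH : Sylow 2 H) : Subgroup H), a * b = b * a :=
    fun a ha b hb => Subtype.ext (hab _ ha _ hb)
  have hinto : ∀ t ∈ H, orderOf t = 2 →
      ∃ m ∈ H, m * t * m⁻¹ ∈ (P : Subgroup G) ∧ m * t * m⁻¹ ≠ 1 := by
    intro t ht ho
    obtain ⟨v, hv, hconj⟩ := conj_into (P := P.subtype hPH) (g := (⟨t, ht⟩ : H))
      ⟨1, by rw [Subgroup.orderOf_mk, ho, pow_one]⟩
    obtain ⟨c, hc⟩ := isConj_iff.1 hconj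
    have e : (c : G) * t * (c : G)⁻¹ = v := congrArg Subtype.val hc
    refine ⟨c, c.2, e ▸ hv, fun e1 => ?_⟩
    rw [conj_eq_one_iff.1 e1, orderOf_one] at ho
    omega
  refine (Cfsg.Agent.S0223.result H hne heven).2 ⟨fun t ht ho g hg => ?_,
    fun t ht s hs ho ho' hc => ?_⟩
  · obtain ⟨m, hm, hmP, hm1⟩ := hinto t ht ho
    have h : m * g * m⁻¹ ∈ H := Subgroup.mem_sup_right (hCK _ hmP hm1
      (Subgroup.mem_centralizer_singleton_iff.2 (by
        rw [show m * g * m⁻¹ * (m * t * m⁻¹) = m * (g * t) * m⁻¹ by group,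
          Subgroup.mem_centralizer_singleton_iff.1 hg]
        group)))
    have := mul_mem (mul_mem (inv_mem hm) h) hm
    simpa [mul_assoc] using this
  · obtain ⟨m, hm, hmP, -⟩ := hinto t ht ho
    obtain ⟨m', hm', hmP', -⟩ := hinto s hs ho'
    obtain ⟨n, hn, he⟩ := fusion hab hmP hmP'
      (((isConj_iff.2 ⟨m, rfl⟩ : IsConj t _).symm.trans hc).trans (isConj_iff.2 ⟨m', rfl⟩))
    refine ⟨m'⁻¹ * n * m, mul_mem (mul_mem (inv_mem hm') (Subgroup.mem_sup_left hn)) hm, ?_⟩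
    rw [show m'⁻¹ * n * m * t * (m'⁻¹ * n * m)⁻¹ = m'⁻¹ * (n * (m * t * m⁻¹) * n⁻¹) * m' by group, he]
    group

end Cfsg.Agent.RegularOrbit
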