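import Cfsg.Agent.Lib.Blocks.RegularOrbit.Family

/-!
The principal 2-block counted by the linear characters of a subgroup containing the centraliser of
an involution.
-/

set_option autoImplicit false
set_option linter.style.haveILetI false
set_option linter.unusedSectionVars false

namespace Cfsg.Agent.RegularOrbit

open Cfsg Cfsg.Agent.Blocks Cfsg.Agent.Char
open scoped ComplexConjugate

universe u w

variable {G : Type u} [Group G] [Fintype G] {M : Ideal AlgInt} [M.IsPrime] {A : Type w}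
  [CommGroup A] [Finite A]

set_option maxHeartbeats 1000000 in
/-- Linear characters killing the centraliser of the involution bound the rank from below. -/
theorem linear_rank {x : G} {C : Subgroup G} [Fintype C]
    (hC : C = Subgroup.centralizer ({x} : Set G)) (N : Subgroup C)
    [DecidablePred (· ∈ principalBlock M G)] {d : IrrCharacter G → ℤ}
    (hsum : ∀ χ : IrrCharacter G,
      ∑ v ∈ Finset.univ.filter (fun v : C => ¬ 2 ∣ orderOf v), (χ : G → ℂ) (x * (v : G)) =
        if χ ∈ principalBlock M G then (Nat.card N : ℂ) * (d χ : ℂ) else 0)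
    {φ : G →* A} (hker : ∀ g, Commute g x → φ g = 1) (hsurj : Function.Surjective φ)
    (hodd : ¬ 2 ∣ Nat.card A) : Nat.card A ≤ blockRank 2 (principalBlock M G) := by
  classical
  haveI : Fintype (A →* ℂˣ) := Fintype.ofFinite _
  let χl : (A →* ℂˣ) → IrrCharacter G := fun l =>
    ⟨fun g => (l (φ g) : ℂ), isIrrCharacter_linear (l.comp φ)⟩
  have hmemB : ∀ l, χl l ∈ principalBlock M G := by
    intro l
    by_contra h
    have h1 := hsum (χl l)
    rw [if_neg h, Finset.sum_congr rfl (g := fun _ => (1 : ℂ)) fun v _ => ?_, Finset.sum_const,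
      nsmul_one, Nat.cast_eq_zero, Finset.card_eq_zero] at h1
    · exact Finset.notMem_empty (1 : C)
        (h1 ▸ Finset.mem_filter.2 ⟨Finset.mem_univ _, by simp⟩)
    · show (l (φ (x * (v : G))) : ℂ) = 1
      rw [map_mul, hker x (Commute.refl x),
        hker _ (Subgroup.mem_centralizer_singleton_iff.1 (hC.le v.2)), mul_one, map_one,
        Units.val_one]
  have hlift : ∀ α : A, ∃ g : G, ¬ 2 ∣ orderOf g ∧ φ g = α := by
    intro α
    obtain ⟨g, rfl⟩ := hsurj α
    obtain ⟨a, b, hab, hc, ⟨k, hk⟩, hb⟩ := Blocks.exists_isPPart Nat.prime_two g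
    refine ⟨b, hb, ?_⟩
    have h1 : orderOf (φ a) ∣ 2 ^ k := hk ▸ orderOf_map_dvd φ a
    have h2 : orderOf (φ a) ∣ Nat.card A := orderOf_dvd_natCard _
    have h3 : Nat.Coprime (2 ^ k) (Nat.card A) :=
      Nat.Coprime.pow_left _ ((Nat.prime_two.coprime_iff_not_dvd).2 hodd)
    rw [← hab, map_mul, orderOf_eq_one_iff.1 (Nat.eq_one_of_dvd_coprimes h3 h1 h2), one_mul]
  choose s hs hsφ using hlift
  let T : (G → ℂ) →ₗ[ℂ] (A → ℂ) := LinearMap.funLeft ℂ ℂ s
  have hT : ∀ l, T (pRegularPart 2 (χl l : G → ℂ)) = fun α => (l α : ℂ) := by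
    intro l
    funext α
    show pRegularPart 2 (χl l : G → ℂ) (s α) = _
    have hr : IsPRegular 2 (s α) := hs α
    simp [pRegularPart, hr, χl, hsφ]
  have hinj : Function.Injective fun l : A →* ℂˣ => (Units.coeHom ℂ).comp l := fun l l' e =>
    MonoidHom.ext fun α => Units.ext (DFunLike.congr_fun e α)
  have hli : LinearIndependent ℂ (fun l : A →* ℂˣ => pRegularPart 2 (χl l : G → ℂ)) := by
    refine LinearIndependent.of_comp T ?_
    rw [show T ∘ (fun l => pRegularPart 2 (χl l : G → ℂ)) = fun l α => (l α : ℂ) from funext hT]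
    have h := (linearIndependent_monoidHom A ℂ).comp _ hinj
    exact h
  have hle : Submodule.span ℂ (Set.range fun l : A →* ℂˣ => pRegularPart 2 (χl l : G → ℂ)) ≤
      Submodule.span ℂ ((fun χ : IrrCharacter G => pRegularPart 2 (χ : G → ℂ)) ''
        principalBlock M G) := by
    refine Submodule.span_mono ?_
    rintro _ ⟨l, rfl⟩
    exact ⟨χl l, hmemB l, rfl⟩
  have h := Submodule.finrank_mono hle
  rw [finrank_span_eq_card hli, ← Nat.card_eq_fintype_card, card_dual] at h
  exact h

set_option maxHeartbeats 1000000 in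
/-- With a strongly embedded subgroup the principal block has as many characters as the Sylow
subgroup has elements, provided that is one more than the number of linear characters. -/
theorem regular_count {x : G} (hx : orderOf x = 2) {C : Subgroup G} [Fintype C]
    (hC : C = Subgroup.centralizer ({x} : Set G)) (N : Subgroup C)
    (hreg : (Finset.univ.filter fun v : C => ¬ 2 ∣ orderOf v).card = Nat.card N)
    [DecidablePred (· ∈ principalBlock M G)] {d : IrrCharacter G → ℤ}
    (hd0 : ∀ χ : IrrCharacter G, (χ : G → ℂ) x = (d χ : ℂ))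
    (hd2 : ∑ χ ∈ Finset.univ.filter (· ∈ principalBlock M G), d χ * d χ =
      ((Nat.card A + 1 : ℕ) : ℤ))
    (hdne : ∀ χ ∈ principalBlock M G, d χ ≠ 0)
    (hsum : ∀ χ : IrrCharacter G,
      ∑ v ∈ Finset.univ.filter (fun v : C => ¬ 2 ∣ orderOf v), (χ : G → ℂ) (x * (v : G)) =
        if χ ∈ principalBlock M G then (Nat.card N : ℂ) * (d χ : ℂ) else 0)
    (hnu : ∑ χ ∈ Finset.univ.filter (· ∈ principalBlock M G), nu χ * (d χ : ℂ) = 0)
    {H : Subgroup G} (hH : IsStronglyEmbedded H) (hxH : x ∈ H) (hHodd : Odd H.index) {φ : H →* A}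
    (hker : ∀ m : H, Commute (m : G) x → φ m = 1) (hsurj : Function.Surjective φ)
    (hodd : ¬ 2 ∣ Nat.card A) :
    Nat.card (principalBlock M G) = Nat.card A + 1 := by
  classical
  haveI : Fintype H := Fintype.ofFinite H
  haveI : Fintype (A →* ℂˣ) := Fintype.ofFinite _
  set S := Finset.univ.filter (· ∈ principalBlock M G) with hS
  have hmemS : ∀ χ, χ ∈ S ↔ χ ∈ principalBlock M G := fun χ => by simp [hS]
  -- the induced characters
  set F := (Finset.univ : Finset (A →* ℂˣ)).erase 1 with hF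
  have hne : ∀ a ∈ F, a⁻¹ ≠ a := fun a ha => dual_inv_ne hodd (Finset.mem_erase.1 ha).1
  have hirr : ∀ a ∈ F, IsIrrCharacter G (indFun H (lam φ a)) := fun a ha =>
    IsCharacter.isIrr_of_norm_one (isCharacter_indFun H (IsIrrCharacter.isCharacter (isIrr_lam a))) (by
      rw [inner_induced hH hx hxH hker hsurj a a (Ne.symm (hne a ha)), if_pos rfl])
  let Ψ : (A →* ℂˣ) → IrrCharacter G := fun a =>
    if ha : a ∈ F then ⟨indFun H (lam φ a), hirr a ha⟩ else principal G
  have hΨ : ∀ a ∈ F, (Ψ a : G → ℂ) = indFun H (lam φ a) := fun a ha => by simp [Ψ, ha]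
  have hval : ∀ a ∈ F, ∀ v : C, ¬ 2 ∣ orderOf v → (Ψ a : G → ℂ) (x * (v : G)) = 1 := by
    intro a ha v hv
    rw [hΨ a ha]
    exact induced_section hH hx hxH hker a (Subgroup.mem_centralizer_singleton_iff.1 (hC.le v.2))
      (by rwa [Subgroup.orderOf_coe])
  have hN0 : (Nat.card N : ℂ) ≠ 0 := Nat.cast_ne_zero.2 Nat.card_pos.ne'
  have hΨB : ∀ a ∈ F, Ψ a ∈ principalBlock M G ∧ d (Ψ a) = 1 := by
    intro a ha
    have h1 := hsum (Ψ a)
    rw [Finset.sum_congr rfl fun v hv => hval a ha v (Finset.mem_filter.1 hv).2, Finset.sum_const,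
      hreg, nsmul_one] at h1
    split_ifs at h1 with hmem
    · refine ⟨hmem, ?_⟩
      have h2 : ((d (Ψ a) : ℤ) : ℂ) = ((1 : ℤ) : ℂ) := by
        apply mul_left_cancel₀ hN0
        rw [← h1, Int.cast_one, mul_one]
      exact_mod_cast h2
    · exact absurd h1 hN0
  have hΨ1 : ∀ a ∈ F, Ψ a ≠ principal G := by
    intro a ha e
    have h : classInner (indFun H (lam φ a)) (principal G : G → ℂ) = 0 := by
      rw [classInner_indFun_left H _ (IsCharacter.isClassFunction (irr_isCharacter _)), classInner]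
      simp only [show ((principal G : IrrCharacter G) : G → ℂ) = fun _ => (1 : ℂ) from rfl,
        map_one, mul_one]
      rw [sum_lam hsurj (Finset.mem_erase.1 ha).1, mul_zero]
    rw [← hΨ a ha, e, classInner_self_irr (principal G).2] at h
    exact one_ne_zero h
  have hconj : ∀ a ∈ F, ∀ g, conj ((Ψ a : G → ℂ) g) = indFun H (lam φ a⁻¹) g := fun a ha g => by
    rw [hΨ a ha]; exact conj_induced a g
  -- the fibres
  have hfib : ∀ a ∈ F, ∀ b ∈ F, Ψ b = Ψ a → b = a ∨
      (b = a⁻¹ ∧ ∀ g, conj ((Ψ a : G → ℂ) g) = (Ψ a : G → ℂ) g) := by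
    intro a ha b hb e
    by_cases hb' : b = a⁻¹
    · refine Or.inr ⟨hb', fun g => ?_⟩
      rw [hconj a ha g, ← hb', ← hΨ b hb, e]
    · left
      by_contra hab
      have h := inner_induced hH hx hxH hker hsurj a b hb'
      rw [if_neg (Ne.symm hab), ← hΨ a ha, ← hΨ b hb, e, classInner_self_irr (Ψ a).2] at h
      exact one_ne_zero h
  choose n hn hn1 hn1' hnreal hnnot using fun χ : IrrCharacter G => exists_nu χ
  set I := F.image Ψ with hI
  have hnI : ∀ ψ ∈ I, 0 ≤ n ψ ∧ ((F.filter fun b => Ψ b = ψ).card : ℤ) ≤ 1 + n ψ ∧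
      ψ ∈ S ∧ d ψ = 1 ∧ ψ ≠ principal G := by
    intro ψ hψ
    obtain ⟨a, ha, rfl⟩ := Finset.mem_image.1 hψ
    have hdeg : ∀ m : ℕ, (Ψ a : G → ℂ) 1 = m → Odd m := by
      intro m hm
      rw [hΨ a ha, indFun_one_apply] at hm
      simp [lam] at hm
      exact_mod_cast hm ▸ hHodd
    refine ⟨?_, ?_, (hmemS _).2 (hΨB a ha).1, (hΨB a ha).2, hΨ1 a ha⟩
    · by_cases hr : ∀ g, conj ((Ψ a : G → ℂ) g) = (Ψ a : G → ℂ) g
      · rw [hnreal _ hr hdeg]; norm_num
      · rw [hnnot _ hr]
    · by_cases hr : ∀ g, conj ((Ψ a : G → ℂ) g) = (Ψ a : G → ℂ) g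
      · rw [hnreal _ hr hdeg]
        have h := Finset.card_le_card (show (F.filter fun b => Ψ b = Ψ a) ⊆ {a, a⁻¹} from
          fun b hb => by
            obtain ⟨hbF, e⟩ := Finset.mem_filter.1 hb
            rcases hfib a ha b hbF e with e1 | ⟨e1, -⟩ <;> simp [e1])
        have h2 := h.trans Finset.card_le_two
        omega
      · rw [hnnot _ hr]
        have h := Finset.card_le_card (show (F.filter fun b => Ψ b = Ψ a) ⊆ {a} from
          fun b hb => by
            obtain ⟨hbF, e⟩ := Finset.mem_filter.1 hb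
            rcases hfib a ha b hbF e with e1 | ⟨-, e1⟩
            · simp [e1]
            · exact absurd e1 hr)
        simpa using h
  have hcount : (Nat.card A : ℤ) - 1 ≤ (I.card : ℤ) + ∑ ψ ∈ I, n ψ := by
    have h : (F.card : ℤ) = ∑ ψ ∈ I, ((F.filter fun b => Ψ b = ψ).card : ℤ) := by
      rw [← Nat.cast_sum, ← Finset.card_eq_sum_card_image]
    have hFc : (F.card : ℤ) = (Nat.card A : ℤ) - 1 := by
      rw [hF, Finset.card_erase_of_mem (Finset.mem_univ _), Finset.card_univ,
        ← Nat.card_eq_fintype_card, card_dual]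
      have := Nat.card_pos (α := A)
      omega
    calc (Nat.card A : ℤ) - 1 = ∑ ψ ∈ I, ((F.filter fun b => Ψ b = ψ).card : ℤ) := by rw [← hFc, h]
      _ ≤ ∑ ψ ∈ I, (1 + n ψ) := Finset.sum_le_sum fun ψ hψ => (hnI ψ hψ).2.1
      _ = (I.card : ℤ) + ∑ ψ ∈ I, n ψ := by
        rw [Finset.sum_add_distrib, Finset.sum_const, nsmul_eq_mul, mul_one]
  -- the weights
  have hp : principal G ∈ S := (hmemS _).2 principal_mem_principalBlock
  have hd1 : d (principal G) = 1 := by
    have h : ((d (principal G) : ℤ) : ℂ) = ((1 : ℤ) : ℂ) := by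
      rw [← hd0, Int.cast_one]; rfl
    exact_mod_cast h
  have hn1p : n (principal G) = 1 := hnreal _ (fun g => by simp [principal]) (fun m hm => by
    have : (1 : ℂ) = (m : ℂ) := by rw [← hm]; rfl
    rw [show m = 1 from (Nat.cast_eq_one.1 this.symm)]; exact odd_one)
  have hpI : principal G ∉ I := fun h => (hnI _ h).2.2.2.2 rfl
  have hsub : insert (principal G) I ⊆ S := by
    intro χ hχ
    rcases Finset.mem_insert.1 hχ with rfl | h
    · exact hp
    · exact (hnI χ h).2.2.1
  set R := S \ insert (principal G) I with hR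
  have hsplit : ∀ f : IrrCharacter G → ℤ,
      ∑ χ ∈ S, f χ = (f (principal G) + ∑ χ ∈ I, f χ) + ∑ χ ∈ R, f χ := fun f => by
    rw [← Finset.sum_insert hpI, hR, add_comm, Finset.sum_sdiff hsub]
  have hnu' : ∑ χ ∈ S, n χ * d χ = 0 := by
    have h : ((∑ χ ∈ S, n χ * d χ : ℤ) : ℂ) = 0 := by
      push_cast
      rw [← hnu]
      exact Finset.sum_congr rfl fun χ _ => by rw [hn χ]
    exact_mod_cast h
  rw [hsplit, hn1p, hd1, Finset.sum_congr rfl (g := n) fun χ hχ => by
    rw [(hnI χ hχ).2.2.2.1, mul_one]] at hnu'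
  rw [hsplit, hd1, Finset.sum_congr rfl (g := fun _ => (1 : ℤ)) fun χ hχ => by
    rw [(hnI χ hχ).2.2.2.1, mul_one], Finset.sum_const, nsmul_eq_mul, mul_one] at hd2
  have hle : ∀ χ ∈ R, -(n χ * d χ) ≤ d χ * d χ := by
    intro χ _
    have a1 := hn1 χ; have a2 := hn1' χ
    rcases le_or_gt 0 (d χ) with h | h <;>
      nlinarith [mul_self_nonneg (d χ), mul_self_nonneg (d χ + 1), mul_self_nonneg (d χ - 1)]
  have hbound : ∀ χ ∈ R, d χ * d χ = 1 := by
    intro χ hχ
    have hge : ∑ χ ∈ R, d χ * d χ ≤ ∑ χ ∈ R, -(n χ * d χ) := by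
      rw [Finset.sum_neg_distrib]
      push_cast at hd2
      linarith
    have heq := (Finset.sum_eq_sum_iff_of_le hle).1 (le_antisymm (Finset.sum_le_sum hle) hge) χ hχ
    have hχB : χ ∈ principalBlock M G := (hmemS χ).1 (Finset.mem_sdiff.1 (hR ▸ hχ)).1
    have hne0 := hdne χ hχB
    have h2 : d χ = -n χ := by
      have : d χ * (d χ + n χ) = 0 := by linarith
      linarith [(mul_eq_zero.1 this).resolve_left hne0]
    have a1 := hn1 χ; have a2 := hn1' χ
    have : d χ = 1 ∨ d χ = -1 := by omega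
    rcases this with e | e <;> rw [e] <;> norm_num
  rw [Finset.sum_congr rfl hbound, Finset.sum_const, nsmul_eq_mul, mul_one] at hd2
  have hk : Nat.card (principalBlock M G) = S.card := by
    rw [Nat.card_eq_fintype_card, Fintype.card_subtype, hS]
  have hS' : S.card = (1 + I.card) + R.card := by
    rw [hR, Finset.card_sdiff_of_subset hsub, Finset.card_insert_of_notMem hpI]
    have := Finset.card_le_card hsub
    rw [Finset.card_insert_of_notMem hpI] at this
    omega
  rw [hk, hS']
  push_cast at hd2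
  simp only [mul_one] at hd2
  exact_mod_cast hd2

end Cfsg.Agent.RegularOrbit
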