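import Cfsg.Agent.Lib.Blocks.RegularOrbit.Local
import Cfsg.Agent.Lib.Blocks.RegularOrbit.Weights
import Cfsg.Agent.Lib.Blocks.RegularOrbit.Signalizer
import Cfsg.Agent.Lib.Star.Abelian.Count
import Mathlib.GroupTheory.SpecificGroups.ZGroup
import Mathlib.GroupTheory.Nilpotent
import Mathlib.GroupTheory.SpecificGroups.Cyclic

/-!
The principal 2-block when the inertial quotient acts without fixed points on an abelian Sylow
2-subgroup of order at most sixteen.
-/

set_option autoImplicit false
set_option linter.style.haveILetI false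
set_option linter.unusedSectionVars false

namespace Cfsg.Agent.RegularOrbit

open Cfsg Cfsg.Agent.Blocks Cfsg.Agent.Char Cfsg.Agent.BrauerPairs

universe u

/-- Groups of order five, seven or fifteen are commutative. -/
theorem comm_of_small {A : Type*} [Group A] [Finite A]
    (h : (Nat.card A).Prime ∨ Nat.card A = 15) : ∀ a b : A, a * b = b * a := by
  suffices hc : IsCyclic A by
    letI := @IsCyclic.commGroup A _ hc
    exact fun a b => mul_comm a b
  rcases h with h | h
  · haveI := Fact.mk h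
    exact isCyclic_of_prime_card (p := Nat.card A) rfl
  haveI : Group.IsNilpotent A := by
    refine ((Group.isNilpotent_of_finite_tfae (G := A)).out 0 3 rfl rfl).2 fun p hp S => ?_
    by_cases hd : p ∣ Nat.card A
    · have hS : Nat.card (Sylow p A) = 1 := by
        have hdvd : Nat.card (Sylow p A) ∣ 15 := h ▸ (S.card_dvd_index.trans S.index_dvd_card)
        have hmod : Nat.card (Sylow p A) ≡ 1 [MOD p] := card_sylow_modEq_one p A
        have hidx : Nat.card (Sylow p A) ∣ (S : Subgroup A).index := S.card_dvd_index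
        have hnd : ¬ p ∣ (S : Subgroup A).index := S.not_dvd_index
        rw [h] at hd
        have hp5 : p = 3 ∨ p = 5 := by
          have := Nat.le_of_dvd (by norm_num) hd
          have h2 := hp.out.two_le
          interval_cases p <;> first | omega | (exact absurd hp.out (by norm_num)) | norm_num at hd
        obtain ⟨k, hk⟩ : ∃ k, Nat.card (Sylow p A) = k := ⟨_, rfl⟩
        rw [hk] at hdvd hmod hidx ⊢
        have hk15 : k ≤ 15 := Nat.le_of_dvd (by norm_num) hdvd
        rcases hp5 with rfl | rfl <;> interval_cases k <;>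
          first
            | rfl
            | (exfalso; revert hdvd hmod; decide)
      haveI : Subsingleton (Sylow p A) := Finite.card_le_one_iff_subsingleton.1 hS.le
      exact Sylow.normal_of_subsingleton S
    · have : (S : Subgroup A) = ⊥ := by
        obtain ⟨k, hk⟩ := IsPGroup.iff_card.1 S.isPGroup'
        rcases k with _ | k
        · exact Subgroup.card_eq_one.1 (by rw [hk, pow_zero])
        · exact absurd ((dvd_pow_self p (Nat.succ_ne_zero k)).trans
            (hk ▸ Subgroup.card_subgroup_dvd_card _)) hd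
      rw [this]; infer_instance
  haveI : IsZGroup A := IsZGroup.of_squarefree (h ▸ (by
    rw [show (15 : ℕ) = 3 * 5 by norm_num, Nat.squarefree_mul (by norm_num)]
    exact ⟨(by norm_num : Nat.Prime 3).prime.squarefree, (by norm_num : Nat.Prime 5).prime.squarefree⟩ : Squarefree (15 : ℕ)))
  infer_instance

variable {G : Type u} [Group G] [Fintype G] {M : Ideal AlgInt} [M.IsPrime] {P : Sylow 2 G} {x : G}

/-- The map of a subgroup covering the normaliser onto the inertial quotient. -/
theorem exists_projection {H K : Subgroup G} (hnorm : ∀ m ∈ H, ∀ k ∈ K, m * k * m⁻¹ ∈ K)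
    (hKC : K ⊓ nN P ≤ cC P) (hcover : ∀ m ∈ H, ∃ n ∈ nN P, n⁻¹ * m ∈ K) (hNH : nN P ≤ H)
    [((cC P).subgroupOf (nN P)).Normal] :
    ∃ φ : H →* nN P ⧸ (cC P).subgroupOf (nN P),
      (∀ n : H, ∀ hn : (n : G) ∈ nN P, φ n = QuotientGroup.mk ⟨(n : G), hn⟩) ∧
      ∀ m : H, (m : G) ∈ K → φ m = 1 := by
  classical
  choose f hfN hfK using fun m : H => hcover m m.2
  have key : ∀ (m : H) (n : G) (hn : n ∈ nN P), n⁻¹ * (m : G) ∈ K →
      (QuotientGroup.mk (⟨f m, hfN m⟩ : nN P) : nN P ⧸ (cC P).subgroupOf (nN P)) =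
        QuotientGroup.mk ⟨n, hn⟩ := by
    intro m n hn hk
    refine QuotientGroup.eq.2 (Subgroup.mem_subgroupOf.2 (hKC (Subgroup.mem_inf.2 ⟨?_, mul_mem (inv_mem (hfN m)) hn⟩)))
    have h := mul_mem (hfK m) (inv_mem hk)
    simpa [mul_assoc] using h
  refine ⟨MonoidHom.mk' (fun m => QuotientGroup.mk (⟨f m, hfN m⟩ : nN P)) fun a b => ?_,
    fun n hn => key n _ hn (by rw [inv_mul_cancel]; exact one_mem K),
    fun m hm => (key m 1 (one_mem _) (by rwa [inv_one, one_mul])).trans
      ((QuotientGroup.eq_one_iff _).2 (one_mem _))⟩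
  rw [key (a * b) (f a * f b) (mul_mem (hfN a) (hfN b)), ← QuotientGroup.mk_mul]
  · rfl
  · have h1 : (f b)⁻¹ * ((f a)⁻¹ * (a : G)) * f b ∈ K := by
      simpa using hnorm _ (inv_mem (hNH (hfN b))) _ (hfK a)
    have h2 := mul_mem h1 (hfK b)
    rw [Subgroup.coe_mul]
    convert h2 using 1
    group

theorem elementary_of_large (hO : Orbit P x)
    (hfree : ∀ n ∈ nN P, ∀ u ∈ (P : Subgroup G), u ≠ 1 → n * u * n⁻¹ = u → n ∈ cC P)
    (hq : Nat.card (P : Subgroup G) ≤ 16) (he : 3 < eIdx P) :
    ∀ a ∈ (P : Subgroup G), a * a = 1 := by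
  classical
  by_contra hcon
  push Not at hcon
  obtain ⟨y, hy, hy1⟩ := hcon
  let sq : (P : Subgroup G) →* (P : Subgroup G) :=
    MonoidHom.mk' (fun a => a * a) fun a b => Subtype.ext (by
      simp only [Subgroup.coe_mul]
      rw [show (a : G) * b * (a * b) = a * (b * a) * b by group, hO.comm b b.2 a a.2]
      group)
  have h5 : 5 ≤ eIdx P := by
    have := eIdx_odd hO.comm
    omega
  have hx2 : x * x = 1 := by rw [← pow_two, ← hO.ord, pow_orderOf_eq_one]
  have hx1 : x ≠ 1 := fun e => by
    have := hO.ord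
    rw [e, orderOf_one] at this
    omega
  have hker : eIdx P + 1 ≤ Nat.card sq.ker := by
    have h := eIdx_le_card hO.mem hO.stab
      {v : G | v ∈ (P : Subgroup G) ∧ v * v = 1 ∧ v ≠ 1} fun n hn =>
      ⟨mem_P_of_conj hn hO.mem, by
        rw [show n * x * n⁻¹ * (n * x * n⁻¹) = n * (x * x) * n⁻¹ by group, hx2]; group,
        fun e => hx1 (conj_eq_one_iff.1 e)⟩
    have hcard : Nat.card {v : G | v ∈ (P : Subgroup G) ∧ v * v = 1 ∧ v ≠ 1} + 1 =
        Nat.card sq.ker := by
      rw [Nat.card_eq_fintype_card (α := sq.ker), Fintype.card_subtype,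
        Nat.card_eq_fintype_card, Fintype.card_subtype,
        ← Finset.card_erase_add_one (s := Finset.univ.filter fun a => a ∈ sq.ker)
          (a := 1) (by simp)]
      congr 1
      refine Finset.card_bij (fun v hv => ⟨v, (Finset.mem_filter.1 hv).2.1⟩) (fun v hv => ?_)
        (fun v _ w _ e => congrArg Subtype.val e) fun a ha => ?_
      · obtain ⟨h1, h2, h3⟩ := (Finset.mem_filter.1 hv).2
        simp only [Finset.mem_erase, ne_eq, Finset.mem_filter, Finset.mem_univ, true_and,
          MonoidHom.mem_ker]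
        exact ⟨fun e => h3 (congrArg Subtype.val e), Subtype.ext h2⟩
      · simp only [Finset.mem_erase, ne_eq, Finset.mem_filter, Finset.mem_univ, true_and,
          MonoidHom.mem_ker] at ha
        exact ⟨(a : G), Finset.mem_filter.2 ⟨Finset.mem_univ _, a.2, congrArg Subtype.val ha.2,
          fun e => ha.1 (Subtype.ext e)⟩, rfl⟩
    omega
  have himg : eIdx P ≤ Nat.card sq.range := by
    have hu : y * y ∈ (P : Subgroup G) := mul_mem hy hy
    have h := eIdx_le_card hu (fun n hn e => hfree n hn _ hu hy1 e)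
      (Subtype.val '' (sq.range : Set (P : Subgroup G))) fun n hn =>
      ⟨sq ⟨n * y * n⁻¹, mem_P_of_conj hn hy⟩, ⟨_, rfl⟩, by
        show n * y * n⁻¹ * (n * y * n⁻¹) = n * (y * y) * n⁻¹
        group⟩
    rwa [Nat.card_image_of_injective Subtype.val_injective] at h
  have hmul : Nat.card sq.ker * Nat.card sq.range = Nat.card (P : Subgroup G) := by
    rw [← sq.ker.card_mul_index, Subgroup.index_ker]
  have h1 : 6 * 5 ≤ Nat.card sq.ker * Nat.card sq.range := Nat.mul_le_mul (by omega) (by omega)
  omega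

/-- The free counts. -/
theorem free_counts (hM : IsPModular 2 M) (hO : Orbit P x)
    (hfree : ∀ n ∈ nN P, ∀ u ∈ (P : Subgroup G), u ≠ 1 → n * u * n⁻¹ = u → n ∈ cC P)
    (hq : Nat.card (P : Subgroup G) ≤ 16) :
    ∃ m, m * eIdx P + 1 = Nat.card (P : Subgroup G) ∧
      blockRank 2 (principalBlock M G) = eIdx P ∧
      Nat.card (principalBlock M G) = eIdx P + m := by
  classical
  haveI : Fact (Nat.Prime 2) := ⟨Nat.prime_two⟩
  haveI : Fintype (cC P) := Fintype.ofFinite _
  have hx1 : x ≠ 1 := fun e => by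
    have := hO.ord
    rw [e, orderOf_one] at this
    omega
  have hP1 : (P : Subgroup G) ≠ ⊥ := fun e => hx1 (by
    have := hO.mem
    rwa [e, Subgroup.mem_bot] at this)
  have hstabP : stabP ((P : Subgroup G), zB M (cC P) (principalBlock M (cC P))) = nN P :=
    Subgroup.ext (mem_stab_principal hM)
  have hfree' : FreeInertia (P : Subgroup G) (zB M (cC P) (principalBlock M (cC P))) :=
    fun g hg u hu hu1 h => hfree g ((mem_stab_principal hM g).1 hg) u hu hu1 h
  obtain ⟨m, hm, -, hk, hl, hl3⟩ := Abelian.abelian_free_counts hM (principal_defect hM) hP1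
    (le_cC hO.comm) (principal_induced hM hO.comm) hfree' (e := eIdx P) (congrArg (cC P).relIndex hstabP)
  by_cases he : eIdx P ≤ 3
  · exact ⟨m, hm, hl3 he, by rw [hk, hl3 he]⟩
  push Not at he
  refine ⟨m, hm, ?_⟩
  suffices h : eIdx P ≤ blockRank 2 (principalBlock M G) ∨
      Nat.card (principalBlock M G) = eIdx P + m by omega
  have hsq := elementary_of_large hO hfree hq he
  have h8 : 8 ≤ Nat.card (P : Subgroup G) := by
    obtain ⟨j, hj⟩ := IsPGroup.iff_card.1 P.isPGroup'
    rw [hj] at hm ⊢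
    rcases m with _ | m
    · simp at hm; rcases j with _ | j
      · exact absurd (Subgroup.card_eq_one.1 (hj.trans (pow_zero 2))) hP1
      · rw [pow_succ] at hm; omega
    · have h1 : eIdx P + 1 ≤ 2 ^ j := by rw [← hm]; nlinarith
      by_contra hlt
      have hj3 : j < 3 := by
        by_contra h3
        exact hlt (by simpa using Nat.pow_le_pow_right (show 1 ≤ 2 by norm_num) (not_lt.1 h3))
      interval_cases j <;> simp at h1 <;> omega
  have he15 : (eIdx P).Prime ∨ eIdx P = 15 := by
    obtain ⟨j, hj⟩ := IsPGroup.iff_card.1 P.isPGroup'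
    rw [hj] at hm hq h8
    have hle : eIdx P ≤ 16 := le_trans (Nat.le_mul_of_pos_left _ (Nat.pos_of_ne_zero fun h0 => by
      rw [h0] at hm; omega)) (le_trans (Nat.le_succ _) (hm.le.trans hq))
    have hj4 : j ≤ 4 := by
      by_contra h4
      have := Nat.pow_le_pow_right (show 1 ≤ 2 by norm_num) (Nat.lt_of_not_le h4)
      omega
    generalize eIdx P = e at *
    have hodd := eIdx_odd (P := P) hO.comm
    interval_cases j <;> simp at h8 hm <;> interval_cases e <;>
      first | (left; norm_num; done) | (right; rfl) | omega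
  haveI := cC_normal (P := P)
  set A := nN P ⧸ (cC P).subgroupOf (nN P) with hA
  have hAcard : Nat.card A = eIdx P := rfl
  letI : CommGroup A :=
    { (inferInstance : Group A) with mul_comm := comm_of_small (hAcard ▸ he15) }
  obtain ⟨H, K, hKH, hNH, hnorm, hCK, hKC, hcover, hse⟩ :=
    exists_embedded hO.comm hsq h8 hfree
  obtain ⟨φ, hφN, hφK⟩ := exists_projection hnorm hKC hcover hNH
  have hsurj : Function.Surjective φ := by
    intro α
    obtain ⟨n, rfl⟩ := QuotientGroup.mk_surjective α
    exact ⟨⟨n, hNH n.2⟩, hφN _ n.2⟩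
  have hker : ∀ v : H, Commute (v : G) x → φ v = 1 := fun v hv =>
    hφK v (hCK x hO.mem hx1 (Subgroup.mem_centralizer_singleton_iff.2 hv.eq))
  have hodd : ¬ 2 ∣ Nat.card A := eIdx_odd hO.comm
  set C := Subgroup.centralizer ({x} : Set G) with hC
  haveI : Fintype C := Fintype.ofFinite C
  obtain ⟨-, hfac, N, hN, hNodd, hidx, hNreg⟩ := exists_complement hO.comm hO.mem hO.stab hC
  obtain ⟨d, hd0, hd2, hdne, hsum⟩ :=
    column hM hO.ord hC hfac N hNodd hidx P.card_eq_multiplicity hNreg
  by_cases hH : H = ⊤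
  · left
    rw [← hAcard]
    exact linear_rank hC N hsum (φ := φ.comp (MonoidHom.mk'
      (fun g => (⟨g, hH ▸ Subgroup.mem_top g⟩ : H)) fun _ _ => rfl))
      (fun g hg => hker ⟨g, hH ▸ Subgroup.mem_top g⟩ hg)
      (fun α => by
        obtain ⟨v, rfl⟩ := hsurj α
        exact ⟨v, rfl⟩) hodd
  right
  have hHse := hse hH
  have htrans : Nat.card (P : Subgroup G) ≤ eIdx P + 1 := by
    have h : {v : G | v ∈ (P : Subgroup G) ∧ v ≠ 1} ⊆ {v | ∃ n ∈ nN P, n * x * n⁻¹ = v} := by
      rintro v ⟨hv, hv1⟩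
      exact fusion hO.comm hO.mem hv (Invol.se_isConj hHse hO.ord
        (orderOf_eq_prime (by rw [pow_two]; exact hsq v hv) hv1))
    have h1 := Nat.card_mono (Set.toFinite _) h
    rw [show Nat.card {v | ∃ n ∈ nN P, n * x * n⁻¹ = v} = eIdx P from
      card_orbit hO.mem hO.stab] at h1
    have h2 : Nat.card {v : G | v ∈ (P : Subgroup G) ∧ v ≠ 1} + 1 =
        Nat.card (P : Subgroup G) := by
      rw [Nat.card_eq_fintype_card, Fintype.card_subtype, Nat.card_eq_fintype_card,
        Fintype.card_subtype]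
      simp only [Set.mem_setOf_eq]
      have e : (Finset.univ.filter fun v : G => v ∈ (P : Subgroup G) ∧ v ≠ 1) =
          (Finset.univ.filter fun v : G => v ∈ (P : Subgroup G)).erase 1 := by
        ext v; simp [and_comm]
      rw [e, Finset.card_erase_add_one (by simp)]
    omega
  have hm1 : m = 1 := by nlinarith [eIdx_pos (P := P)]
  subst hm1
  rw [one_mul] at hm
  have hroot : ∀ w : C, ¬ 2 ∣ orderOf w → ∀ t : G, t * t ≠ x * (w : G) := by
    intro w hw t ht
    obtain ⟨r, hr⟩ : Odd (orderOf w) := Nat.odd_iff.2 (Nat.two_dvd_ne_zero.1 hw)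
    have hcomm : Commute x (w : G) := (Subgroup.mem_centralizer_singleton_iff.1 w.2).symm
    have hwo : (w : G) ^ orderOf w = 1 := by rw [← Subgroup.orderOf_coe, pow_orderOf_eq_one]
    have hxo : x ^ orderOf w = x := by
      rw [hr, pow_succ, pow_mul, pow_two, hsq x hO.mem, one_pow, one_mul]
    have htC : t ∈ C := by
      refine Subgroup.mem_centralizer_singleton_iff.2 ?_
      have e : x = (t * t) ^ orderOf w := by rw [ht, hcomm.mul_pow, hwo, hxo, mul_one]
      rw [e]
      exact (((Commute.refl t).mul_right (Commute.refl t)).pow_right _).eq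
    have hPC : (P : Subgroup G) ≤ C := fun v hv =>
      Subgroup.mem_centralizer_singleton_iff.2 (hO.comm v hv x hO.mem)
    obtain ⟨k, hk⟩ := IsPGroup.iff_card.1 P.isPGroup'
    have hgrp : IsPGroup 2 (C ⧸ N) := IsPGroup.of_card (n := k) (hidx.trans hk)
    have htop := PBasic.sylow_sup_eq_top (P.subtype hPC) (N := N) hgrp
    have hmem : (⟨t, htC⟩ : C) ∈ ((P.subtype hPC : Subgroup C) ⊔ N : Subgroup C) := by
      rw [htop]; exact Subgroup.mem_top _
    rw [← SetLike.mem_coe, Subgroup.mul_normal] at hmem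
    obtain ⟨v, hv, n, hn, e⟩ := Set.mem_mul.1 hmem
    have hv2 : v * v = 1 := Subtype.ext (hsq _ hv)
    have hmk : (QuotientGroup.mk (⟨t, htC⟩ : C) : C ⧸ N) = QuotientGroup.mk v := by
      rw [← e, QuotientGroup.mk_mul, (QuotientGroup.eq_one_iff n).2 hn, mul_one]
    have hxC : x ∈ C := hPC hO.mem
    have hxw : (⟨t, htC⟩ : C) * ⟨t, htC⟩ = ⟨x, hxC⟩ * w := Subtype.ext ht
    have hmk2 := congrArg (QuotientGroup.mk : C → C ⧸ N) hxw
    rw [QuotientGroup.mk_mul, hmk, ← QuotientGroup.mk_mul, hv2, QuotientGroup.mk_mul,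
      (QuotientGroup.eq_one_iff w).2 ((hNreg w).1 hw), mul_one] at hmk2
    have h2 : orderOf (⟨x, hxC⟩ : C) = 2 := by rw [Subgroup.orderOf_mk, hO.ord]
    exact (hNreg _).2 ((QuotientGroup.eq_one_iff _).1 hmk2.symm) (by rw [h2])
  have hnu := indicator_sum N hsum hroot
  have hregC : (Finset.univ.filter fun v : C => ¬ 2 ∣ orderOf v).card = Nat.card N := by
    rw [Nat.card_eq_fintype_card, Fintype.card_subtype]
    exact congrArg Finset.card (Finset.filter_congr fun v _ => hNreg v)
  have hHodd : Odd H.index := by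
    rw [Nat.odd_iff, ← Nat.two_dvd_ne_zero]
    exact fun h => P.not_dvd_index (h.trans
      (Subgroup.index_dvd_of_le ((Subgroup.le_normalizer).trans hNH)))
  rw [regular_count hO.ord hC N hregC hd0 (by rw [hd2, hAcard, hm]) hdne hsum hnu hHse
    (hNH (Subgroup.le_normalizer hO.mem)) hHodd hker hsurj hodd, hAcard]

end Cfsg.Agent.RegularOrbit
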