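import Cfsg.Agent.Lib.Transfer.Abelian
import Mathlib.GroupTheory.Sylow
import Mathlib.Algebra.Group.Conj

/-!
Abelian Sylow 2-subgroups and an element whose stabiliser in the normaliser is the centraliser.
-/

set_option autoImplicit false
set_option linter.style.haveILetI false
set_option linter.unusedSectionVars false

namespace Cfsg.Agent.RegularOrbit

open Cfsg

universe u

variable {G : Type u} [Group G]

/-- An abelian Sylow 2-subgroup with an involution moved by every element of the normaliser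
outside the centraliser. -/
structure Orbit (P : Sylow 2 G) (x : G) : Prop where
  comm : ∀ a ∈ (P : Subgroup G), ∀ b ∈ (P : Subgroup G), a * b = b * a
  mem : x ∈ (P : Subgroup G)
  ord : orderOf x = 2
  stab : ∀ n ∈ Subgroup.normalizer ((P : Subgroup G) : Set G), n * x * n⁻¹ = x →
    n ∈ Subgroup.centralizer ((P : Subgroup G) : Set G)

/-- The normaliser. -/
abbrev nN (P : Sylow 2 G) : Subgroup G := Subgroup.normalizer ((P : Subgroup G) : Set G)

/-- The centraliser. -/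
abbrev cC (P : Sylow 2 G) : Subgroup G := Subgroup.centralizer ((P : Subgroup G) : Set G)

variable {P : Sylow 2 G}

theorem cC_le_nN : cC P ≤ nN P := fun c hc => by
  refine Subgroup.mem_normalizer_iff.2 fun h => ⟨fun hh => ?_, fun hh => ?_⟩
  · rwa [show c * h * c⁻¹ = h by rw [← Subgroup.mem_centralizer_iff.1 hc h hh, mul_inv_cancel_right]]
  · have h1 := Subgroup.mem_centralizer_iff.1 hc _ hh
    rw [inv_mul_cancel_right] at h1
    rwa [show c * h * c⁻¹ = h by
      apply mul_left_cancel (a := c)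
      rw [← h1]] at hh

theorem mem_P_of_conj {n v : G} (hn : n ∈ nN P) (hv : v ∈ (P : Subgroup G)) :
    n * v * n⁻¹ ∈ (P : Subgroup G) :=
  (Subgroup.mem_normalizer_iff.1 hn v).1 hv

/-- Conjugation by an element of the centraliser is trivial on the Sylow subgroup. -/
theorem conj_cC {c v : G} (hc : c ∈ cC P) (hv : v ∈ (P : Subgroup G)) : c * v * c⁻¹ = v := by
  rw [← Subgroup.mem_centralizer_iff.1 hc v hv, mul_inv_cancel_right]

theorem cC_normal : ((cC P).subgroupOf (nN P)).Normal := by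
  constructor
  intro c hc n
  rw [Subgroup.mem_subgroupOf] at hc ⊢
  refine Subgroup.mem_centralizer_iff.2 fun v hv => ?_
  have h := Subgroup.mem_centralizer_iff.1 hc _ (mem_P_of_conj (inv_mem n.2) hv)
  simp only [Subgroup.coe_mul, Subgroup.coe_inv] at h ⊢
  calc v * ((n : G) * c * (n : G)⁻¹)
      = (n : G) * ((n : G)⁻¹ * v * (n : G)⁻¹⁻¹ * c) * (n : G)⁻¹ := by group
    _ = (n : G) * (c * ((n : G)⁻¹ * v * (n : G)⁻¹⁻¹)) * (n : G)⁻¹ := by rw [h]
    _ = (n : G) * c * (n : G)⁻¹ * v := by group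

variable [Finite G]

/-- The inertial index. -/
noncomputable abbrev eIdx (P : Sylow 2 G) : ℕ := (cC P).relIndex (nN P)

theorem le_cC (hab : ∀ a ∈ (P : Subgroup G), ∀ b ∈ (P : Subgroup G), a * b = b * a) :
    (P : Subgroup G) ≤ cC P :=
  fun a ha => Subgroup.mem_centralizer_iff.2 fun b hb => hab b hb a ha

theorem eIdx_pos : 0 < eIdx P :=
  Nat.pos_of_ne_zero Subgroup.index_ne_zero_of_finite

/-- The inertial index is odd. -/
theorem eIdx_odd (hab : ∀ a ∈ (P : Subgroup G), ∀ b ∈ (P : Subgroup G), a * b = b * a) :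
    ¬ 2 ∣ eIdx P := by
  haveI : Fact (Nat.Prime 2) := ⟨Nat.prime_two⟩
  intro h2
  refine P.not_dvd_index (h2.trans ?_)
  rw [← Subgroup.relIndex_mul_index ((le_cC hab).trans cC_le_nN),
    ← Subgroup.relIndex_mul_relIndex _ _ _ (le_cC hab) cC_le_nN]
  exact Dvd.intro_left _ rfl |>.mul_right _

/-- An element fixed by the stabiliser subgroup only if the stabiliser is the centraliser has an
orbit of size the inertial index. -/
theorem card_orbit {u : G} (hu : u ∈ (P : Subgroup G))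
    (hstab : ∀ n ∈ nN P, n * u * n⁻¹ = u → n ∈ cC P) :
    Nat.card {v : G // ∃ n ∈ nN P, n * u * n⁻¹ = v} = eIdx P := by
  classical
  let f : nN P ⧸ (cC P).subgroupOf (nN P) → {v : G // ∃ n ∈ nN P, n * u * n⁻¹ = v} :=
    fun q => ⟨(q.out : G) * u * (q.out : G)⁻¹, (q.out : G), q.out.2, rfl⟩
  rw [eIdx, Subgroup.relIndex, Subgroup.index]
  refine (Nat.card_eq_of_bijective f ⟨fun q q' h => ?_, ?_⟩).symm
  · have h' : (q.out : G) * u * (q.out : G)⁻¹ = (q'.out : G) * u * (q'.out : G)⁻¹ :=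
      congrArg Subtype.val h
    have hm := hstab _ (mul_mem (inv_mem q'.out.2) q.out.2)
      (by
        calc (q'.out : G)⁻¹ * q.out * u * ((q'.out : G)⁻¹ * q.out)⁻¹
            = (q'.out : G)⁻¹ * ((q.out : G) * u * (q.out : G)⁻¹) * q'.out := by group
          _ = u := by rw [h']; group)
    have hq : (QuotientGroup.mk q'.out : nN P ⧸ (cC P).subgroupOf (nN P)) =
        QuotientGroup.mk q.out :=
      QuotientGroup.eq.2 (Subgroup.mem_subgroupOf.2 (by simpa using hm))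
    rw [QuotientGroup.out_eq', QuotientGroup.out_eq'] at hq
    exact hq.symm
  · rintro ⟨v, n, hn, rfl⟩
    refine ⟨QuotientGroup.mk ⟨n, hn⟩, Subtype.ext ?_⟩
    obtain ⟨c, hc⟩ := QuotientGroup.mk_out_eq_mul ((cC P).subgroupOf (nN P)) ⟨n, hn⟩
    show ((QuotientGroup.mk ⟨n, hn⟩ : nN P ⧸ _).out : G) * u * _⁻¹ = _
    rw [hc]
    simp only [Subgroup.coe_mul]
    calc n * ((c : nN P) : G) * u * (n * ((c : nN P) : G))⁻¹
        = n * (((c : nN P) : G) * u * ((c : nN P) : G)⁻¹) * n⁻¹ := by group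
      _ = n * u * n⁻¹ := by rw [conj_cC (Subgroup.mem_subgroupOf.1 c.2) hu]

/-- The orbit of an element with smallest stabiliser lies in any invariant set containing it. -/
theorem eIdx_le_card {u : G} (hu : u ∈ (P : Subgroup G))
    (hstab : ∀ n ∈ nN P, n * u * n⁻¹ = u → n ∈ cC P) (S : Set G)
    (hS : ∀ n ∈ nN P, n * u * n⁻¹ ∈ S) : eIdx P ≤ Nat.card S := by
  rw [← card_orbit hu hstab]
  exact Nat.card_mono (Set.toFinite S) (fun v ⟨n, hn, e⟩ => e ▸ hS n hn)

/-- When the index is prime an element of the Sylow subgroup is fixed or has smallest stabiliser. -/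
theorem fixed_or_stab (he : (eIdx P).Prime) {u : G} (hu : u ∈ (P : Subgroup G)) :
    (∀ n ∈ nN P, n * u * n⁻¹ = u) ∨ (∀ n ∈ nN P, n * u * n⁻¹ = u → n ∈ cC P) := by
  have hcS : cC P ≤ nN P ⊓ Subgroup.centralizer ({u} : Set G) := fun c hc =>
    ⟨cC_le_nN hc, Subgroup.mem_centralizer_singleton_iff.2
      (Subgroup.mem_centralizer_iff.1 hc u hu).symm⟩
  have hmul := Subgroup.relIndex_mul_relIndex _ _ (nN P) hcS inf_le_left
  rcases he.eq_one_or_self_of_dvd _ (Dvd.intro _ hmul) with h1 | h1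
  · right
    intro n hn hfix
    exact Subgroup.relIndex_eq_one.1 h1
      ⟨hn, Subgroup.mem_centralizer_singleton_iff.2 (mul_inv_eq_iff_eq_mul.1 hfix)⟩
  · left
    intro n hn
    rw [h1, mul_eq_left₀ (Nat.pos_iff_ne_zero.1 he.pos), Subgroup.relIndex_eq_one] at hmul
    exact mul_inv_eq_iff_eq_mul.2 (Subgroup.mem_centralizer_singleton_iff.1 (hmul hn).2)

/-- The centraliser of an element with smallest stabiliser has a normal 2-complement. -/
theorem exists_complement (hab : ∀ a ∈ (P : Subgroup G), ∀ b ∈ (P : Subgroup G), a * b = b * a)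
    {u : G} (hu : u ∈ (P : Subgroup G))
    (hstab : ∀ n ∈ nN P, n * u * n⁻¹ = u → n ∈ cC P) {C : Subgroup G}
    (hC : C = Subgroup.centralizer ({u} : Set G)) :
    HasNormalPComplement 2 C ∧ (Nat.card C).factorization 2 = (Nat.card G).factorization 2 ∧
      ∃ N : Subgroup C, N.Normal ∧ ¬ 2 ∣ Nat.card N ∧ N.index = Nat.card (P : Subgroup G) ∧
        ∀ w : C, ¬ 2 ∣ orderOf w ↔ w ∈ N := by
  classical
  haveI : Fact (Nat.Prime 2) := ⟨Nat.prime_two⟩
  have hPC : (P : Subgroup G) ≤ C := fun v hv => hC ▸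
    Subgroup.mem_centralizer_singleton_iff.2 (hab v hv u hu)
  let Pc : Sylow 2 C := P.subtype hPC
  have hab' : IsMulCommutative (Pc : Subgroup C) :=
    ⟨⟨fun a b => Subtype.ext (Subtype.ext (hab _ a.2 _ b.2))⟩⟩
  have hnc : HasNormalPComplement 2 C := by
    refine AbelianSylow.hasNormalPComplement_of_abelian Pc hab' fun n hn _ => ?_
    have hn' : (n : G) ∈ nN P := by
      refine Subgroup.mem_normalizer_iff.2 fun w => ⟨fun hw => ?_, fun hw => ?_⟩
      · exact ((Subgroup.mem_normalizer_iff.1 hn) ⟨w, hPC hw⟩).1 hw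
      · have hwC : w ∈ C := by
          have := C.mul_mem (C.mul_mem (C.inv_mem n.2) (hPC hw)) n.2
          simpa [mul_assoc] using this
        exact ((Subgroup.mem_normalizer_iff.1 hn) ⟨w, hwC⟩).2 hw
    have hcen := hstab _ hn' (mul_inv_eq_iff_eq_mul.2
      (Subgroup.mem_centralizer_singleton_iff.1 (hC.le n.2)))
    exact Subgroup.mem_centralizer_iff.2 fun q hq =>
      Subtype.ext (Subgroup.mem_centralizer_iff.1 hcen q hq)
  have hcardP : Nat.card (Pc : Subgroup C) = Nat.card (P : Subgroup G) :=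
    Nat.card_congr (Subgroup.subgroupOfEquivOfLe hPC).toEquiv
  have hfac : (Nat.card C).factorization 2 = (Nat.card G).factorization 2 := by
    have h1 := Pc.card_eq_multiplicity
    have h2 := P.card_eq_multiplicity
    rw [hcardP] at h1
    exact (Nat.pow_right_injective le_rfl (h1.symm.trans h2 : 2 ^ _ = 2 ^ _))
  obtain ⟨N, hN, hcop, k, hk⟩ := PBasic.hasNormalPComplement_iff.1 hnc
  have hodd : ¬ 2 ∣ Nat.card N := Nat.prime_two.coprime_iff_not_dvd.1 (Nat.coprime_comm.1 hcop)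
  have hk' : k = (Nat.card C).factorization 2 := by
    rw [← N.index_mul_card, hk,
      Nat.factorization_mul (pow_ne_zero _ two_ne_zero) Nat.card_pos.ne', Finsupp.add_apply,
      Nat.prime_two.factorization_pow, Finsupp.single_eq_same,
      Nat.factorization_eq_zero_of_not_dvd hodd, add_zero]
  refine ⟨hnc, hfac, N, hN, hodd, by rw [hk, hk', hfac, ← P.card_eq_multiplicity],
    fun w => ⟨fun hw => ?_, fun hw h2 => ?_⟩⟩
  · have h4 := hk ▸ N.pow_index_mem w
    obtain ⟨m, hm⟩ := exists_pow_eq_self_of_coprime (x := w) (n := 2 ^ k)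
      ((Nat.Coprime.pow_left _ ((Nat.prime_two.coprime_iff_not_dvd).2 hw)))
    rw [← hm]
    exact N.pow_mem h4 m
  · exact hodd (h2.trans (Subgroup.orderOf_dvd_natCard N hw))

/-- If the centraliser of an element has a normal 2-complement then the stabiliser of its conjugate
in the Sylow subgroup is the centraliser. -/
theorem stab_of_nilpotent {x g : G} (hnp : HasNormalPComplement 2 (Subgroup.centralizer ({x} : Set G)))
    (hab : IsMulCommutative (P : Subgroup G)) (hy : g * x * g⁻¹ ∈ (P : Subgroup G)) :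
    ∀ n ∈ nN P, n * (g * x * g⁻¹) * n⁻¹ = g * x * g⁻¹ → n ∈ cC P := by
  classical
  haveI : Fact (Nat.Prime 2) := ⟨Nat.prime_two⟩
  intro n hn hfix
  have hcomm : ∀ a ∈ (P : Subgroup G), ∀ b ∈ (P : Subgroup G), a * b = b * a := fun a ha b hb =>
    congrArg Subtype.val (hab.is_comm.comm ⟨a, ha⟩ ⟨b, hb⟩)
  set C := Subgroup.centralizer ({x} : Set G) with hC
  obtain ⟨K, hKn, hcop, k, hk⟩ := PBasic.hasNormalPComplement_iff.1 hnp
  have hodd : ¬ 2 ∣ Nat.card K := Nat.prime_two.coprime_iff_not_dvd.1 (Nat.coprime_comm.1 hcop)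
  have hback : ∀ v : G, v * (g * x * g⁻¹) = g * x * g⁻¹ * v → g⁻¹ * v * g ∈ C := by
    intro v hv
    refine Subgroup.mem_centralizer_singleton_iff.2 ?_
    calc g⁻¹ * v * g * x = g⁻¹ * (v * (g * x * g⁻¹)) * g := by group
      _ = g⁻¹ * (g * x * g⁻¹ * v) * g := by rw [hv]
      _ = x * (g⁻¹ * v * g) := by group
  let Q : Sylow 2 G := g⁻¹ • P
  have hQmem : ∀ w : G, w ∈ (Q : Subgroup G) ↔ g * w * g⁻¹ ∈ (P : Subgroup G) := by
    intro w
    show w ∈ ((g⁻¹ • P : Sylow 2 G) : Subgroup G) ↔ _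
    rw [Sylow.coe_subgroup_smul]
    constructor
    · rintro ⟨v, hv, rfl⟩
      have e : g * (g⁻¹ * v * g⁻¹⁻¹) * g⁻¹ = v := by group
      show g * (g⁻¹ * v * g⁻¹⁻¹) * g⁻¹ ∈ (P : Subgroup G)
      rw [e]
      exact hv
    · exact fun hw => ⟨g * w * g⁻¹, hw, by simp [mul_assoc]⟩
  have hQC : (Q : Subgroup G) ≤ C := fun w hw => by
    have := hback (g * w * g⁻¹) (hcomm _ ((hQmem w).1 hw) _ hy)
    simpa [mul_assoc] using this
  have htop := PBasic.sylow_sup_eq_top (Q.subtype hQC) (N := K) (IsPGroup.of_card (n := k) hk)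
  have hn' : g⁻¹ * n * g ∈ C := hback n (mul_inv_eq_iff_eq_mul.1 hfix)
  have hmem : (⟨_, hn'⟩ : C) ∈ ((Q.subtype hQC : Subgroup C) ⊔ K : Subgroup C) := by
    rw [htop]; exact Subgroup.mem_top _
  rw [← SetLike.mem_coe, Subgroup.mul_normal] at hmem
  obtain ⟨a, ha, o, ho, hao⟩ := Set.mem_mul.1 hmem
  refine Subgroup.mem_centralizer_iff.2 fun v hv => ?_
  have hwQ : g⁻¹ * v * g ∈ (Q : Subgroup G) := (hQmem _).2 (by
    rw [show g * (g⁻¹ * v * g) * g⁻¹ = v by group]; exact hv)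
  let w : C := ⟨g⁻¹ * v * g, hQC hwQ⟩
  set c := (⟨_, hn'⟩ : C) * w * (⟨_, hn'⟩ : C)⁻¹ * w⁻¹ with hc
  have hcK : c ∈ K := by
    have hwa : w⁻¹ = a * w⁻¹ * a⁻¹ := by
      refine eq_mul_inv_iff_mul_eq.2 (Subtype.ext ?_)
      have haP : g * (a : G) * g⁻¹ ∈ (P : Subgroup G) :=
        (hQmem _).1 (ha : (a : G) ∈ (Q : Subgroup G))
      have hwP := (hQmem _).1 (inv_mem hwQ)
      have e := hcomm _ hwP _ haP
      simp only [Subgroup.coe_mul, Subgroup.coe_inv, w]
      calc (g⁻¹ * v * g)⁻¹ * (a : G)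
          = g⁻¹ * (g * (g⁻¹ * v * g)⁻¹ * g⁻¹ * (g * a * g⁻¹)) * g := by group
        _ = g⁻¹ * (g * a * g⁻¹ * (g * (g⁻¹ * v * g)⁻¹ * g⁻¹)) * g := by rw [e]
        _ = (a : G) * (g⁻¹ * v * g)⁻¹ := by group
    rw [hc, ← hao, hwa, show a * o * w * (a * o)⁻¹ * (a * w⁻¹ * a⁻¹) =
      a * (o * (w * o⁻¹ * w⁻¹)) * a⁻¹ by group]
    exact hKn.conj_mem _ (K.mul_mem ho (hKn.conj_mem _ (K.inv_mem ho) w)) a
  have hcQ : (c : G) ∈ (Q : Subgroup G) := by
    rw [hQmem]
    have e : g * (c : G) * g⁻¹ = n * v * n⁻¹ * v⁻¹ := by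
      simp only [hc, w, Subgroup.coe_mul, Subgroup.coe_inv]
      group
    rw [e]
    exact mul_mem (mem_P_of_conj hn hv) (inv_mem hv)
  have hc1 : c = 1 := by
    obtain ⟨i, hi⟩ := IsPGroup.iff_orderOf.1 Q.isPGroup' ⟨(c : G), hcQ⟩
    rw [Subgroup.orderOf_mk, Subgroup.orderOf_coe] at hi
    rcases i with _ | i
    · exact orderOf_eq_one_iff.1 hi
    · exact absurd (((dvd_pow_self 2 (Nat.succ_ne_zero i)).trans hi.symm.dvd).trans
        (Subgroup.orderOf_dvd_natCard K hcK)) hodd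
  have e : n * v * n⁻¹ * v⁻¹ = 1 := by
    have h1 : (c : G) = 1 := by rw [hc1]; rfl
    simp only [hc, w, Subgroup.coe_mul, Subgroup.coe_inv] at h1
    calc n * v * n⁻¹ * v⁻¹ = g * (g⁻¹ * n * g * (g⁻¹ * v * g) * (g⁻¹ * n * g)⁻¹ *
          (g⁻¹ * v * g)⁻¹) * g⁻¹ := by group
      _ = 1 := by rw [h1]; group
  exact (mul_inv_eq_iff_eq_mul.1 (mul_inv_eq_one.1 e)).symm

/-- Fusion in an abelian Sylow subgroup. -/
theorem fusion (hab : ∀ a ∈ (P : Subgroup G), ∀ b ∈ (P : Subgroup G), a * b = b * a) {u v : G}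
    (hu : u ∈ (P : Subgroup G)) (hv : v ∈ (P : Subgroup G)) (h : IsConj u v) :
    ∃ n ∈ nN P, n * u * n⁻¹ = v := by
  haveI : Fact (Nat.Prime 2) := ⟨Nat.prime_two⟩
  obtain ⟨g, hg⟩ := isConj_iff.1 h
  obtain ⟨n, hn, hn'⟩ := AbelianSylow.fusion_normalizer P
    ⟨⟨fun a b => Subtype.ext (hab _ a.2 _ b.2)⟩⟩ u hu g (by rw [hg]; exact hv)
  exact ⟨n, hn, hn'.trans hg⟩

/-- Every element of 2-power order is conjugate into the Sylow subgroup. -/
theorem conj_into {g : G} (hg : ∃ k : ℕ, orderOf g = 2 ^ k) :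
    ∃ v ∈ (P : Subgroup G), IsConj g v := by
  haveI : Fact (Nat.Prime 2) := ⟨Nat.prime_two⟩
  obtain ⟨k, hk⟩ := hg
  have hp : IsPGroup 2 (Subgroup.zpowers g) := IsPGroup.of_card (n := k) (by
    rw [Nat.card_zpowers, hk])
  obtain ⟨Q, hQ⟩ := hp.exists_le_sylow
  obtain ⟨c, hc⟩ := MulAction.exists_smul_eq G Q P
  refine ⟨c * g * c⁻¹, ?_, isConj_iff.2 ⟨c, rfl⟩⟩
  rw [← hc, Sylow.coe_subgroup_smul]
  exact ⟨g, hQ (Subgroup.mem_zpowers g), rfl⟩

end Cfsg.Agent.RegularOrbit
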