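import Cfsg.Agent.Lib.Blocks.RegularOrbit.Column
import Cfsg.Agent.Lib.Blocks.RegularOrbit.Setup
import Cfsg.Agent.Lib.Blocks.RobinsonRank

/-!
Sections of 2-elements with smallest stabiliser, and the products of two conjugates of an
involution lying in them.
-/

set_option autoImplicit false
set_option linter.style.haveILetI false
set_option linter.unusedSectionVars false

namespace Cfsg.Agent.RegularOrbit

open Cfsg Cfsg.Agent.Blocks Cfsg.Agent.Blocks.Robinson Cfsg.Agent.Char
open scoped ComplexConjugate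

universe u

variable {G : Type u} [Group G] [Fintype G] {M : Ideal AlgInt} [M.IsPrime] {P : Sylow 2 G}

/-- A character of the principal block is constant on the section. -/
theorem section_value (hM : IsPModular 2 M)
    (hab : ∀ a ∈ (P : Subgroup G), ∀ b ∈ (P : Subgroup G), a * b = b * a) {u : G}
    (hu : u ∈ (P : Subgroup G)) (hstab : ∀ n ∈ nN P, n * u * n⁻¹ = u → n ∈ cC P) {C : Subgroup G}
    [Fintype C] (hC : C = Subgroup.centralizer ({u} : Set G)) {χ : IrrCharacter G}
    (hχ : χ ∈ principalBlock M G) {w : C} (hw : ¬ 2 ∣ orderOf w) :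
    (χ : G → ℂ) (u * (w : G)) = (χ : G → ℂ) u := by
  haveI : Fact (Nat.Prime 2) := ⟨Nat.prime_two⟩
  obtain ⟨-, -, N, hN, hodd, -, hreg⟩ := exists_complement hab hu hstab hC
  obtain ⟨k, hk⟩ := IsPGroup.iff_orderOf.1 P.isPGroup' ⟨u, hu⟩
  exact irr_section_of_kernel hM ⟨k, by rwa [Subgroup.orderOf_mk] at hk⟩ hC hχ N hodd
    ((hreg w).1 hw)

/-- A character outside the principal block sums to zero over the section. -/
theorem section_sum_zero (hM : IsPModular 2 M)
    (hab : ∀ a ∈ (P : Subgroup G), ∀ b ∈ (P : Subgroup G), a * b = b * a) {u : G}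
    (hu : u ∈ (P : Subgroup G)) (hstab : ∀ n ∈ nN P, n * u * n⁻¹ = u → n ∈ cC P) {C : Subgroup G}
    [Fintype C] (hC : C = Subgroup.centralizer ({u} : Set G)) {χ : IrrCharacter G}
    (hχ : χ ∉ principalBlock M G) :
    ∑ w ∈ Finset.univ.filter (fun w : C => ¬ 2 ∣ orderOf w), (χ : G → ℂ) (u * (w : G)) = 0 := by
  classical
  haveI : Fact (Nat.Prime 2) := ⟨Nat.prime_two⟩
  obtain ⟨-, hfac, N, hN, hodd, hidx, hreg⟩ := exists_complement hab hu hstab hC
  obtain ⟨k, hk⟩ := IsPGroup.iff_orderOf.1 P.isPGroup' ⟨u, hu⟩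
  have hpow : ∃ k, orderOf u = 2 ^ k := ⟨k, by rwa [Subgroup.orderOf_mk] at hk⟩
  set q := Nat.card (P : Subgroup G) with hqdef
  have hq : q = 2 ^ (Nat.card G).factorization 2 := P.card_eq_multiplicity
  set B := principalBlock M G with hBdef
  have hB : IsPBlock M B := isPBlock_principalBlock M G
  have hind : IsInducedBlock M C (principalBlock M C) B :=
    (mem_unitBlocks_iff_induced' hM hpow hC hB).1
      (by rw [unitBlocks_principal hM hpow hC]; exact Finset.mem_singleton_self _)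
  have hq0 : (q : ℂ) ≠ 0 := Nat.cast_ne_zero.2 Nat.card_pos.ne'
  have hB' := isPBlock_blockOf (M := M) χ
  have hmem : χ ∈ blockOf M (χ : G → ℂ) := self_mem_blockOf χ
  have hnot : ¬ IsInducedBlock M C (principalBlock M C) (blockOf M χ) := fun h =>
    hχ (by rw [isInducedBlock_unique hind h]; exact hmem)
  set f : C → ℂ := secFun u C (χ : G → ℂ) with hf
  have hz : blockPart (principalBlock M C) f 1 = 0 :=
    blockPart_secFun_eq_zero hM hpow hC hB' hmem
      (isPBlock_principalBlock M C) hnot (by simp)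
  have h := sum_regular_pair hM (isPBlock_principalBlock M C) f (u := (1 : C)) (by simp)
  rw [hz, mul_zero] at h
  have hbp : ∀ w : C, ¬ 2 ∣ orderOf w → blockPair (principalBlock M C) 1 w = (q : ℂ) := by
    intro w hw
    have h1 := blockPair_principal_of_pComplement hM N hodd ⟨_, hidx.trans hq⟩
      (y := (1 : C)) (by simp)
    rw [hfac, ← hq] at h1
    rw [← h1]
    unfold blockPair
    refine Finset.sum_congr rfl fun θ hθ => ?_
    have hθ' := (Finset.mem_filter.1 hθ).2
    rw [principalBlock_eq_trivialOn hM N hodd ⟨_, hidx.trans hq⟩] at hθ'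
    rw [hθ' w ((hreg w).1 hw)]
  rw [Finset.sum_congr rfl (g := fun w : C => (q : ℂ) * (χ : G → ℂ) (u * (w : G))) fun w hw => by
    rw [hbp w (Finset.mem_filter.1 hw).2]; rfl, ← Finset.mul_sum] at h
  exact (mul_eq_zero.1 h).resolve_left hq0

/-- The sum over a section through the principal block alone. -/
theorem section_sum (hM : IsPModular 2 M)
    (hab : ∀ a ∈ (P : Subgroup G), ∀ b ∈ (P : Subgroup G), a * b = b * a) {u : G}
    (hu : u ∈ (P : Subgroup G)) (hstab : ∀ n ∈ nN P, n * u * n⁻¹ = u → n ∈ cC P) {C : Subgroup G}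
    [Fintype C] (hC : C = Subgroup.centralizer ({u} : Set G))
    [DecidablePred (· ∈ principalBlock M G)] (a : IrrCharacter G → ℂ) :
    ∑ w ∈ Finset.univ.filter (fun w : C => ¬ 2 ∣ orderOf w),
        ∑ χ : IrrCharacter G, a χ * (χ : G → ℂ) (u * (w : G)) =
      ((Finset.univ.filter fun w : C => ¬ 2 ∣ orderOf w).card : ℂ) *
        ∑ χ ∈ Finset.univ.filter (· ∈ principalBlock M G), a χ * (χ : G → ℂ) u := by
  classical
  rw [Finset.sum_comm, Finset.sum_filter (p := fun χ => χ ∈ principalBlock M G), Finset.mul_sum]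
  refine Finset.sum_congr rfl fun χ _ => ?_
  rw [← Finset.mul_sum]
  by_cases hχ : χ ∈ principalBlock M G
  · rw [if_pos hχ, Finset.sum_congr rfl fun w hw =>
      section_value hM hab hu hstab hC hχ (Finset.mem_filter.1 hw).2, Finset.sum_const,
      nsmul_eq_mul]
    ring
  · rw [if_neg hχ, section_sum_zero hM hab hu hstab hC hχ, mul_zero, mul_zero]

theorem regular_card_ne_zero {C : Subgroup G} [Fintype C] :
    ((Finset.univ.filter fun w : C => ¬ 2 ∣ orderOf w).card : ℂ) ≠ 0 :=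
  Nat.cast_ne_zero.2 (Finset.card_ne_zero.2 ⟨1, by simp⟩)

/-- The number of conjugates of `x` carried by `g` into the class of `x`. -/
noncomputable def quo (x g : G) : ℕ := Nat.card {y : G // IsConj x y ∧ IsConj x (g * y)}

theorem quo_eq (x g : G) : (quo x g : ℂ) =
    ((Subgroup.centralizer ({x} : Set G)).index : ℂ) / Nat.card G *
      ∑ χ : IrrCharacter G, centralChar (χ : G → ℂ) x * conj ((χ : G → ℂ) x) * (χ : G → ℂ) g := by
  classical
  rw [quo, Nat.card_eq_fintype_card, Fintype.card_subtype, Finset.natCast_card_filter]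
  rw [Finset.sum_congr rfl fun y _ => ite_and (IsConj x y) (IsConj x (g * y)) (1 : ℂ) 0,
    ← Finset.sum_filter,
    show Finset.univ.filter (fun y => IsConj x y) = classFinset x by ext; simp [mem_classFinset]]
  simp only [ite_isConj_eq, ← Finset.mul_sum]
  rw [Finset.sum_comm]
  congr 1
  refine Finset.sum_congr rfl fun χ _ => ?_
  rw [← Finset.sum_mul, sum_class_translate]
  ring

/-- The centraliser of a 2-element which no conjugation inverts meets no such product. -/
theorem quo_eq_zero (hab : ∀ a ∈ (P : Subgroup G), ∀ b ∈ (P : Subgroup G), a * b = b * a) {x u : G}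
    (hx : orderOf x = 2) (hu : u ∈ (P : Subgroup G))
    (hstab : ∀ n ∈ nN P, n * u * n⁻¹ = u → n ∈ cC P) (hu2 : u * u ≠ 1) {w : G} (hcomm : Commute u w)
    (hw : ¬ 2 ∣ orderOf w) : quo x (u * w) = 0 := by
  classical
  haveI : Fact (Nat.Prime 2) := ⟨Nat.prime_two⟩
  rw [quo, Nat.card_eq_zero]
  refine Or.inl ⟨fun ⟨y, hy, hgy⟩ => ?_⟩
  have hsq : ∀ z : G, IsConj x z → z * z = 1 := fun z hz => by
    obtain ⟨c, rfl⟩ := isConj_iff.1 hz
    rw [show c * x * c⁻¹ * (c * x * c⁻¹) = c * (x * x) * c⁻¹ by group, ← pow_two, ← hx,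
      pow_orderOf_eq_one]
    group
  have hinv : y * (u * w) * y⁻¹ = (u * w)⁻¹ := by
    have h1 := hsq y hy
    have h2 := hsq _ hgy
    rw [eq_inv_iff_mul_eq_one, inv_eq_of_mul_eq_one_right h1]
    calc y * (u * w) * y * (u * w) = y * (u * w * y * (u * w * y)) * y⁻¹ := by group
      _ = 1 := by rw [h2]; group
  obtain ⟨k, hk⟩ := IsPGroup.iff_orderOf.1 P.isPGroup' ⟨u, hu⟩
  rw [Subgroup.orderOf_mk] at hk
  have hcop : Nat.Coprime (orderOf u) (orderOf w) := by
    rw [hk]; exact Nat.Coprime.pow_left _ (Nat.prime_two.coprime_iff_not_dvd.2 hw)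
  obtain ⟨j, hj1, hj2⟩ := Nat.chineseRemainder hcop 1 0
  have huj : (u * w) ^ j = u := by
    rw [hcomm.mul_pow, (pow_eq_pow_iff_modEq (x := u) (n := j) (m := 1)).2 hj1, pow_one,
      (pow_eq_pow_iff_modEq (x := w) (n := j) (m := 0)).2 hj2, pow_zero, mul_one]
  have hyu : y * u * y⁻¹ = u⁻¹ := by rw [← huj, ← conj_pow, hinv, inv_pow]
  obtain ⟨n, hn, hnu⟩ := fusion hab hu (inv_mem hu) (isConj_iff.2 ⟨y, hyu⟩)
  have hn2 : n * n ∈ cC P := hstab _ (mul_mem hn hn) (by
    calc n * n * u * (n * n)⁻¹ = n * (n * u * n⁻¹) * n⁻¹ := by group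
      _ = n * u⁻¹ * n⁻¹ := by rw [hnu]
      _ = (n * u * n⁻¹)⁻¹ := by group
      _ = u := by rw [hnu, inv_inv])
  haveI := cC_normal (P := P)
  have hne : (⟨n, hn⟩ : nN P) ^ eIdx P ∈ (cC P).subgroupOf (nN P) :=
    Subgroup.pow_index_mem ((cC P).subgroupOf (nN P)) _
  rw [Subgroup.mem_subgroupOf, SubmonoidClass.coe_pow] at hne
  obtain ⟨i, hi⟩ : Odd (eIdx P) := Nat.odd_iff.2 (Nat.two_dvd_ne_zero.1 (eIdx_odd hab))
  have hnC : n ∈ cC P := by
    have h := mul_mem (inv_mem (pow_mem hn2 i)) hne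
    rwa [hi, pow_succ, pow_mul, pow_two, inv_mul_cancel_left] at h
  rw [conj_cC hnC hu] at hnu
  exact hu2 (eq_inv_iff_mul_eq_one.1 hnu)

end Cfsg.Agent.RegularOrbit
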