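import Cfsg.Agent.Lib.Blocks.RegularOrbit.Setting
import Cfsg.Agent.Lib.Blocks.RegularOrbit.Sections

/-!
The products of two involutions in the section of an involution of a strongly embedded frame.
-/

set_option autoImplicit false
set_option linter.style.haveILetI false
set_option linter.unusedSectionVars false

namespace Cfsg.Agent.RegularOrbit

open Cfsg

universe u

variable {G : Type u} [Group G] [Fintype G] {P : Sylow 2 G} {x : G} {W : Subgroup G}

namespace Setting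

variable (T : Setting P x W)
include T

theorem regular_iff {C : Subgroup G} (hC : C = Subgroup.centralizer ({x} : Set G)) (v : C) :
    ¬ 2 ∣ orderOf v ↔ (v : G) ∈ W := by
  constructor
  · intro hv
    have hvK : (v : G) ∈ W ⊔ (P : Subgroup G) :=
      T.mem_K_of_commute (Subgroup.mem_centralizer_singleton_iff.1 (hC.le v.2))
    have h := T.hπ ⟨v, hvK⟩
    rw [T.π_of_odd (by rwa [Subgroup.orderOf_mk, Subgroup.orderOf_coe]), OneMemClass.coe_one,
      inv_one, one_mul] at h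
    exact h
  · intro hv h2
    rw [← Subgroup.orderOf_coe] at h2
    exact T.frame.odd (h2.trans (Subgroup.orderOf_dvd_natCard W hv))

theorem π_invol_ne {t : G} (ht : t ∈ W ⊔ (P : Subgroup G)) (ho : orderOf t = 2) :
    T.π ⟨t, ht⟩ ≠ 1 := fun h => by
  have h' := T.hπ ⟨t, ht⟩
  rw [h, OneMemClass.coe_one, inv_one, one_mul] at h'
  exact T.frame.odd (ho ▸ Subgroup.orderOf_dvd_natCard W h')

theorem isConj_of_invol {t : G} (ht : t ∈ W ⊔ (P : Subgroup G)) (ho : orderOf t = 2) :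
    ∃ w ∈ W, w * (T.π ⟨t, ht⟩ : G) * w⁻¹ = t := by
  obtain ⟨v, hv, hconj⟩ := conj_into (P := P.subtype (le_sup_right : (P : Subgroup G) ≤ W ⊔ P))
    (g := (⟨t, ht⟩ : ↥(W ⊔ (P : Subgroup G)))) ⟨1, by rw [Subgroup.orderOf_mk, ho, pow_one]⟩
  obtain ⟨k, hk⟩ := isConj_iff.1 hconj
  have hvP : (v : G) ∈ (P : Subgroup G) := hv
  have e1 : T.π v = T.π ⟨t, ht⟩ := by
    rw [← hk, map_mul, map_mul, map_inv]
    apply Subtype.ext
    simp only [Subgroup.coe_mul, Subgroup.coe_inv]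
    rw [T.orbit.comm _ (T.π k).2 _ (T.π ⟨t, ht⟩).2, mul_inv_cancel_right]
  have e2 : (v : G) = T.π ⟨t, ht⟩ := by rw [← e1]; exact (T.π_of_mem hvP v.2).symm
  obtain ⟨v', hv', hw⟩ := T.frame.mem_K k.2
  set w := v'⁻¹ * (k : G) with hwdef
  have e3 : (k : G) * t * (k : G)⁻¹ = v := congrArg Subtype.val hk
  refine ⟨w⁻¹, inv_mem hw, ?_⟩
  rw [← e2]
  have hc : v'⁻¹ * (v : G) * v' = v := by
    rw [mul_assoc, T.orbit.comm _ hvP _ hv', inv_mul_cancel_left]
  calc w⁻¹ * (v : G) * w⁻¹⁻¹ = w⁻¹ * (v'⁻¹ * ((k : G) * t * (k : G)⁻¹) * v') * w⁻¹⁻¹ := by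
        rw [e3, hc]
    _ = t := by rw [hwdef]; group

/-- The conjugates of the involution with a given projection. -/
theorem card_fibre {C : Subgroup G} [Fintype C] (hC : C = Subgroup.centralizer ({x} : Set G))
    {u : G} (hu : u ∈ (P : Subgroup G)) (hu2 : u * u = 1) (hu1 : u ≠ 1) :
    Nat.card {t : ↥(W ⊔ (P : Subgroup G)) // IsConj x (t : G) ∧ (T.π t : G) = u} *
      Nat.card {v : C // (v : G) ∈ W} = Nat.card W := by
  classical
  obtain ⟨n, hn, hnu⟩ := T.trans u hu hu2 hu1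
  have hchoice : ∀ t : {t : ↥(W ⊔ (P : Subgroup G)) // IsConj x (t : G) ∧ (T.π t : G) = u},
      ∃ w ∈ W, w * u * w⁻¹ = (t.1 : G) := fun t => by
    obtain ⟨c, hc⟩ := isConj_iff.1 t.2.1
    have ho : orderOf (t.1 : G) = 2 := by rw [← hc, Invol.order_conj, T.orbit.ord]
    have h := T.isConj_of_invol t.1.2 ho
    rwa [Subtype.coe_eta, t.2.2] at h
  choose s hsW hs using hchoice
  rw [← Nat.card_prod]
  refine Nat.card_eq_of_bijective (fun tc => (⟨s tc.1 * (n * (tc.2.1 : G) * n⁻¹),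
    mul_mem (hsW tc.1) (T.frame.normN n hn _ tc.2.2)⟩ : W)) ⟨?_, ?_⟩
  · rintro ⟨t, c⟩ ⟨t', c'⟩ h
    have h' : s t * (n * (c.1 : G) * n⁻¹) = s t' * (n * (c'.1 : G) * n⁻¹) := congrArg Subtype.val h
    have hfix : ∀ d : {v : C // (v : G) ∈ W},
        n * (d.1 : G) * n⁻¹ * u * (n * (d.1 : G) * n⁻¹)⁻¹ = u := fun d => by
      have hd := Subgroup.mem_centralizer_singleton_iff.1 (hC.le d.1.2)
      rw [← hnu]
      calc n * (d.1 : G) * n⁻¹ * (n * x * n⁻¹) * (n * (d.1 : G) * n⁻¹)⁻¹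
          = n * ((d.1 : G) * x * (d.1 : G)⁻¹) * n⁻¹ := by group
        _ = n * x * n⁻¹ := by rw [hd, mul_inv_cancel_right]
    have et : (t.1 : G) = t'.1 := by
      rw [← hs t, ← hs t']
      calc s t * u * (s t)⁻¹ = s t * (n * (c.1 : G) * n⁻¹ * u * (n * (c.1 : G) * n⁻¹)⁻¹) * (s t)⁻¹ := by
            rw [hfix]
        _ = (s t * (n * (c.1 : G) * n⁻¹)) * u * (s t * (n * (c.1 : G) * n⁻¹))⁻¹ := by group
        _ = (s t' * (n * (c'.1 : G) * n⁻¹)) * u * (s t' * (n * (c'.1 : G) * n⁻¹))⁻¹ := by rw [h']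
        _ = s t' * (n * (c'.1 : G) * n⁻¹ * u * (n * (c'.1 : G) * n⁻¹)⁻¹) * (s t')⁻¹ := by group
        _ = s t' * u * (s t')⁻¹ := by rw [hfix]
    obtain rfl : t = t' := Subtype.ext (Subtype.ext et)
    simp only [mul_right_inj, mul_left_inj] at h'
    exact Prod.ext rfl (Subtype.ext (Subtype.ext h'))
  · rintro ⟨w, hw⟩
    have ht : w * u * w⁻¹ ∈ W ⊔ (P : Subgroup G) :=
      mul_mem (mul_mem (Subgroup.mem_sup_left hw) (Subgroup.mem_sup_right hu))
        (inv_mem (Subgroup.mem_sup_left hw))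
    have hconj : IsConj x (w * u * w⁻¹) := isConj_iff.2 ⟨w * n, by rw [← hnu]; group⟩
    have hπt : (T.π ⟨_, ht⟩ : G) = u := T.π_eq hu (by
      show u⁻¹ * (w * u * w⁻¹) ∈ W
      rw [show u⁻¹ * (w * u * w⁻¹) = u⁻¹ * w * u⁻¹⁻¹ * w⁻¹ by group]
      exact mul_mem (T.frame.normN _ (inv_mem (Subgroup.le_normalizer hu)) _ hw) (inv_mem hw))
    set t : {t : ↥(W ⊔ (P : Subgroup G)) // IsConj x (t : G) ∧ (T.π t : G) = u} :=
      ⟨⟨_, ht⟩, hconj, hπt⟩
    have hst := hs t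
    set c := n⁻¹ * ((s t)⁻¹ * w) * n with hc
    have hcW : c ∈ W := by
      have h := T.frame.normN n⁻¹ (inv_mem hn) _ (mul_mem (inv_mem (hsW t)) hw)
      rwa [inv_inv] at h
    have hcC : c ∈ C := hC.symm.le (Subgroup.mem_centralizer_singleton_iff.2
      (mul_inv_eq_iff_eq_mul.1 (by
        calc c * x * c⁻¹ = n⁻¹ * ((s t)⁻¹ * (w * (n * x * n⁻¹) * w⁻¹) * s t) * n := by
              rw [hc]; group
          _ = n⁻¹ * ((s t)⁻¹ * (s t * u * (s t)⁻¹) * s t) * n := by rw [hnu, hst]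
          _ = x := by rw [← hnu]; group)))
    refine ⟨(t, ⟨⟨c, hcC⟩, hcW⟩), Subtype.ext ?_⟩
    show s t * (n * c * n⁻¹) = w
    rw [hc]; group

/-- Products in the section. -/
theorem sum_quo {C : Subgroup G} [Fintype C] (hC : C = Subgroup.centralizer ({x} : Set G)) :
    (∑ v ∈ Finset.univ.filter (fun v : C => ¬ 2 ∣ orderOf v), quo x (x * (v : G))) *
      (Finset.univ.filter fun v : C => ¬ 2 ∣ orderOf v).card =
      (eIdx P - 1) * Nat.card W := by
  classical
  set K := W ⊔ (P : Subgroup G) with hK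
  have hxK : x ∈ K := Subgroup.mem_sup_right T.orbit.mem
  let x' : ↥(P : Subgroup G) := ⟨x, T.orbit.mem⟩
  have hx' : x' * x' = 1 := Subtype.ext T.x_sq
  have hcomm : ∀ a b : ↥(P : Subgroup G), a * b = b * a :=
    fun a b => Subtype.ext (T.orbit.comm a a.2 b b.2)
  have hπx : T.π ⟨x, hxK⟩ = x' := Subtype.ext (T.π_of_mem T.orbit.mem hxK)
  obtain ⟨i, hi⟩ : Odd (Nat.card W) := Nat.odd_iff.2 (Nat.two_dvd_ne_zero.1 T.frame.odd)
  -- the involution of an element of the coset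
  have hinv : ∀ g : ↥K, T.π g = x' → orderOf ((g : G) ^ Nat.card W) = 2 ∧
      T.π (g ^ Nat.card W) = x' := by
    intro g hg
    have h1 : T.π (g ^ Nat.card W) = x' := by
      rw [map_pow, hg, hi, pow_succ, pow_mul, pow_two, hx', one_pow, one_mul]
    have hg2 : (g : G) * g ∈ W := by
      have h := T.hπ (g * g)
      rw [map_mul, hg, hx', OneMemClass.coe_one, inv_one, one_mul] at h
      exact h
    refine ⟨orderOf_eq_prime ?_ fun h => ?_, h1⟩
    · rw [← pow_mul, mul_comm, pow_mul, pow_two]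
      exact congrArg Subtype.val (pow_card_eq_one' (G := W) (x := ⟨_, hg2⟩))
    · have e : g ^ Nat.card W = 1 := Subtype.ext (by simpa using h)
      rw [e, map_one] at h1
      exact T.x_ne (congrArg Subtype.val h1).symm
  set Wreg := {v : C // (v : G) ∈ W} with hWreg
  set Cos := {g : ↥K // T.π g = x'} with hCos
  have hchoice : ∀ g : Cos, ∃ w ∈ W, w * x * w⁻¹ = (g.1 : G) ^ Nat.card W := fun g => by
    obtain ⟨ho, hπ⟩ := hinv g.1 g.2
    obtain ⟨w, hw, e⟩ := T.isConj_of_invol (pow_mem g.1.2 _) ho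
    refine ⟨w, hw, ?_⟩
    rw [show (⟨(g.1 : G) ^ Nat.card W, pow_mem g.1.2 _⟩ : ↥K) = g.1 ^ Nat.card W from
      Subtype.ext rfl, hπ] at e
    exact e
  choose s hsW hs using hchoice
  have hfwd : ∀ p : W × Wreg, (p.1 : G) * (x * (p.2.1 : G)) * (p.1 : G)⁻¹ ∈ K := fun p =>
    mul_mem (mul_mem (Subgroup.mem_sup_left p.1.2) (mul_mem hxK (Subgroup.mem_sup_left p.2.2)))
      (inv_mem (Subgroup.mem_sup_left p.1.2))
  have hfwdπ : ∀ p : W × Wreg, T.π ⟨_, hfwd p⟩ = x' := fun p => Subtype.ext (T.π_eq T.orbit.mem (by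
    show x⁻¹ * ((p.1 : G) * (x * (p.2.1 : G)) * (p.1 : G)⁻¹) ∈ W
    rw [show x⁻¹ * ((p.1 : G) * (x * (p.2.1 : G)) * (p.1 : G)⁻¹) =
      x⁻¹ * (p.1 : G) * x⁻¹⁻¹ * (p.2.1 : G) * (p.1 : G)⁻¹ by group]
    exact mul_mem (mul_mem (T.frame.normN _ (inv_mem (Subgroup.le_normalizer T.orbit.mem)) _ p.1.2)
      p.2.2) (inv_mem p.1.2)))
  have hpowC : ∀ d : C, (d : G) ∈ W → (x * (d : G)) ^ Nat.card W = x := fun d hd => by
    have hc : Commute x (d : G) := (Subgroup.mem_centralizer_singleton_iff.1 (hC.le d.2)).symm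
    rw [hc.mul_pow, hi, pow_succ, pow_mul, pow_two, T.x_sq, one_pow, one_mul, ← hi,
      show (d : G) ^ Nat.card W = 1 from congrArg Subtype.val (pow_card_eq_one' (G := W) (x := ⟨_, hd⟩)),
      mul_one]
  let g0 : W × Wreg → Cos := fun p => ⟨⟨_, hfwd p⟩, hfwdπ p⟩
  have hsc : ∀ p : W × Wreg, (s (g0 p))⁻¹ * (p.1 : G) ∈ C := fun p => by
    refine hC.symm.le (Subgroup.mem_centralizer_singleton_iff.2 (mul_inv_eq_iff_eq_mul.1 ?_))
    have e := hs (g0 p)
    have e2 : ((p.1 : G) * (x * (p.2.1 : G)) * (p.1 : G)⁻¹) ^ Nat.card W =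
        (p.1 : G) * x * (p.1 : G)⁻¹ := by rw [conj_pow, hpowC _ p.2.2]
    calc (s (g0 p))⁻¹ * (p.1 : G) * x * ((s (g0 p))⁻¹ * (p.1 : G))⁻¹
        = (s (g0 p))⁻¹ * ((p.1 : G) * x * (p.1 : G)⁻¹) * s (g0 p) := by group
      _ = (s (g0 p))⁻¹ * (s (g0 p) * x * (s (g0 p))⁻¹) * s (g0 p) := by rw [e, ← e2]
      _ = x := by group
  let F : W × Wreg → Cos × Wreg := fun p =>
    (g0 p, ⟨⟨_, hsc p⟩, mul_mem (inv_mem (hsW _)) p.1.2⟩)
  have hFb : Function.Bijective F := by
    constructor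
    · intro p p' h
      have h1 : g0 p = g0 p' := congrArg Prod.fst h
      have h2 : (s (g0 p))⁻¹ * (p.1 : G) = (s (g0 p'))⁻¹ * (p'.1 : G) :=
        congrArg (fun q => ((q.2.1 : C) : G)) h
      rw [h1, mul_right_inj] at h2
      have h3 : (p.1 : G) * (x * (p.2.1 : G)) * (p.1 : G)⁻¹ =
          (p'.1 : G) * (x * (p'.2.1 : G)) * (p'.1 : G)⁻¹ :=
        congrArg (fun q : Cos => (q.1 : G)) h1
      rw [h2, mul_left_inj, mul_right_inj, mul_right_inj] at h3
      exact Prod.ext (Subtype.ext h2) (Subtype.ext (Subtype.ext h3))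
    · rintro ⟨g, c⟩
      set w := s g * (c.1 : G) with hw
      have hwW : w ∈ W := mul_mem (hsW g) c.2
      set v := x * (w⁻¹ * (g.1 : G) * w) with hv
      have hcx : Commute (c.1 : G) x := Subgroup.mem_centralizer_singleton_iff.1 (hC.le c.1.2)
      have hwx : w * x * w⁻¹ = (g.1 : G) ^ Nat.card W := by
        rw [← hs g, hw]
        calc s g * (c.1 : G) * x * (s g * (c.1 : G))⁻¹
            = s g * ((c.1 : G) * x * (c.1 : G)⁻¹) * (s g)⁻¹ := by group
          _ = s g * x * (s g)⁻¹ := by rw [hcx.eq, mul_inv_cancel_right]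
      have hcom : Commute (w⁻¹ * (g.1 : G) * w) x := by
        have e : x = (w⁻¹ * (g.1 : G) * w⁻¹⁻¹) ^ Nat.card W := by
          rw [conj_pow, ← hwx]; group
        rw [inv_inv] at e
        conv_rhs => rw [e]
        exact Commute.self_pow _ _
      have hvC : v ∈ C := hC.symm.le (Subgroup.mem_centralizer_singleton_iff.2
        ((Commute.refl x).mul_left hcom).eq)
      have hxinv : x⁻¹ = x := inv_eq_of_mul_eq_one_right T.x_sq
      have hvW : v ∈ W := by
        have h := T.hπ g.1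
        rw [g.2] at h
        have hgw : x⁻¹ * (w⁻¹ * (g.1 : G) * w) ∈ W := by
          rw [show x⁻¹ * (w⁻¹ * (g.1 : G) * w) = x⁻¹ * w⁻¹ * x⁻¹⁻¹ * (x⁻¹ * (g.1 : G)) * w by group]
          exact mul_mem (mul_mem (T.frame.normN _ (inv_mem (Subgroup.le_normalizer T.orbit.mem)) _
            (inv_mem hwW)) h) hwW
        rwa [hxinv] at hgw
      refine ⟨(⟨w, hwW⟩, ⟨⟨v, hvC⟩, hvW⟩), ?_⟩
      have hg : g0 (⟨w, hwW⟩, ⟨⟨v, hvC⟩, hvW⟩) = g := by
        apply Subtype.ext; apply Subtype.ext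
        show w * (x * v) * w⁻¹ = (g.1 : G)
        rw [hv, ← mul_assoc x x, T.x_sq, one_mul]
        group
      refine Prod.ext hg (Subtype.ext (Subtype.ext ?_))
      show (s (g0 _))⁻¹ * w = (c.1 : G)
      rw [hg, hw, inv_mul_cancel_left]
  have hquo : ∀ (y g : G), quo x (y * g * y⁻¹) = quo x g := by
    intro y g
    have key : ∀ z, IsConj x (y * z * y⁻¹) ↔ IsConj x z := fun z =>
      ⟨fun h => h.trans (isConj_iff.2 ⟨y⁻¹, by group⟩), fun h => h.trans (isConj_iff.2 ⟨y, rfl⟩)⟩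
    refine (Nat.card_congr ((MulAut.conj y).toEquiv.subtypeEquiv fun z => ?_)).symm
    simp only [MulEquiv.toEquiv_eq_coe, EquivLike.coe_coe, MulAut.conj_apply]
    rw [key, show y * g * y⁻¹ * (y * z * y⁻¹) = y * (g * z) * y⁻¹ by group, key]
  set S := ∑ v : Wreg, quo x (x * (v.1 : G)) with hS
  have hsum : ∑ p : W × Wreg, quo x (((p.1 : G)) * (x * (p.2.1 : G)) * (p.1 : G)⁻¹) =
      ∑ q : Cos × Wreg, quo x (q.1.1 : G) := by
    exact Fintype.sum_bijective F hFb _ _ fun p => rfl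
  simp only [Fintype.sum_prod_type, hquo, Finset.sum_const, Finset.card_univ, smul_eq_mul,
    ← hS] at hsum
  rw [← Finset.mul_sum, ← Nat.card_eq_fintype_card, ← Nat.card_eq_fintype_card] at hsum
  -- the pairs over the coset
  let Pr : Type u := {p : ↥K × ↥K // IsConj x (p.1 : G) ∧ IsConj x (p.2 : G) ∧
    T.π p.1 * T.π p.2 = x'}
  have hpairs : ∑ g : Cos, quo x (g.1 : G) = Nat.card Pr := by
    rw [show (∑ g : Cos, quo x (g.1 : G)) =
      ∑ g : Cos, Nat.card {y : G // IsConj x y ∧ IsConj x ((g.1 : G) * y)} from rfl,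
      ← Nat.card_sigma]
    refine Nat.card_congr ?_
    have hyK : ∀ (g : Cos) (y : G), IsConj x y → IsConj x ((g.1 : G) * y) → y ∈ K := by
      intro g y hy hgy
      obtain ⟨ho, -⟩ := hinv g.1 g.2
      have hsq : ∀ z : G, IsConj x z → z * z = 1 := fun z hz => by
        obtain ⟨c, rfl⟩ := isConj_iff.1 hz
        rw [show c * x * c⁻¹ * (c * x * c⁻¹) = c * (x * x) * c⁻¹ by group, T.x_sq]
        group
      set c := (g.1 : G) ^ Nat.card W
      have hc2 : c⁻¹ = c := inv_eq_of_mul_eq_one_right (by rw [← pow_two, ← ho, pow_orderOf_eq_one])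
      have hyc : y * c * y⁻¹ = c := by
        conv_rhs => rw [← hc2, ← inv_pow]
        rw [← conj_pow]
        congr 1
        have h2 := hsq _ hgy
        rw [inv_eq_of_mul_eq_one_right (hsq y hy), eq_inv_iff_mul_eq_one]
        calc y * (g.1 : G) * y * (g.1 : G) = y * ((g.1 : G) * y * ((g.1 : G) * y)) * y⁻¹ := by group
          _ = 1 := by rw [h2]; group
      exact T.frame.mem_K_of_sq T.orbit.comm T.orbit.mem T.x_ne
        (Invol.se_centralizer_le T.embedded ho (T.frame.K_le_H (pow_mem g.1.2 _))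
          (Subgroup.mem_centralizer_singleton_iff.2 (mul_inv_eq_iff_eq_mul.1 hyc)))
        (by rw [hsq y hy]; exact one_mem _)
    refine
      { toFun := fun q => ⟨(q.1.1 * ⟨q.2.1, hyK q.1 q.2.1 q.2.2.1 q.2.2.2⟩,
            ⟨q.2.1, hyK q.1 q.2.1 q.2.2.1 q.2.2.2⟩), q.2.2.2, q.2.2.1, ?_⟩
        invFun := fun r => ⟨⟨r.1.1 * r.1.2, by rw [map_mul]; exact r.2.2.2⟩, ⟨r.1.2, r.2.2.1, ?_⟩⟩
        left_inv := ?_
        right_inv := ?_ }
    · obtain ⟨c, hc⟩ := isConj_iff.1 q.2.2.1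
      rw [map_mul, mul_assoc, ← map_mul,
        show (⟨q.2.1, hyK q.1 q.2.1 q.2.2.1 q.2.2.2⟩ : ↥K) * ⟨q.2.1, hyK q.1 q.2.1 q.2.2.1 q.2.2.2⟩
          = 1 from Subtype.ext (by
            show q.2.1 * q.2.1 = 1
            rw [← hc, show c * x * c⁻¹ * (c * x * c⁻¹) = c * (x * x) * c⁻¹ by group, T.x_sq]
            group), map_one, mul_one]
      exact q.1.2
    · show IsConj x ((r.1.1 : G) * (r.1.2 : G) * (r.1.2 : G))
      obtain ⟨c, hc⟩ := isConj_iff.1 r.2.2.1
      rw [mul_assoc, ← hc, show c * x * c⁻¹ * (c * x * c⁻¹) = c * (x * x) * c⁻¹ by group, T.x_sq,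
        mul_one, mul_inv_cancel, mul_one]
      exact r.2.1
    · rintro ⟨⟨g, hg⟩, ⟨y, hy, hgy⟩⟩
      refine Sigma.subtype_ext (Subtype.ext (Subtype.ext ?_)) rfl
      show (g : G) * y * y = g
      obtain ⟨c, hc⟩ := isConj_iff.1 hy
      rw [mul_assoc, ← hc, show c * x * c⁻¹ * (c * x * c⁻¹) = c * (x * x) * c⁻¹ by group, T.x_sq,
        mul_one, mul_inv_cancel, mul_one]
    · rintro ⟨⟨a, b⟩, ha, hb, hab⟩
      apply Subtype.ext
      refine Prod.ext (Subtype.ext ?_) rfl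
      show (a : G) * b * b = a
      obtain ⟨c, hc⟩ := isConj_iff.1 hb
      rw [mul_assoc, ← hc, show c * x * c⁻¹ * (c * x * c⁻¹) = c * (x * x) * c⁻¹ by group, T.x_sq,
        mul_one, mul_inv_cancel, mul_one]
  -- the fibres
  set N := Nat.card Wreg with hN
  let Fib : ↥(P : Subgroup G) → Type u := fun u =>
    {t : ↥K // IsConj x (t : G) ∧ (T.π t : G) = u}
  let Ω₂ := {u : ↥(P : Subgroup G) // u * u = 1 ∧ u ≠ 1 ∧ u ≠ x'}
  have hord : ∀ {t : G}, IsConj x t → orderOf t = 2 := fun h => by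
    obtain ⟨c, hc⟩ := isConj_iff.1 h
    rw [← hc, Invol.order_conj, T.orbit.ord]
  have hsplitPr : Nat.card Pr = ∑ u : Ω₂, Nat.card (Fib u.1) * Nat.card (Fib (x' * u.1)) := by
    simp only [← Nat.card_prod]
    rw [← Nat.card_sigma]
    refine Nat.card_congr
      { toFun := fun p => ⟨⟨T.π p.1.1, ?_, T.π_invol_ne p.1.1.2 (hord p.2.1), ?_⟩,
          ⟨p.1.1, p.2.1, rfl⟩, ⟨p.1.2, p.2.2.1, ?_⟩⟩
        invFun := fun q => ⟨(q.2.1.1, q.2.2.1), q.2.1.2.1, q.2.2.2.1, ?_⟩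
        left_inv := fun p => rfl
        right_inv := ?_ }
    · rw [← map_mul, show p.1.1 * p.1.1 = 1 from Subtype.ext (by
        show (p.1.1 : G) * p.1.1 = 1
        exact Invol.mul_self (hord p.2.1)), map_one]
    · intro h
      have h' := p.2.2.2
      rw [h, mul_eq_left] at h'
      exact T.π_invol_ne p.1.2.2 (hord p.2.2.1) h'
    · refine congrArg Subtype.val ?_
      show T.π p.1.2 = x' * T.π p.1.1
      have h' := p.2.2.2
      have h1 : T.π p.1.1 * T.π p.1.1 = 1 := by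
        rw [← map_mul, show p.1.1 * p.1.1 = 1 from Subtype.ext (by
          show (p.1.1 : G) * p.1.1 = 1
          exact Invol.mul_self (hord p.2.1)), map_one]
      calc T.π p.1.2 = T.π p.1.1 * T.π p.1.1 * T.π p.1.2 := by rw [h1, one_mul]
        _ = x' * T.π p.1.1 := by rw [mul_assoc, h', hcomm]
    · have e1 : T.π q.2.1.1 = q.1.1 := Subtype.ext q.2.1.2.2
      have e2 : T.π q.2.2.1 = x' * q.1.1 := Subtype.ext q.2.2.2.2
      show T.π q.2.1.1 * T.π q.2.2.1 = x'
      rw [e1, e2, hcomm x', ← mul_assoc, q.1.2.1, one_mul]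
    · rintro ⟨⟨u, hu⟩, ⟨a, ha, hau⟩, ⟨b, hb, hbu⟩⟩
      obtain rfl : T.π a = u := Subtype.ext hau
      rfl
  have hfib : ∀ u : ↥(P : Subgroup G), u * u = 1 → u ≠ 1 → Nat.card (Fib u) * N = Nat.card W :=
    fun u h2 h1 => T.card_fibre hC u.2 (congrArg Subtype.val h2) fun h => h1 (Subtype.ext h)
  have hΩcard : Nat.card Ω₂ + 1 = eIdx P := by
    rw [← card_orbit T.orbit.mem T.orbit.stab]
    have e : Nat.card {v : G // ∃ n ∈ nN P, n * x * n⁻¹ = v} =
        Nat.card {u : ↥(P : Subgroup G) // u * u = 1 ∧ u ≠ 1} := Nat.card_congr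
      { toFun := fun v => ⟨⟨(v : G), by obtain ⟨n, hn, e⟩ := v.2; exact e ▸ mem_P_of_conj hn T.orbit.mem⟩, by
            obtain ⟨n, hn, e⟩ := v.2
            refine ⟨Subtype.ext ?_, fun h => T.x_ne ?_⟩
            · show (v : G) * v = 1
              rw [← e, show n * x * n⁻¹ * (n * x * n⁻¹) = n * (x * x) * n⁻¹ by group, T.x_sq]
              group
            · exact conj_eq_one_iff.1 (e.trans (congrArg Subtype.val h))⟩
        invFun := fun u => ⟨(u.1 : G), T.trans u u.1.2 (congrArg Subtype.val u.2.1)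
          fun h => u.2.2 (Subtype.ext h)⟩
        left_inv := fun v => rfl
        right_inv := fun u => rfl }
    rw [e, Nat.card_eq_fintype_card, Nat.card_eq_fintype_card, Fintype.card_subtype,
      Fintype.card_subtype, ← Finset.card_erase_add_one (s := Finset.univ.filter
        fun u : ↥(P : Subgroup G) => u * u = 1 ∧ u ≠ 1) (a := x') (by
        simp [hx', show x' ≠ 1 from fun h => T.x_ne (congrArg Subtype.val h)])]
    congr 2
    ext u
    simp only [Finset.mem_filter, Finset.mem_univ, true_and, Finset.mem_erase]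
    tauto
  have htotal : Nat.card Pr * (N * N) = (eIdx P - 1) * (Nat.card W * Nat.card W) := by
    rw [hsplitPr, Finset.sum_mul, Finset.sum_congr rfl (g := fun _ => Nat.card W * Nat.card W)
      fun u _ => ?_, Finset.sum_const, Finset.card_univ, smul_eq_mul,
      ← Nat.card_eq_fintype_card]
    · rw [← hΩcard, Nat.add_sub_cancel]
    · rw [mul_mul_mul_comm, hfib _ u.2.1 u.2.2.1, hfib]
      · calc x' * u.1 * (x' * u.1) = x' * (u.1 * x') * u.1 := by simp only [mul_assoc]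
          _ = x' * x' * (u.1 * u.1) := by rw [hcomm u.1 x']; simp only [mul_assoc]
          _ = 1 := by rw [hx', u.2.1, one_mul]
      · intro h
        refine u.2.2.2 ?_
        calc u.1 = x' * (x' * u.1) := by rw [← mul_assoc, hx', one_mul]
          _ = x' := by rw [h, mul_one]
  rw [hpairs] at hsum
  have hWpos : 0 < Nat.card W := Nat.card_pos
  have hfinal : S * N = (eIdx P - 1) * Nat.card W := by
    apply Nat.eq_of_mul_eq_mul_left hWpos
    calc Nat.card W * (S * N) = Nat.card W * S * N := by ring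
      _ = Nat.card Pr * (N * N) := by rw [hsum]; ring
      _ = _ := by rw [htotal]; ring
  have hfilt : ∀ v : C, v ∈ (Finset.univ.filter fun v : C => ¬ 2 ∣ orderOf v) ↔ (v : G) ∈ W :=
    fun v => by rw [Finset.mem_filter, T.regular_iff hC v]; simp
  rw [Finset.sum_subtype _ hfilt (fun v : C => quo x (x * (v : G))), ← hS,
    show (Finset.univ.filter fun v : C => ¬ 2 ∣ orderOf v).card = N by
      rw [hN, Nat.card_eq_fintype_card, Fintype.card_subtype]
      exact congrArg Finset.card (Finset.ext fun v => by rw [hfilt, Finset.mem_filter]; simp)]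
  exact hfinal

end Setting

end Cfsg.Agent.RegularOrbit
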