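import Cfsg.Agent.Lib.Blocks.RegularOrbit.InducedPair

/-!
The difference of two induced characters at the section of the involution.
-/

set_option autoImplicit false
set_option linter.style.haveILetI false
set_option linter.unusedSectionVars false

namespace Cfsg.Agent.RegularOrbit

open Cfsg Cfsg.Agent.Char
open scoped ComplexConjugate

universe u

variable {G : Type u} [Group G] [Fintype G] {P : Sylow 2 G} {x : G} {W : Subgroup G}

set_option maxHeartbeats 1000000 in
/-- A pair of irreducible characters. -/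
theorem Setting.exists_pair (T : Setting P x W) (hne : ∃ y ∈ (P : Subgroup G), y * y ≠ 1) :
    ∃ A B : IrrCharacter G, (A : G → ℂ) 1 = (B : G → ℂ) 1 ∧
      (A : G → ℂ) 1 ≠ ((W ⊔ (P : Subgroup G)).index : ℂ) ∧
      ∀ v : G, Commute v x → ¬ 2 ∣ orderOf v →
        (A : G → ℂ) (x * v) - (B : G → ℂ) (x * v) = (eIdx P : ℂ) + 1 := by
  classical
  haveI : Fintype ↥(W ⊔ (P : Subgroup G)) := Fintype.ofFinite _
  letI : CommGroup ↥(P : Subgroup G) :=
    { (inferInstance : Group ↥(P : Subgroup G)) with
      mul_comm := fun a b => Subtype.ext (T.orbit.comm a a.2 b b.2) }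
  obtain ⟨y, hy, hy1⟩ := hne
  let sq : ↥(P : Subgroup G) →* ↥(P : Subgroup G) :=
    MonoidHom.mk' (fun a => a * a) fun a b => mul_mul_mul_comm a b a b
  obtain ⟨ν, hν⟩ := Abelian.exists_lin_ne_one (v := (⟨y, hy⟩ * ⟨y, hy⟩ : ↥(P : Subgroup G)))
    fun h => hy1 (congrArg Subtype.val h)
  obtain ⟨μb, hμb⟩ := Abelian.exists_lin_ne_one (v := (⟨x, T.orbit.mem⟩ : ↥(P : Subgroup G)))
    fun h => T.x_ne (congrArg Subtype.val h)
  set μa := ν.comp sq with hμa
  have hμa1 : μa ≠ 1 := fun h => hν (DFunLike.congr_fun h ⟨y, hy⟩)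
  have hμb1 : μb ≠ 1 := fun h => hμb (DFunLike.congr_fun h _)
  have hμaΩ : ∀ v : ↥(P : Subgroup G), v * v = 1 → μa v = 1 := fun v hv => by
    show ν (v * v) = 1
    rw [hv, map_one]
  set K := W ⊔ (P : Subgroup G) with hK
  set H := nN P ⊔ W with hH
  set kk : ℂ := (Nat.card ↥K : ℂ) with hkk
  have hK0 : kk ≠ 0 := Nat.cast_ne_zero.2 Nat.card_pos.ne'
  set R : ℂ := kk⁻¹ * kk⁻¹ * ∑ g ∈ Finset.univ.filter (fun g => g ∉ H), T.term 1 1 g with hR
  have hKcard : ((Finset.univ.filter fun g : G => g ∈ K).card : ℂ) = kk := by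
    rw [hkk, Nat.card_eq_fintype_card, Fintype.card_subtype]
  have hsplit : ∀ μ μ' : ↥(P : Subgroup G) →* ℂˣ,
      classInner (indFun K (T.lift μ)) (indFun K (T.lift μ')) =
        kk⁻¹ * kk⁻¹ * ∑ g ∈ Finset.univ.filter (· ∈ H), T.term μ μ' g + R := by
    intro μ μ'
    rw [T.inner_lift, hR, ← mul_add,
      ← Finset.sum_filter_add_sum_filter_not Finset.univ (· ∈ H) (T.term μ μ')]
    refine congrArg (fun t => kk⁻¹ * kk⁻¹ * (_ + t)) ?_
    exact Finset.sum_congr rfl fun g hg => T.term_outside μ μ' (Finset.mem_filter.1 hg).2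
  have hself : ∀ μ : ↥(P : Subgroup G) →* ℂˣ, μ ≠ 1 →
      classInner (indFun K (T.lift μ)) (indFun K (T.lift μ)) = 1 + R := by
    intro μ hμ
    rw [hsplit]
    congr 1
    rw [Finset.sum_congr rfl (g := fun g => if g ∈ K then kk else 0) fun g hg => by
        rw [T.term_inside μ μ (Finset.mem_filter.1 hg).2]
        exact if_congr (T.twisted_self hμ (Finset.mem_filter.1 hg).2) rfl rfl,
      Finset.sum_ite, Finset.sum_const_zero, add_zero, Finset.sum_const, nsmul_eq_mul,
      Finset.filter_filter, Finset.filter_congr (q := fun g => g ∈ K) fun g _ =>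
        ⟨fun h => h.2, fun h => ⟨T.frame.K_le_H h, h⟩⟩, hKcard]
    field_simp
  have hcross : classInner (indFun K (T.lift μa)) (indFun K (T.lift μb)) = R ∧
      classInner (indFun K (T.lift μb)) (indFun K (T.lift μa)) = R := by
    constructor <;>
    · rw [hsplit, Finset.sum_eq_zero fun g hg => ?_, mul_zero, zero_add]
      rw [T.term_inside _ _ (Finset.mem_filter.1 hg).2, if_neg]
      first
        | exact (T.twisted_ne hμaΩ hμb (Finset.mem_filter.1 hg).2).1
        | exact (T.twisted_ne hμaΩ hμb (Finset.mem_filter.1 hg).2).2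
  -- the part outside is positive
  have hR0 : R ≠ 0 := by
    obtain ⟨g₀, hg₀⟩ : ∃ g, g ∉ H := by
      by_contra h
      push Not at h
      exact T.proper (eq_top_iff.2 fun g _ => h g)
    set cnt : G → ℕ := fun g =>
      (Finset.univ.filter fun h : ↥K => g⁻¹ * (h : G) * g ∈ K).card with hcnt
    have hterm : ∀ g, T.term 1 1 g = (cnt g : ℂ) := by
      intro g
      rw [hcnt]
      simp only [Finset.natCast_card_filter]
      refine Finset.sum_congr rfl fun h _ => ?_
      by_cases hk : g⁻¹ * (h : G) * g ∈ K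
      · rw [extendByZero_mem _ _ hk, if_pos hk]
        simp [Setting.lift]
      · rw [extendByZero_not_mem _ _ hk, if_neg hk, zero_mul]
    rw [hR, Finset.sum_congr rfl fun g _ => hterm g, ← Nat.cast_sum]
    refine mul_ne_zero (mul_ne_zero (inv_ne_zero hK0) (inv_ne_zero hK0)) (Nat.cast_ne_zero.2 ?_)
    refine (Finset.sum_pos' (fun g _ => Nat.zero_le _)
      ⟨g₀, Finset.mem_filter.2 ⟨Finset.mem_univ _, hg₀⟩, ?_⟩).ne'
    exact Finset.card_pos.2 ⟨1, by simp⟩
  -- the difference
  have hchar : ∀ μ, IsCharacter G (indFun K (T.lift μ)) := fun μ =>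
    isCharacter_indFun K (IsIrrCharacter.isCharacter (isIrrCharacter_linear (μ.comp T.π)))
  set a := indFun K (T.lift μa) with ha
  set b := indFun K (T.lift μb) with hb
  have hdeg : ∀ μ : ↥(P : Subgroup G) →* ℂˣ, indFun K (T.lift μ) 1 = (K.index : ℂ) := fun μ => by
    rw [indFun_one_apply]
    simp [Setting.lift]
  have hgen : IsGeneralizedCharacter G (a - b) :=
    Cfsg.Agent.Char.IsGeneralizedCharacter.sub
      (IsGeneralizedCharacter.of_isCharacter (hchar μa))
      (IsGeneralizedCharacter.of_isCharacter (hchar μb))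
  have hnorm : classInner (a - b) (a - b) = 2 := by
    rw [classInner_sub_left, classInner_sub_right, classInner_sub_right, hself μa hμa1,
      hself μb hμb1, hcross.1, hcross.2]
    ring
  obtain ⟨A, B, hAB, heq⟩ := Cfsg.Agent.Char.IsGeneralizedCharacter.of_norm_two hgen hnorm (by
    show a 1 - b 1 = 0
    rw [ha, hb, hdeg, hdeg, sub_self])
  refine ⟨A, B, ?_, ?_, fun v hv hv2 => ?_⟩
  · have h := congrFun heq 1
    simp only [Pi.sub_apply, ha, hb, hdeg, sub_self] at h
    exact sub_eq_zero.1 h.symm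
  · intro hA
    obtain ⟨ma, hma⟩ := IsCharacter.exists_decomp (hchar μa)
    obtain ⟨mb, hmb⟩ := IsCharacter.exists_decomp (hchar μb)
    have hAB' : (ma A : ℂ) - (mb A : ℂ) = 1 := by
      have h := congrArg (fun f => classInner f (A : G → ℂ)) heq
      simp only [classInner_sub_left, ha, hb, hma, hmb, classInner_combination,
        classInner_self_irr A.2] at h
      rw [h, classInner_irr_of_ne B.2 A.2 fun h' => hAB (Subtype.ext h').symm, sub_zero]
    have hmaA : 1 ≤ ma A := by
      have : ((ma A : ℕ) : ℤ) - (mb A : ℤ) = 1 := by exact_mod_cast hAB'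
      omega
    have hsum : ∑ χ, ma χ * charDegree (χ : G → ℂ) = charDegree (A : G → ℂ) := by
      have h := congrFun hma 1
      rw [hdeg, ← hA] at h
      simp only [Finset.sum_apply, Pi.smul_apply, smul_eq_mul, Blocks.irr_one_eq_charDegree] at h
      exact_mod_cast h.symm
    have hs := Finset.add_sum_erase Finset.univ (fun χ => ma χ * charDegree (χ : G → ℂ))
      (Finset.mem_univ A)
    have hpos := Blocks.charDegree_pos A
    have hle : charDegree (A : G → ℂ) ≤ ma A * charDegree (A : G → ℂ) :=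
      Nat.le_mul_of_pos_left _ (by omega)
    have hrest : ∑ χ ∈ Finset.univ.erase A, ma χ * charDegree (χ : G → ℂ) = 0 := by omega
    have hone : ma A = 1 := by
      have h : ma A * charDegree (A : G → ℂ) = 1 * charDegree (A : G → ℂ) := by omega
      exact Nat.eq_of_mul_eq_mul_right hpos h
    have haA : indFun K (T.lift μa) = (A : G → ℂ) := by
      rw [hma, Finset.sum_eq_single A (fun χ _ hχ => by
        have h := (Finset.sum_eq_zero_iff.1 hrest) χ (Finset.mem_erase.2 ⟨hχ, Finset.mem_univ _⟩)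
        rw [(Nat.mul_eq_zero.1 h).resolve_right (Blocks.charDegree_pos χ).ne', Nat.cast_zero,
          zero_smul]) (fun h => absurd (Finset.mem_univ A) h), hone, Nat.cast_one, one_smul]
    have h := hself μa hμa1
    rw [haA, classInner_self_irr A.2] at h
    exact hR0 (by linear_combination -h)
  · have h := congrFun heq (x * v)
    simp only [Pi.sub_apply] at h
    rw [← h, ha, hb, indFun_apply, indFun_apply, ← mul_sub, ← Finset.sum_sub_distrib]
    have hvK : v ∈ K := T.mem_K_of_commute hv
    have hxK : x ∈ K := Subgroup.mem_sup_right T.orbit.mem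
    have hxv2 : 2 ∣ orderOf (x * v) := by
      rw [hv.symm.orderOf_mul_eq_mul_orderOf_of_coprime (by
        rw [T.orbit.ord]; exact Nat.prime_two.coprime_iff_not_dvd.2 hv2), T.orbit.ord]
      exact Dvd.intro _ rfl
    set f : ↥(P : Subgroup G) → ℂ := fun u => (μa u : ℂ) - (μb u : ℂ) with hf
    have hzero : ∀ g, g ∉ H → extendByZero K (T.lift μa) (g⁻¹ * (x * v) * g) -
        extendByZero K (T.lift μb) (g⁻¹ * (x * v) * g) = 0 := by
      intro g hg
      by_cases hk : g⁻¹ * (x * v) * g ∈ K
      · exact absurd (T.mem_of_singular (T.frame.K_le_H (mul_mem hxK hvK)) hxv2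
          (T.frame.K_le_H hk)) hg
      · rw [extendByZero_not_mem _ _ hk, extendByZero_not_mem _ _ hk, sub_zero]
    rw [← Finset.sum_filter_add_sum_filter_not Finset.univ (· ∈ H),
      Finset.sum_eq_zero (s := Finset.univ.filter fun g => g ∉ H)
        (fun g hg => hzero g (Finset.mem_filter.1 hg).2), add_zero,
      T.sum_orbit f _ fun g hg hk => ?_]
    · rw [← hkk, ← mul_assoc, inv_mul_cancel₀ hK0, one_mul]
      set Ω := Finset.univ.filter (fun u : ↥(P : Subgroup G) => u * u = 1 ∧ u ≠ 1) with hΩ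
      have hΩcard : Ω.card = eIdx P := by
        rw [← card_orbit T.orbit.mem T.orbit.stab, hΩ, ← Fintype.card_subtype,
          ← Nat.card_eq_fintype_card]
        refine Nat.card_congr
          { toFun := fun u => ⟨(u : G), T.trans u u.1.2 (congrArg Subtype.val u.2.1)
              fun h => u.2.2 (Subtype.ext h)⟩
            invFun := fun v => ⟨⟨(v : G), ?_⟩, ?_, ?_⟩
            left_inv := fun u => rfl
            right_inv := fun v => rfl }
        · obtain ⟨n, hn, e⟩ := v.2
          exact e ▸ mem_P_of_conj hn T.orbit.mem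
        · obtain ⟨n, hn, e⟩ := v.2
          apply Subtype.ext
          show (v : G) * v = 1
          rw [← e, show n * x * n⁻¹ * (n * x * n⁻¹) = n * (x * x) * n⁻¹ by group, T.x_sq]
          group
        · obtain ⟨n, hn, e⟩ := v.2
          intro h
          exact T.x_ne (conj_eq_one_iff.1 (e.trans (congrArg Subtype.val h)))
      have hsumb : ∑ u ∈ Ω, (μb u : ℂ) = -1 := by
        set x' : ↥(P : Subgroup G) := ⟨x, T.orbit.mem⟩
        have hx' : x' * x' = 1 := Subtype.ext T.x_sq
        set Ω₁ := Finset.univ.filter (fun u : ↥(P : Subgroup G) => u * u = 1) with hΩ₁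
        have hs : ∑ u ∈ Ω₁, (μb u : ℂ) = 0 := by
          have h : (μb x' : ℂ) * ∑ u ∈ Ω₁, (μb u : ℂ) = ∑ u ∈ Ω₁, (μb u : ℂ) := by
            rw [Finset.mul_sum]
            refine Finset.sum_equiv (Equiv.mulLeft x') (fun u => ?_) fun u _ => by
              simp [map_mul]
            simp only [hΩ₁, Finset.mem_filter, Finset.mem_univ, true_and, Equiv.coe_mulLeft]
            rw [mul_mul_mul_comm, hx', one_mul]
          refine (mul_eq_zero.1 (?_ : ((μb x' : ℂ) - 1) * _ = 0)).resolve_left
            (sub_ne_zero.2 fun h' => hμb (Units.ext h'))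
          rw [sub_mul, h, one_mul, sub_self]
        have e : Ω = Ω₁.erase 1 := by ext u; simp [hΩ, hΩ₁, and_comm]
        rw [e, Finset.sum_erase_eq_sub (by simp [hΩ₁]), hs, map_one, Units.val_one, zero_sub]
      rw [hf, Finset.sum_sub_distrib, hsumb, Finset.sum_congr rfl (g := fun _ => (1 : ℂ))
        fun u hu => by rw [hμaΩ u (Finset.mem_filter.1 hu).2.1, Units.val_one], Finset.sum_const,
        nsmul_one, hΩcard]
      ring
    · have hk' : g⁻¹ * (x * v) * g ∈ K := by
        have := T.frame.normK (inv_mem hg) (mul_mem hxK hvK)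
        rwa [inv_inv] at this
      have hkv : g⁻¹ * v * g ∈ K := by
        have := T.frame.normK (inv_mem hg) hvK
        rwa [inv_inv] at this
      rw [extendByZero_mem _ _ hk', extendByZero_mem _ _ hk']
      have e : (⟨g⁻¹ * (x * v) * g, hk'⟩ : ↥K) = ⟨g⁻¹ * x * g, hk⟩ * ⟨g⁻¹ * v * g, hkv⟩ :=
        Subtype.ext (show g⁻¹ * (x * v) * g = g⁻¹ * x * g * (g⁻¹ * v * g) by group)
      have ho : ¬ 2 ∣ orderOf (⟨g⁻¹ * v * g, hkv⟩ : ↥K) := by
        rwa [Subgroup.orderOf_mk, show g⁻¹ * v * g = g⁻¹ * v * g⁻¹⁻¹ by group, Invol.order_conj]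
      simp only [Setting.lift, hf, e, map_mul, T.π_of_odd ho, map_one, Units.val_one, mul_one]

end Cfsg.Agent.RegularOrbit
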