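import Mathlib.Data.Complex.Basic
import Mathlib.Tactic.Linarith
import Mathlib.Tactic.LinearCombination
import Mathlib.Data.Nat.Prime.Basic
import Mathlib.Algebra.Order.BigOperators.Group.Finset
import Mathlib.NumberTheory.Divisors
import Mathlib.Tactic.Ring
import Mathlib.Algebra.BigOperators.Ring.Finset
import Mathlib.Tactic.IntervalCases

/-!
Integers satisfying one quadratic relation with prescribed sums.
-/

set_option autoImplicit false

namespace Cfsg.Agent.RegularOrbit

theorem consecutive_pow_two {y r : ℕ} (h : (y + 1) * (y + 2) = 2 ^ r) : y = 0 := by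
  obtain ⟨i, -, hi⟩ := (Nat.dvd_prime_pow Nat.prime_two).1 (Dvd.intro _ h)
  obtain ⟨l, -, hl⟩ := (Nat.dvd_prime_pow Nat.prime_two).1 (Dvd.intro_left _ h)
  rcases i with _ | i
  · simpa using hi
  rcases l with _ | l
  · simp at hl
  rw [pow_succ] at hi hl
  omega

/-- Two values with sum one and the column norm. -/
theorem two_values {ι : Type*} [Fintype ι] (c : ι → ℤ) {α β : ℂ} {e r q : ℕ}
    (hc : ∀ i, (c i : ℂ) * (c i : ℂ) = α + β * (c i : ℂ)) (h1 : ∑ i, c i = 1)
    (h2 : ∑ i, c i * c i + (e : ℤ) = (q : ℤ)) (hq : Fintype.card ι * e + 1 = q)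
    (hr : e + 1 = 2 ^ r) (hmod : e + 1 ∣ Fintype.card ι - 1) (hm : 2 ≤ Fintype.card ι)
    (he : 3 ≤ e) : β = 1 - (e : ℂ) := by
  classical
  obtain ⟨i, k, hik⟩ : ∃ i k, c i ≠ c k := by
    by_contra h
    push Not at h
    haveI : Nonempty ι := Fintype.card_pos_iff.1 (by omega)
    rw [Finset.sum_congr rfl fun l _ => h l (Classical.arbitrary ι), Finset.sum_const,
      Finset.card_univ, nsmul_eq_mul] at h1
    rcases Int.eq_one_or_neg_one_of_mul_eq_one h1 with h' | h' <;> omega
  have hne : (c i : ℂ) - (c k : ℂ) ≠ 0 := sub_ne_zero.2 (by exact_mod_cast hik)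
  have hβ : β = ((c i + c k : ℤ) : ℂ) := by
    push_cast
    apply mul_right_cancel₀ hne
    linear_combination -(hc i) + (hc k)
  have hα : α = ((-(c i * c k) : ℤ) : ℂ) := by
    push_cast
    have := hc i
    rw [hβ] at this
    push_cast at this
    linear_combination -this
  set a : ℤ := -(c i * c k) with ha
  set b : ℤ := c i + c k with hb
  have hcl : ∀ l, c l * c l = a + b * c l := fun l => by
    have h := hc l
    rw [hα, hβ] at h
    exact_mod_cast h
  have hroot : ∀ l, c l = c i ∨ c l = c k := fun l => by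
    have h : (c l - c i) * (c l - c k) = 0 := by
      have := hcl l
      rw [ha, hb] at this
      linear_combination this
    rcases mul_eq_zero.1 h with h | h
    · exact Or.inl (sub_eq_zero.1 h)
    · exact Or.inr (sub_eq_zero.1 h)
  set m := Fintype.card ι with hm'
  have hsum : (m : ℤ) * a + b = (m : ℤ) * e + 1 - e := by
    have h := h2
    rw [Finset.sum_congr rfl fun l _ => hcl l, Finset.sum_add_distrib, ← Finset.mul_sum, h1,
      Finset.sum_const, Finset.card_univ, nsmul_eq_mul, mul_one, ← hm', ← hq] at h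
    push_cast at h
    linarith
  rw [hβ]
  suffices h : b = 1 - (e : ℤ) by rw [h]; push_cast; rfl
  rcases eq_or_ne a (e : ℤ) with h | hae
  · rw [h] at hsum; linarith
  exfalso
  have hmZ : (2 : ℤ) ≤ (m : ℤ) := by exact_mod_cast hm
  have hmodZ : ((e : ℤ) + 2) ≤ (m : ℤ) := by
    have := Nat.le_of_dvd (by omega) hmod
    omega
  have hone : ∀ l, c l ≠ 0 → ∀ s : ℤ, (∀ l', c l' = 0 ∨ c l' = s) → s = 1 ∨ s = -1 := by
    intro l hl s hs
    have hd : s ∣ ∑ l', c l' := Finset.dvd_sum fun l' _ => by
      rcases hs l' with h | h <;> simp [h]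
    rw [h1] at hd
    exact Int.isUnit_iff.1 (isUnit_of_dvd_one hd)
  rcases lt_trichotomy (c i * c k) 0 with hneg | hzero | hpos
  · -- opposite signs
    have hapos : 1 ≤ a := by omega
    have hbnd : b ≤ a - 1 ∧ -(a - 1) ≤ b := by
      rcases mul_neg_iff.1 hneg with ⟨h3, h4⟩ | ⟨h3, h4⟩ <;> constructor <;> rw [ha, hb] <;>
        nlinarith [h3, h4, mul_nonneg (show (0 : ℤ) ≤ |c i| - 1 by
          rcases abs_cases (c i) with h | h <;> omega) (show (0 : ℤ) ≤ |c k| - 1 by
          rcases abs_cases (c k) with h | h <;> omega), abs_cases (c i), abs_cases (c k)]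
    set j : ℤ := (e : ℤ) - a with hj
    have hbj : b = 1 - (e : ℤ) + j * m := by rw [hj]; linarith
    rcases lt_trichotomy j 1 with hj1 | hj1 | hj1
    · have hj0 : j ≤ -1 := by omega
      nlinarith [mul_le_mul_of_nonneg_left hj0 (show (0 : ℤ) ≤ (m : ℤ) - 1 by omega)]
    · have hmle : (m : ℤ) ≤ 2 * (e : ℤ) - 3 := by
        rw [hj1] at hbj; omega
      obtain ⟨t, ht⟩ := hmod
      have ht1 : t = 1 := by
        have hm3 : m ≤ 2 * e - 3 := by omega
        rcases t with _ | _ | t
        · rw [mul_zero] at ht; omega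
        · rfl
        · have : (e + 1) * 2 ≤ (e + 1) * (t + 1 + 1) := Nat.mul_le_mul_left _ (by omega)
          omega
      rw [ht1, mul_one] at ht
      have hb3 : b = 3 := by rw [hbj, hj1]; omega
      have hae1 : a = (e : ℤ) - 1 := by omega
      have hfin : ∀ u v : ℤ, v < 0 → u + v = 3 → -(u * v) = (e : ℤ) - 1 → False := by
        intro u v hv huv huv'
        obtain ⟨y, hy⟩ : ∃ y : ℕ, v = -(y : ℤ) := ⟨v.natAbs, by omega⟩
        have hu : u = 3 + (y : ℤ) := by omega
        have h : (((y + 1) * (y + 2) : ℕ) : ℤ) = ((2 ^ r : ℕ) : ℤ) := by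
          rw [← hr]
          rw [hu, hy] at huv'
          push_cast
          linarith
        have hy0 := consecutive_pow_two (Nat.cast_injective h)
        omega
      rcases mul_neg_iff.1 hneg with ⟨h3, h4⟩ | ⟨h3, h4⟩
      · exact hfin (c i) (c k) h4 (by omega) (by omega)
      · exact hfin (c k) (c i) h3 (by omega) (by rw [mul_comm]; omega)
    · nlinarith [mul_le_mul_of_nonneg_left (show (2 : ℤ) ≤ j by omega)
        (show (0 : ℤ) ≤ (m : ℤ) + 1 by omega)]
  · have ha0 : a = 0 := by omega
    rw [ha0] at hsum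
    rcases mul_eq_zero.1 hzero with h | h
    · have := hone k (fun h' => hik (by rw [h, h'])) (c k) fun l => by
        rcases hroot l with h' | h'
        · exact Or.inl (by rw [h', h])
        · exact Or.inr h'
      rcases this with h' | h' <;> nlinarith
    · have := hone i (fun h' => hik (by rw [h, h'])) (c i) fun l => by
        rcases hroot l with h' | h'
        · exact Or.inr h'
        · exact Or.inl (by rw [h', h])
      rcases this with h' | h' <;> nlinarith
  · -- one sign
    rcases mul_pos_iff.1 hpos with ⟨h3, h4⟩ | ⟨h3, h4⟩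
    · have h : ∑ _l : ι, (1 : ℤ) ≤ ∑ l, c l := Finset.sum_le_sum fun l _ => by
        rcases hroot l with h | h <;> omega
      rw [h1, Finset.sum_const, Finset.card_univ, nsmul_eq_mul, mul_one] at h
      omega
    · have h : ∑ l, c l ≤ ∑ _l : ι, (0 : ℤ) := Finset.sum_le_sum fun l _ => by
        rcases hroot l with h | h <;> omega
      rw [h1, Finset.sum_const_zero] at h
      omega

end Cfsg.Agent.RegularOrbit
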