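import Cfsg.Agent.Lib.Blocks.RegularOrbit.Rows
import Cfsg.Agent.Lib.Blocks.RegularOrbit.PairDiff
import Cfsg.Agent.Lib.Blocks.RegularOrbit.PairCount
import Cfsg.Agent.Lib.Blocks.RegularOrbit.TwoValues

/-!
A strongly embedded frame with one class of involutions forces an elementary Sylow subgroup.
-/

set_option autoImplicit false
set_option linter.style.haveILetI false
set_option linter.unusedSectionVars false

namespace Cfsg.Agent.RegularOrbit

open Cfsg Cfsg.Agent.Blocks Cfsg.Agent.Char Cfsg.Agent.BrauerPairs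
open scoped ComplexConjugate

universe u

variable {G : Type u} [Group G] [Fintype G] {M : Ideal AlgInt} [M.IsPrime] {P : Sylow 2 G} {x : G}
  {W : Subgroup G}

open scoped Classical in
/-- A sum over the principal block split along the rows. -/
theorem RowSet.sum_split {e m : ℕ} (R : RowSet M G e m) (f : IrrCharacter G → ℂ) :
    ∑ χ ∈ Finset.univ.filter (· ∈ principalBlock M G), f χ =
      ∑ χ ∈ (Finset.univ.filter (· ∈ principalBlock M G)) \ Finset.univ.image R.η, f χ +
        ∑ i, f (R.η i) := by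
  rw [← Finset.sum_image fun a _ b _ h => R.inj h]
  refine (Finset.sum_sdiff fun χ hχ => ?_).symm
  obtain ⟨i, -, rfl⟩ := Finset.mem_image.1 hχ
  exact Finset.mem_filter.2 ⟨Finset.mem_univ _, R.mem i⟩

/-- The order of the small subgroup. -/
theorem Setting.card_K (T : Setting P x W) :
    Nat.card ↥(W ⊔ (P : Subgroup G)) = Nat.card W * Nat.card (P : Subgroup G) := by
  have hsurj : Function.Surjective T.π := fun v =>
    ⟨⟨v, Subgroup.mem_sup_right v.2⟩, Subtype.ext (T.π_of_mem v.2 _)⟩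
  rw [← T.π.ker.card_mul_index, Subgroup.index_ker, MonoidHom.range_eq_top.2 hsurj,
    Subgroup.card_top]
  congr 1
  refine Nat.card_congr
    { toFun := fun k => ⟨(k.1 : G), ?_⟩
      invFun := fun w => ⟨⟨w, Subgroup.mem_sup_left w.2⟩, Subtype.ext (T.π_of_W w.2 _)⟩
      left_inv := fun k => rfl
      right_inv := fun w => rfl }
  have h := T.hπ k.1
  rwa [show T.π k.1 = 1 from k.2, OneMemClass.coe_one, inv_one, one_mul] at h

set_option maxHeartbeats 2000000 in
/-- The Sylow subgroup is elementary. -/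
theorem Setting.elementary (hM : IsPModular 2 M) (T : Setting P x W) (he3 : 3 ≤ eIdx P) {r : ℕ}
    (hr : eIdx P + 1 = 2 ^ r) : ∀ y ∈ (P : Subgroup G), y * y = 1 := by
  classical
  haveI : Fact (Nat.Prime 2) := ⟨Nat.prime_two⟩
  by_contra hcon
  push Not at hcon
  obtain ⟨y, hy, hy1⟩ := hcon
  have hO := T.orbit
  have hab := hO.comm
  have hyne : y ≠ 1 := fun h => hy1 (by rw [h, one_mul])
  set e := eIdx P with he
  set q := Nat.card (P : Subgroup G) with hqdef
  -- the number of orbits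
  obtain ⟨m, hm⟩ : ∃ m, m * e + 1 = q := by
    haveI : Fintype (cC P) := Fintype.ofFinite _
    have hP1 : (P : Subgroup G) ≠ ⊥ := fun h => T.x_ne (by
      have := hO.mem
      rwa [h, Subgroup.mem_bot] at this)
    have hstabP : stabP ((P : Subgroup G), zB M (cC P) (principalBlock M (cC P))) = nN P :=
      Subgroup.ext (mem_stab_principal hM)
    obtain ⟨m, hm, -⟩ := Abelian.abelian_free_counts hM (principal_defect (P := P) hM) hP1
      (le_cC hab) (principal_induced hM hab)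
      (fun g hg u hu hu1 h => T.free g ((mem_stab_principal hM g).1 hg) u hu hu1 h) (e := e)
      (congrArg (cC P).relIndex hstabP)
    exact ⟨m, hm⟩
  have hlt : e + 1 < q := by
    set S1 := Finset.univ.filter fun v : G => v ∈ (P : Subgroup G) ∧ v * v = 1 ∧ v ≠ 1
    have h1 : e ≤ S1.card := by
      have h := eIdx_le_card hO.mem hO.stab {v : G | v ∈ S1} fun n hn =>
        Finset.mem_filter.2 ⟨Finset.mem_univ _, mem_P_of_conj hn hO.mem, by
          rw [show n * x * n⁻¹ * (n * x * n⁻¹) = n * (x * x) * n⁻¹ by group, T.x_sq]; group,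
          fun h => T.x_ne (conj_eq_one_iff.1 h)⟩
      simpa using h
    have h2 : (insert 1 (insert y S1)).card ≤ (Finset.univ.filter fun v : G => v ∈ (P : Subgroup G)).card := by
      refine Finset.card_le_card ?_
      intro v hv
      simp only [Finset.mem_insert, Finset.mem_filter, Finset.mem_univ, true_and, S1] at hv ⊢
      rcases hv with rfl | rfl | h
      · exact one_mem _
      · exact hy
      · exact h.1
    have hPcard : (Finset.univ.filter fun v : G => v ∈ (P : Subgroup G)).card = q := by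
      rw [hqdef, Nat.card_eq_fintype_card, Fintype.card_subtype]
    rw [Finset.card_insert_of_notMem (by simp [S1, Ne.symm hyne]),
      Finset.card_insert_of_notMem (by simp [S1, hy1]), hPcard] at h2
    omega
  have hmod : e + 1 ∣ m - 1 := by
    obtain ⟨k, hk⟩ := IsPGroup.iff_card.1 P.isPGroup'
    rw [← hqdef] at hk
    have hrk : r ≤ k := (Nat.pow_le_pow_iff_right (by norm_num : 1 < 2)).1 (hr ▸ hk ▸ hlt.le)
    have h1 : e + 1 ∣ q := by rw [hr, hk]; exact pow_dvd_pow 2 hrk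
    have hm1 : 1 ≤ m := by
      rcases m with _ | m
      · omega
      · omega
    have h2 : (m - 1) * e + (e + 1) = q := by rw [Nat.sub_mul, one_mul]; have := Nat.le_mul_of_pos_left e hm1; omega
    have h3 : e + 1 ∣ (m - 1) * e := (Nat.dvd_add_left dvd_rfl).1 (h2.symm ▸ h1)
    exact (Nat.Coprime.dvd_mul_right (by simp)).1 h3
  have hm2 : e + 2 ≤ m := by
    have hm1 : 1 < m := by
      by_contra h
      have : m * e ≤ 1 * e := Nat.mul_le_mul_right _ (by omega)
      omega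
    have := Nat.le_of_dvd (by omega) hmod
    omega
  obtain ⟨R⟩ := exists_rowSet hM hO T.free (by omega) hm hm2
  have hδ : (R.δ : ℂ) * (R.δ : ℂ) = 1 := by rcases R.sign with h | h <;> rw [h] <;> norm_num
  have hδZ : R.δ * R.δ = 1 := by rcases R.sign with h | h <;> rw [h] <;> norm_num
  set B := Finset.univ.filter (· ∈ principalBlock M G) with hB
  have hBmem : ∀ χ, χ ∈ B ↔ χ ∈ principalBlock M G := fun χ => by simp [hB]
  have hnormC : ∑ χ ∈ B, (R.b χ : ℂ) * (R.b χ : ℂ) = (e : ℂ) := by exact_mod_cast R.norm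
  have hCoff : ∀ g : G, 2 ∣ orderOf g → ∀ χ ∈ B \ Finset.univ.image R.η,
      (χ : G → ℂ) g = (R.b χ : ℂ) := fun g hg χ hχ => by
    obtain ⟨h1, h2⟩ := Finset.mem_sdiff.1 hχ
    exact R.off χ ((hBmem χ).1 h1) (fun i h => h2 (Finset.mem_image.2 ⟨i, Finset.mem_univ _, h⟩)) g hg
  have hsplitb : ∀ f : IrrCharacter G → ℂ, ∑ χ ∈ B, f χ =
      ∑ χ ∈ B \ Finset.univ.image R.η, f χ + ∑ i, f (R.η i) := R.sum_split
  have hCb : ∑ χ ∈ B \ Finset.univ.image R.η, (R.b χ : ℂ) * (R.b χ : ℂ) = (e : ℂ) := by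
    rw [← hnormC, hsplitb, Finset.sum_eq_zero (s := (Finset.univ : Finset (Fin m))) fun i _ => by
      rw [R.unit_b, Int.cast_zero, mul_zero], add_zero]
  -- the column at the involution
  set C := Subgroup.centralizer ({x} : Set G) with hC
  haveI : Fintype C := Fintype.ofFinite C
  obtain ⟨-, hfac, N, hN, hNodd, hidx, hNreg⟩ := exists_complement hab hO.mem hO.stab hC
  obtain ⟨d, hd0, hd2, -, -⟩ :=
    column hM hO.ord hC hfac N hNodd hidx P.card_eq_multiplicity hNreg
  have hxdvd : 2 ∣ orderOf x := by rw [hO.ord]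
  set c : Fin m → ℤ := fun i => R.δ * d (R.η i) with hc
  have hcval : ∀ i, (R.η i : G → ℂ) x = (R.δ : ℂ) * (c i : ℂ) := fun i => by
    rw [hd0, hc]; push_cast; rw [← mul_assoc, hδ, one_mul]
  have hsum1 : ∑ i, c i = 1 := by
    have h := R.singular x hxdvd
    have h' : ((∑ i, c i : ℤ) : ℂ) = ((1 : ℤ) : ℂ) := by
      push_cast
      rw [← h]
      exact Finset.sum_congr rfl fun i _ => by rw [hcval, ← mul_assoc, hδ, one_mul]
    exact_mod_cast h'
  have hsum2 : ∑ i, c i * c i + (e : ℤ) = (q : ℤ) := by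
    have h' : ((∑ i, c i * c i + (e : ℤ) : ℤ) : ℂ) = ((q : ℤ) : ℂ) := by
      rw [← hd2]
      push_cast
      rw [hsplitb, add_comm, Finset.sum_congr rfl (g := fun χ => (R.b χ : ℂ) * (R.b χ : ℂ))
        (s₁ := B \ Finset.univ.image R.η) fun χ hχ => by rw [← hd0, hCoff x hxdvd χ hχ], hCb]
      congr 1
      refine Finset.sum_congr rfl fun i _ => ?_
      rw [hc]; push_cast
      linear_combination (d (R.η i) : ℂ) * (d (R.η i) : ℂ) * hδ
    exact_mod_cast h'
  -- the degree
  set D : ℂ := (R.η ⟨0, by omega⟩ : G → ℂ) 1 with hD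
  have hdeg : ∀ i, (R.η i : G → ℂ) 1 = D := fun i => by
    have h1 := R.regular i 1 (by simp)
    have h2 := R.regular ⟨0, by omega⟩ 1 (by simp)
    have : (R.δ : ℂ) * (R.η i : G → ℂ) 1 = (R.δ : ℂ) * D := by rw [hD]; linear_combination h1 - h2
    linear_combination (R.δ : ℂ) * this - ((R.η i : G → ℂ) 1 - D) * hδ
  have hD0 : D ≠ 0 := irr_one_ne_zero _
  -- elements of order at least four
  have hstab : ∀ u ∈ (P : Subgroup G), u ≠ 1 → ∀ n ∈ nN P, n * u * n⁻¹ = u → n ∈ cC P :=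
    fun u hu hu1 n hn h => T.free n hn u hu hu1 h
  have hne1 : ∀ {u : G}, u * u ≠ 1 → u ≠ 1 := fun h e => h (by rw [e, one_mul])
  have hdvd : ∀ {u : G}, u ∈ (P : Subgroup G) → u ≠ 1 → 2 ∣ orderOf u := by
    intro u hu hu1
    obtain ⟨k, hk⟩ := IsPGroup.iff_orderOf.1 P.isPGroup' ⟨u, hu⟩
    rw [Subgroup.orderOf_mk] at hk
    rcases k with _ | k
    · exact absurd (orderOf_eq_one_iff.1 (by simpa using hk)) hu1
    · rw [hk]; exact dvd_pow_self 2 (Nat.succ_ne_zero k)
  set K0 : ℂ := ∑ χ ∈ B, (R.b χ : ℂ) * (R.b χ : ℂ) * (R.b χ : ℂ) / (χ : G → ℂ) 1 with hK0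
  have hK0' : ∑ χ ∈ B \ Finset.univ.image R.η,
      (R.b χ : ℂ) * (R.b χ : ℂ) * (R.b χ : ℂ) / (χ : G → ℂ) 1 = K0 := by
    rw [hK0, hsplitb, Finset.sum_eq_zero (s := (Finset.univ : Finset (Fin m))) fun i _ => by
      rw [R.unit_b, Int.cast_zero, mul_zero, zero_div], add_zero]
  -- a weighted sum over the block at a singular element
  have hweight : ∀ g : G, 2 ∣ orderOf g →
      ∑ χ ∈ B, (χ : G → ℂ) x * conj ((χ : G → ℂ) x) * (χ : G → ℂ) g / (χ : G → ℂ) 1 =
        K0 + (∑ i, (c i : ℂ) * (c i : ℂ) * (R.η i : G → ℂ) g) / D := by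
    intro g hg
    rw [hsplitb, ← hK0']
    congr 1
    · refine Finset.sum_congr rfl fun χ hχ => ?_
      rw [hCoff x hxdvd χ hχ, hCoff g hg χ hχ, map_intCast]
    · rw [Finset.sum_div]
      refine Finset.sum_congr rfl fun i _ => ?_
      rw [hdeg, hcval, map_mul, map_intCast, map_intCast]
      linear_combination (c i : ℂ) * (c i : ℂ) * (R.η i : G → ℂ) g / D * hδ
  have hcentral : ∀ χ : IrrCharacter G,
      centralChar (χ : G → ℂ) x * conj ((χ : G → ℂ) x) =
        (C.index : ℂ) * ((χ : G → ℂ) x * conj ((χ : G → ℂ) x) / (χ : G → ℂ) 1) := fun χ => by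
    rw [centralChar, ← hC]; ring
  have hquo : ∀ {u : G} (hu : u ∈ (P : Subgroup G)) (hu1 : u ≠ 1) {Cu : Subgroup G} [Fintype Cu]
      (hCu : Cu = Subgroup.centralizer ({u} : Set G)),
      ((∑ w ∈ Finset.univ.filter (fun w : Cu => ¬ 2 ∣ orderOf w), quo x (u * (w : G)) : ℕ) : ℂ) =
        (C.index : ℂ) * (C.index : ℂ) / (Nat.card G : ℂ) *
          ((Finset.univ.filter fun w : Cu => ¬ 2 ∣ orderOf w).card : ℂ) *
          (K0 + (∑ i, (c i : ℂ) * (c i : ℂ) * (R.η i : G → ℂ) u) / D) := by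
    intro u hu hu1 Cu _ hCu
    push_cast
    rw [Finset.sum_congr rfl fun (w : Cu) _ => quo_eq x (u * (w : G)), ← Finset.mul_sum,
      section_sum hM hab hu (hstab u hu hu1) hCu, ← hweight u (hdvd hu hu1), ← hC, Finset.mul_sum,
      Finset.mul_sum, Finset.mul_sum]
    refine Finset.sum_congr rfl fun χ _ => ?_
    rw [hcentral]
    ring
  set lam : ℂ := -((R.δ : ℂ) * D * K0) with hlam
  have hGne : (Nat.card G : ℂ) ≠ 0 := Nat.cast_ne_zero.2 Nat.card_pos.ne'
  have hCidx : (C.index : ℂ) ≠ 0 := Nat.cast_ne_zero.2 Subgroup.index_ne_zero_of_finite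
  have hlamu : ∀ u ∈ (P : Subgroup G), u * u ≠ 1 →
      ∑ i, (c i : ℂ) * (c i : ℂ) * ((R.δ : ℂ) * (R.η i : G → ℂ) u) = lam := by
    intro u hu hu2
    haveI : Fintype (Subgroup.centralizer ({u} : Set G)) := Fintype.ofFinite _
    have h := hquo hu (hne1 hu2) (Cu := Subgroup.centralizer ({u} : Set G)) rfl
    rw [Finset.sum_eq_zero fun w hw => quo_eq_zero hab hO.ord hu (hstab u hu (hne1 hu2)) hu2
      (Subgroup.mem_centralizer_singleton_iff.1 w.2).symm
      (by rw [Subgroup.orderOf_coe]; exact (Finset.mem_filter.1 hw).2), Nat.cast_zero] at h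
    have h0 := (mul_eq_zero.1 h.symm).resolve_left
      (mul_ne_zero (div_ne_zero (mul_ne_zero hCidx hCidx) hGne) regular_card_ne_zero)
    rw [hlam, Finset.sum_congr rfl (g := fun i => (R.δ : ℂ) *
      ((c i : ℂ) * (c i : ℂ) * (R.η i : G → ℂ) u)) fun i _ => by ring, ← Finset.mul_sum]
    generalize (∑ i, (c i : ℂ) * (c i : ℂ) * (R.η i : G → ℂ) u) = Su at h0 ⊢
    field_simp at h0
    linear_combination (R.δ : ℂ) * h0
  -- class functions vanishing on the regular elements
  let coef : (Fin m → ℂ) → IrrCharacter G → ℂ := fun z χ =>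
    (∑ i, if R.η i = χ then z i * (R.δ : ℂ) else 0) +
      if χ ∈ B then (∑ i, z i) * (R.b χ : ℂ) else 0
  let F : (Fin m → ℂ) → G → ℂ := fun z => ∑ χ, coef z χ • (χ : G → ℂ)
  have hF : ∀ z g, F z g = ∑ i, z i * ((R.δ : ℂ) * (R.η i : G → ℂ) g) +
      (∑ i, z i) * ∑ χ ∈ B, (R.b χ : ℂ) * (χ : G → ℂ) g := by
    intro z g
    simp only [F, coef, Finset.sum_apply, Pi.smul_apply, smul_eq_mul, add_mul,
      Finset.sum_add_distrib, Finset.sum_mul, ite_mul, zero_mul]
    rw [Finset.sum_comm]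
    congr 1
    · refine Finset.sum_congr rfl fun i _ => ?_
      rw [Finset.sum_ite_eq, if_pos (Finset.mem_univ _), mul_assoc]
    · rw [Finset.sum_ite_mem, Finset.univ_inter, Finset.sum_comm]
      refine Finset.sum_congr rfl fun i _ => ?_
      rw [Finset.mul_sum]
      exact Finset.sum_congr rfl fun χ _ => by ring
  have hFreg : ∀ z (g : G), ¬ 2 ∣ orderOf g → F z g = 0 := by
    intro z g hg
    rw [hF, Finset.sum_mul, ← Finset.sum_add_distrib]
    exact Finset.sum_eq_zero fun i _ => by linear_combination z i * R.regular i g hg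
  have hFsing : ∀ z (g : G), 2 ∣ orderOf g →
      F z g = ∑ i, z i * ((R.δ : ℂ) * (R.η i : G → ℂ) g) + (∑ i, z i) * (e : ℂ) := by
    intro z g hg
    rw [hF, ← hCb, hsplitb (fun χ => (R.b χ : ℂ) * (χ : G → ℂ) g),
      Finset.sum_eq_zero (s := (Finset.univ : Finset (Fin m)))
        (f := fun i => (R.b (R.η i) : ℂ) * (R.η i : G → ℂ) g) fun i _ => by
        rw [R.unit_b, Int.cast_zero, zero_mul], add_zero,
      Finset.sum_congr rfl (g := fun χ => (R.b χ : ℂ) * (R.b χ : ℂ))
        (s₁ := B \ Finset.univ.image R.η) fun χ hχ => by rw [hCoff g hg χ hχ]]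
  have hqC : ((q : ℤ) : ℂ) ≠ 0 := by
    exact_mod_cast (Nat.card_pos (α := (P : Subgroup G))).ne'
  have hFcu : ∀ u ∈ (P : Subgroup G), u * u ≠ 1 → F (fun i => (c i : ℂ)) u = 0 := by
    intro u hu hu2
    haveI : Fintype (Subgroup.centralizer ({u} : Set G)) := Fintype.ofFinite _
    have h := section_sum hM hab hu (hstab u hu (hne1 hu2))
      (C := Subgroup.centralizer ({u} : Set G)) rfl (fun χ => conj ((χ : G → ℂ) x))
    rw [Finset.sum_eq_zero fun w hw => ?_] at h
    · have h0 := (mul_eq_zero.1 h.symm).resolve_left regular_card_ne_zero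
      rw [← h0, hFsing _ u (hdvd hu (hne1 hu2)), ← hB, hsplitb, add_comm,
        Finset.sum_congr rfl (g := fun χ => (R.b χ : ℂ) * (R.b χ : ℂ))
          (s₁ := B \ Finset.univ.image R.η) fun χ hχ => by
          rw [hCoff x hxdvd χ hχ, hCoff u (hdvd hu (hne1 hu2)) χ hχ, map_intCast], hCb]
      congr 1
      · rw [show (∑ i, (c i : ℂ)) = 1 by exact_mod_cast hsum1, one_mul]
      · exact Finset.sum_congr rfl fun i _ => by rw [hcval, map_mul, map_intCast, map_intCast]; ring
    · rw [show (∑ χ : IrrCharacter G, conj ((χ : G → ℂ) x) * (χ : G → ℂ) (u * (w : G))) =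
        ∑ χ : IrrCharacter G, (χ : G → ℂ) (u * (w : G)) * conj ((χ : G → ℂ) x) from
        Finset.sum_congr rfl fun χ _ => mul_comm _ _]
      refine column_orth_of_not_isConj fun hcj => hu2 ?_
      have hsq : (u * (w : G)) * (u * (w : G)) = 1 := by
        obtain ⟨k, hk⟩ := isConj_iff.1 hcj.symm
        rw [← hk, show k * x * k⁻¹ * (k * x * k⁻¹) = k * (x * x) * k⁻¹ by group, T.x_sq]
        group
      have hcw : Commute u (w : G) := (Subgroup.mem_centralizer_singleton_iff.1 w.2).symm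
      have h2 : u * u * ((w : G) * (w : G)) = 1 := by
        rw [← hsq]
        calc u * u * ((w : G) * w) = u * (u * (w : G)) * w := by group
          _ = u * ((w : G) * u) * w := by rw [hcw.eq]
          _ = u * (w : G) * (u * w) := by group
      have hw2 : ¬ 2 ∣ orderOf (w : G) := by
        rw [Subgroup.orderOf_coe]; exact (Finset.mem_filter.1 hw).2
      obtain ⟨i, hi⟩ := IsPGroup.iff_orderOf.1 P.isPGroup' ⟨u * u, mul_mem hu hu⟩
      rw [Subgroup.orderOf_mk, show u * u = ((w : G) * w)⁻¹ from mul_eq_one_iff_eq_inv.1 h2,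
        orderOf_inv] at hi
      rcases i with _ | i
      · rw [pow_zero] at hi
        rw [mul_eq_one_iff_eq_inv.1 h2, orderOf_eq_one_iff.1 hi, inv_one]
      · refine absurd (((dvd_pow_self 2 (Nat.succ_ne_zero i)).trans hi.symm.dvd).trans ?_) hw2
        rw [← pow_two]
        exact orderOf_pow_dvd 2
  -- a singular element lies in one of the sections
  have hreduce : ∀ g : G, 2 ∣ orderOf g → ∃ u v : G, u ∈ (P : Subgroup G) ∧ (u = x ∨ u * u ≠ 1) ∧
      Commute v u ∧ ¬ 2 ∣ orderOf v ∧ IsConj g (u * v) := by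
    intro g hg
    obtain ⟨a, b, hab', hcom, hpow, hb⟩ := Blocks.exists_isPPart Nat.prime_two g
    obtain ⟨a', ha', hconj⟩ := conj_into (P := P) hpow
    obtain ⟨k, rfl⟩ := isConj_iff.1 hconj
    have hcom' : Commute (k * b * k⁻¹) (k * a * k⁻¹) := by
      show k * b * k⁻¹ * (k * a * k⁻¹) = k * a * k⁻¹ * (k * b * k⁻¹)
      rw [show k * b * k⁻¹ * (k * a * k⁻¹) = k * (b * a) * k⁻¹ by group, ← hcom.eq]
      group
    have hb' : ¬ 2 ∣ orderOf (k * b * k⁻¹) := by rwa [Invol.order_conj]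
    have hg' : IsConj g (k * a * k⁻¹ * (k * b * k⁻¹)) :=
      isConj_iff.2 ⟨k, by rw [← hab']; group⟩
    have ha1 : k * a * k⁻¹ ≠ 1 := fun h => hb (by
      rw [conj_eq_one_iff.1 h, one_mul] at hab'
      rwa [← hab'] at hg)
    by_cases hsq : k * a * k⁻¹ * (k * a * k⁻¹) = 1
    · obtain ⟨n, hn, hnx⟩ := T.trans _ ha' hsq ha1
      refine ⟨x, n⁻¹ * (k * b * k⁻¹) * n⁻¹⁻¹, hO.mem, Or.inl rfl, ?_,
        by rwa [Invol.order_conj], hg'.trans (isConj_iff.2 ⟨n⁻¹, by rw [← hnx]; group⟩)⟩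
      show n⁻¹ * (k * b * k⁻¹) * n⁻¹⁻¹ * x = x * (n⁻¹ * (k * b * k⁻¹) * n⁻¹⁻¹)
      calc n⁻¹ * (k * b * k⁻¹) * n⁻¹⁻¹ * x
          = n⁻¹ * ((k * b * k⁻¹) * (n * x * n⁻¹)) * n := by group
        _ = n⁻¹ * ((n * x * n⁻¹) * (k * b * k⁻¹)) * n := by rw [hnx, hcom'.eq]
        _ = x * (n⁻¹ * (k * b * k⁻¹) * n⁻¹⁻¹) := by group
    · exact ⟨_, _, ha', Or.inr hsq, hcom', hb', hg'⟩
  have hdet : ∀ z : Fin m → ℂ, (∀ u ∈ (P : Subgroup G), u * u ≠ 1 → F z u = 0) →
      ∀ i, z i = F z x / (q : ℤ) * (c i : ℂ) := by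
    intro z hz i
    set k := F z x / ((q : ℤ) : ℂ) with hk
    set z' : Fin m → ℂ := fun i => z i - k * (c i : ℂ) with hz'
    have hlin : ∀ g, F z' g = F z g - k * F (fun i => (c i : ℂ)) g := by
      intro g
      simp only [hF, hz', sub_mul, Finset.sum_sub_distrib, mul_assoc, ← Finset.mul_sum]
      ring
    have hFcx : F (fun i => (c i : ℂ)) x = ((q : ℤ) : ℂ) := by
      rw [hFsing _ x hxdvd, show (∑ i, (c i : ℂ)) = 1 by exact_mod_cast hsum1, one_mul, ← hsum2]
      push_cast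
      congr 1
      refine Finset.sum_congr rfl fun i _ => ?_
      rw [hcval, ← mul_assoc (R.δ : ℂ), hδ, one_mul]
    have hzero : F z' = fun _ => 0 := by
      funext g
      by_cases hg : 2 ∣ orderOf g
      swap
      · exact hFreg _ g hg
      obtain ⟨u, v, hu, hcase, hcv, hv2, hgu⟩ := hreduce g hg
      have hu1 : u ≠ 1 := by
        rcases hcase with rfl | h
        · exact T.x_ne
        · exact hne1 h
      haveI : Fintype (Subgroup.centralizer ({u} : Set G)) := Fintype.ofFinite _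
      have hFu : F z' g = F z' u := by
        rw [hFsing _ g hg, hFsing _ u (hdvd hu hu1)]
        congr 1
        refine Finset.sum_congr rfl fun j _ => ?_
        rw [← irr_isConj (R.η j) hgu, section_value hM hab hu (hstab u hu hu1) rfl (R.mem j)
          (w := (⟨v, Subgroup.mem_centralizer_singleton_iff.2 hcv.eq⟩ :
            Subgroup.centralizer ({u} : Set G))) (by rwa [Subgroup.orderOf_mk])]
      rw [hFu, hlin]
      rcases hcase with rfl | h
      · rw [hFcx, hk, div_mul_cancel₀ _ hqC, sub_self]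
      · rw [hz u hu h, hFcu u hu h, mul_zero, sub_zero]
    have h := congrArg (fun f => classInner f (R.η i : G → ℂ)) hzero
    simp only [F, classInner_combination] at h
    rw [show classInner (fun _ : G => (0 : ℂ)) (R.η i : G → ℂ) = 0 by simp [classInner]] at h
    simp only [coef, R.unit_b, Int.cast_zero, mul_zero, ite_self, add_zero] at h
    rw [Finset.sum_eq_single i (fun j _ hj => if_neg fun h' => hj (R.inj h'))
      (fun h' => absurd (Finset.mem_univ i) h'), if_pos rfl] at h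
    exact sub_eq_zero.1 ((mul_eq_zero.1 h).resolve_right
      (Int.cast_ne_zero.2 (fun h' => by rw [h'] at hδZ; simp at hδZ)))
  -- the squares
  have hqme : ((q : ℤ) : ℂ) = (m : ℂ) * (e : ℂ) + 1 := by rw [← hm]; push_cast; rfl
  have hc2C : (∑ i, (c i : ℂ) * (c i : ℂ)) + (e : ℂ) = ((q : ℤ) : ℂ) := by
    rw [← hsum2]; push_cast; rfl
  set α : ℂ := (lam + (e : ℂ) * (((q : ℤ) : ℂ) - (e : ℂ))) / ((q : ℤ) : ℂ) with hα
  set z : Fin m → ℂ := fun i => (c i : ℂ) * (c i : ℂ) - α with hz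
  have hzsum : ∑ i, z i = ∑ i, (c i : ℂ) * (c i : ℂ) - (m : ℂ) * α := by
    rw [hz, Finset.sum_sub_distrib, Finset.sum_const, Finset.card_univ, Fintype.card_fin,
      nsmul_eq_mul]
  have hzg : ∀ g : G, 2 ∣ orderOf g → F z g =
      ∑ i, (c i : ℂ) * (c i : ℂ) * ((R.δ : ℂ) * (R.η i : G → ℂ) g) - lam := by
    intro g hg
    rw [hFsing _ g hg, hzsum]
    simp only [hz, sub_mul, Finset.sum_sub_distrib]
    rw [← Finset.mul_sum, R.singular g hg]
    have hα' : α * ((q : ℤ) : ℂ) = lam + (e : ℂ) * (((q : ℤ) : ℂ) - (e : ℂ)) := div_mul_cancel₀ _ hqC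
    linear_combination -hα' + α * hqme + (e : ℂ) * hc2C
  have hzu : ∀ u ∈ (P : Subgroup G), u * u ≠ 1 → F z u = 0 := fun u hu h2 => by
    rw [hzg u (hdvd hu (hne1 h2)), hlamu u hu h2, sub_self]
  set β := F z x / ((q : ℤ) : ℂ) with hβdef
  have hsq : ∀ i, (c i : ℂ) * (c i : ℂ) = α + β * (c i : ℂ) := fun i => by
    have h := hdet z hzu i
    rw [← hβdef] at h
    simp only [hz] at h
    linear_combination h
  have hβ := two_values c hsq hsum1 hsum2 (by rwa [Fintype.card_fin]) hr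
    (by rwa [Fintype.card_fin]) (by rw [Fintype.card_fin]; omega) he3
  -- the count in the section of the involution
  have hcount := T.sum_quo hC
  set nC := (Finset.univ.filter fun v : C => ¬ 2 ∣ orderOf v).card with hnC
  have hquox := hquo hO.mem T.x_ne hC
  have hkey : K0 + (∑ i, (c i : ℂ) * (c i : ℂ) * (R.η i : G → ℂ) x) / D =
      (R.δ : ℂ) * (β * ((q : ℤ) : ℂ)) / D := by
    rw [hβdef, div_mul_cancel₀ _ hqC, hzg x hxdvd, hlam, Finset.sum_congr rfl (g := fun i =>
      (R.δ : ℂ) * ((c i : ℂ) * (c i : ℂ) * (R.η i : G → ℂ) x))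
      (f := fun i => (c i : ℂ) * (c i : ℂ) * ((R.δ : ℂ) * (R.η i : G → ℂ) x)) (fun i _ => by ring),
      ← Finset.mul_sum]
    generalize (∑ i, (c i : ℂ) * (c i : ℂ) * (R.η i : G → ℂ) x) = Sx
    field_simp
    linear_combination -(D * K0 + Sx) * hδ
  rw [hkey] at hquox
  have hcard : (Nat.card G : ℂ) = (C.index : ℂ) * ((q : ℂ) * (nC : ℂ)) := by
    have h1 : nC = Nat.card N := by
      rw [hnC, Nat.card_eq_fintype_card, Fintype.card_subtype]
      exact congrArg Finset.card (Finset.filter_congr fun v _ => hNreg v)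
    rw [h1, ← C.index_mul_card, ← N.index_mul_card, hidx]
    push_cast; ring
  have hW : (Nat.card W : ℂ) ≠ 0 := Nat.cast_ne_zero.2 Nat.card_pos.ne'
  have hqN : ((q : ℕ) : ℂ) ≠ 0 := by exact_mod_cast hqC
  have hcountC : ((∑ v ∈ Finset.univ.filter (fun v : C => ¬ 2 ∣ orderOf v),
      quo x (x * (v : G)) : ℕ) : ℂ) * (nC : ℂ) = ((e : ℂ) - 1) * (Nat.card W : ℂ) := by
    have := congrArg (Nat.cast : ℕ → ℂ) hcount
    rw [← he] at this
    push_cast [Nat.cast_sub (show 1 ≤ e by omega)] at this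
    push_cast
    exact this
  rw [hquox] at hcountC
  have hmain : -(R.δ : ℂ) * (Nat.card G : ℂ) = (q : ℂ) * (Nat.card W : ℂ) * D := by
    have hne : (1 : ℂ) - (e : ℂ) ≠ 0 := sub_ne_zero.2 (by exact_mod_cast (show 1 ≠ e by omega))
    have hnC0 : (nC : ℂ) ≠ 0 := regular_card_ne_zero
    rw [hβ] at hcountC
    have h2 : (C.index : ℂ) * (nC : ℂ) * (R.δ : ℂ) * (1 - (e : ℂ)) =
        ((e : ℂ) - 1) * (Nat.card W : ℂ) * D := by
      rw [← hcountC, hcard]
      push_cast
      field_simp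
      rw [hnC]; ring
    apply mul_left_cancel₀ hne
    rw [hcard]
    linear_combination -(q : ℂ) * h2
  have hDK : D = ((W ⊔ (P : Subgroup G)).index : ℂ) := by
    have hKG : (Nat.card G : ℂ) = ((W ⊔ (P : Subgroup G)).index : ℂ) *
        ((Nat.card W : ℂ) * (q : ℂ)) := by
      rw [← (W ⊔ (P : Subgroup G)).index_mul_card, T.card_K]; push_cast; rfl
    have hDnat : D = (charDegree (R.η ⟨0, by omega⟩ : G → ℂ) : ℂ) := irr_one_eq_charDegree _
    rw [hKG] at hmain
    have h1 : -(R.δ : ℂ) * ((W ⊔ (P : Subgroup G)).index : ℂ) = D :=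
      mul_right_cancel₀ (mul_ne_zero hW hqN) (by linear_combination hmain)
    have hneg : R.δ = -1 := by
      rcases R.sign with h | h
      · exfalso
        rw [h, hDnat] at h1
        have h2 : ((-((W ⊔ (P : Subgroup G)).index : ℤ) : ℤ) : ℂ) =
            ((charDegree (R.η ⟨0, by omega⟩ : G → ℂ) : ℤ) : ℂ) := by
          push_cast
          rw [← h1]; push_cast; ring
        have h3 := Int.cast_injective h2
        have := charDegree_pos (R.η ⟨0, by omega⟩)
        omega
      · exact h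
    rw [hneg] at h1
    rw [← h1]; simp
  -- the pair
  obtain ⟨A, Bc, hdegAB, hAne, hval⟩ := T.exists_pair ⟨y, hy, hy1⟩
  have hnot : ∀ i, R.η i ≠ A ∧ R.η i ≠ Bc := fun i => ⟨fun h => hAne (by rw [← h, hdeg, hDK]),
    fun h => hAne (by rw [hdegAB, ← h, hdeg, hDK])⟩
  have hsec := section_sum hM hab hO.mem hO.stab hC
    (fun χ => (if χ = A then (1 : ℂ) else 0) - if χ = Bc then (1 : ℂ) else 0)
  simp only [sub_mul, ite_mul, one_mul, zero_mul, Finset.sum_sub_distrib, Finset.sum_ite_eq',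
    Finset.mem_univ, if_true] at hsec
  rw [← Finset.sum_sub_distrib, Finset.sum_congr rfl (g := fun _ => (e : ℂ) + 1) fun (v : C) hv => hval v
    (Subgroup.mem_centralizer_singleton_iff.1 (hC.le v.2))
    (by rw [Subgroup.orderOf_coe]; exact (Finset.mem_filter.1 hv).2),
    Finset.sum_const, nsmul_eq_mul, ← hB] at hsec
  have hfinal := mul_left_cancel₀ regular_card_ne_zero hsec
  have hle : ∀ χ, (∀ i, R.η i ≠ χ) → ∃ t : ℤ, t * t ≤ e ∧
      (if χ ∈ B then (χ : G → ℂ) x else 0) = (t : ℂ) := by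
    intro χ hχ
    by_cases h : χ ∈ B
    · refine ⟨R.b χ, ?_, by rw [if_pos h, R.off χ ((hBmem χ).1 h) hχ x hxdvd]⟩
      rw [← R.norm]
      exact Finset.single_le_sum (f := fun χ => R.b χ * R.b χ) (fun χ _ => mul_self_nonneg _) h
    · exact ⟨0, by simp, by rw [if_neg h, Int.cast_zero]⟩
  obtain ⟨s, hs, hsA⟩ := hle A fun i => (hnot i).1
  obtain ⟨t, ht, htB⟩ := hle Bc fun i => (hnot i).2
  rw [hsA, htB] at hfinal
  have hz : ((e : ℤ) + 1) = s - t := by exact_mod_cast hfinal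
  nlinarith [mul_self_nonneg (s + t), show (3 : ℤ) ≤ (e : ℤ) by exact_mod_cast he3]

end Cfsg.Agent.RegularOrbit
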