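import Cfsg.Agent.Lib.Blocks.HomocyclicTwo
import Cfsg.Agent.S0205
import Mathlib.GroupTheory.Solvable

/-!
Brauer's theorem read as solvability.
-/

set_option autoImplicit false
set_option linter.style.haveILetI false
set_option linter.unusedSectionVars false

namespace Cfsg.Agent.RegularOrbit

open Cfsg

universe u

theorem solvable_of_small {A : Type u} [Group A] [Finite A]
    (h : Nat.card A = 1 ∨ Nat.card A = 3) : Group.IsSolvable A := by
  rcases h with h | h
  · exact Cfsg.Agent.S0205.result (by rw [h]; exact odd_one)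
  · exact Cfsg.Agent.S0205.result (by rw [h]; exact by decide)

theorem solvable_of_shape {G : Type u} [Group G] [Fintype G] {M : Ideal AlgInt} [M.IsPrime]
    (hM : IsPModular 2 M) (P : Sylow 2 G) (hS : Cfsg.Agent.Homocyclic.Shape (P : Subgroup G)) :
    Group.IsSolvable G := by
  classical
  haveI : Fact (Nat.Prime 2) := ⟨Nat.prime_two⟩
  obtain ⟨N, hNmem, hmax⟩ := Finset.exists_max_image
    (Finset.univ.filter fun N : Subgroup G => N.Normal ∧ Odd (Nat.card N)) (fun N => Nat.card N)
    ⟨⊥, Finset.mem_filter.2 ⟨Finset.mem_univ _, inferInstance, by simp⟩⟩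
  obtain ⟨hN, hNodd⟩ := (Finset.mem_filter.1 hNmem).2
  haveI := hN
  haveI : Fintype (G ⧸ N) := Fintype.ofFinite _
  set f := QuotientGroup.mk' N with hf
  have hsurj : Function.Surjective f := QuotientGroup.mk'_surjective N
  let S : Sylow 2 (G ⧸ N) := P.mapSurjective hsurj
  have hinj : ∀ a ∈ (P : Subgroup G), ∀ b ∈ (P : Subgroup G), f a = f b → a = b := by
    intro a ha b hb e
    have h := QuotientGroup.eq.1 e
    have hv := mul_mem (inv_mem ha) hb
    obtain ⟨k, hk⟩ := IsPGroup.iff_orderOf.1 P.isPGroup' ⟨a⁻¹ * b, hv⟩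
    rw [Subgroup.orderOf_mk] at hk
    rcases k with _ | k
    · exact inv_mul_eq_one.1 (orderOf_eq_one_iff.1 (by simpa using hk))
    · exact absurd (((dvd_pow_self 2 (Nat.succ_ne_zero k)).trans hk.symm.dvd).trans
        (Subgroup.orderOf_dvd_natCard N h)) (Nat.two_dvd_ne_zero.2 (Nat.odd_iff.1 hNodd))
  have hone : ∀ a ∈ (P : Subgroup G), f a = 1 → a = 1 := fun a ha e =>
    hinj a ha 1 (one_mem _) (by rw [e, map_one])
  have hmemS : ∀ v ∈ (S : Subgroup (G ⧸ N)), ∃ a ∈ (P : Subgroup G), f a = v := fun v hv => hv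
  have hSh : Cfsg.Agent.Homocyclic.Shape (S : Subgroup (G ⧸ N)) := by
    refine ⟨?_, ?_, ?_, ?_, ?_⟩
    · intro a ha b hb
      obtain ⟨a, ha', rfl⟩ := hmemS a ha
      obtain ⟨b, hb', rfl⟩ := hmemS b hb
      rw [← map_mul, ← map_mul, hS.comm a ha' b hb']
    · refine hS.large.trans (dvd_of_eq (Nat.card_congr (Equiv.ofBijective
        (fun a : (P : Subgroup G) => (⟨f a, a, a.2, rfl⟩ : (S : Subgroup (G ⧸ N)))) ⟨?_, ?_⟩)))
      · intro a b e
        exact Subtype.ext (hinj a a.2 b b.2 (congrArg Subtype.val e))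
      · rintro ⟨v, hv⟩
        obtain ⟨a, ha, rfl⟩ := hmemS v hv
        exact ⟨⟨a, ha⟩, rfl⟩
    · obtain ⟨a, ha, ha2⟩ := hS.not_elementary
      exact ⟨f a, ⟨a, ha, rfl⟩, fun e => ha2 (hone _ (mul_mem ha ha) (by rw [map_mul]; exact e))⟩
    · obtain ⟨a, ha, ha2, ha1⟩ := hS.invol
      exact ⟨f a, ⟨a, ha, rfl⟩, by rw [← map_mul, ha2, map_one], fun e => ha1 (hone a ha e)⟩
    · intro a ha b hb c hc d hd a2 b2 c2 d2 a1 b1 c1 d1 hab hac hbc
      obtain ⟨a, ha', rfl⟩ := hmemS a ha
      obtain ⟨b, hb', rfl⟩ := hmemS b hb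
      obtain ⟨c, hc', rfl⟩ := hmemS c hc
      obtain ⟨d, hd', rfl⟩ := hmemS d hd
      rw [← map_mul] at a2 b2 c2 d2
      rcases hS.three a ha' b hb' c hc' d hd' (hone _ (mul_mem ha' ha') a2) (hone _ (mul_mem hb' hb') b2)
        (hone _ (mul_mem hc' hc') c2) (hone _ (mul_mem hd' hd') d2)
        (fun e => a1 (by rw [e, map_one])) (fun e => b1 (by rw [e, map_one]))
        (fun e => c1 (by rw [e, map_one])) (fun e => d1 (by rw [e, map_one]))
        (fun e => hab (by rw [e])) (fun e => hac (by rw [e])) (fun e => hbc (by rw [e]))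
        with h | h | h <;> simp [h]
  obtain ⟨hSn, -, hidx⟩ := Cfsg.Agent.Homocyclic.main hM hSh (fun L hL hLodd => by
    have hc : (L.comap f).Normal := hL.comap f
    have hle : N ≤ L.comap f := fun n hn => by
      rw [Subgroup.mem_comap, show f n = 1 from (QuotientGroup.eq_one_iff n).2 hn]
      exact one_mem _
    have hcard : Nat.card (L.comap f) = Nat.card N * Nat.card L := by
      refine Nat.eq_of_mul_eq_mul_right (Nat.pos_of_ne_zero
        (Subgroup.index_ne_zero_of_finite (H := L))) ?_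
      rw [mul_assoc, Subgroup.card_mul_index, ← Subgroup.index_comap_of_surjective (f := f) _ hsurj,
        Subgroup.card_mul_index, ← Subgroup.card_mul_index N]
      rfl
    have h := hmax _ (Finset.mem_filter.2 ⟨Finset.mem_univ _, hc, hcard ▸ hNodd.mul hLodd⟩)
    simp only [hcard] at h
    exact Subgroup.card_eq_one.1 (le_antisymm
      (Nat.le_of_mul_le_mul_left (by rwa [mul_one]) Nat.card_pos) Nat.card_pos))
  haveI := hSn
  haveI : Group.IsSolvable N := Cfsg.Agent.S0205.result hNodd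
  haveI : Group.IsSolvable (S : Subgroup (G ⧸ N)) :=
    Group.isSolvable_of_comm fun a b => Subtype.ext (hSh.comm a a.2 b b.2)
  haveI : Group.IsSolvable ((G ⧸ N) ⧸ (S : Subgroup (G ⧸ N))) := solvable_of_small hidx
  haveI : Group.IsSolvable (G ⧸ N) := Group.isSolvable_of_ker_le_range
    (S : Subgroup (G ⧸ N)).subtype (QuotientGroup.mk' (S : Subgroup (G ⧸ N)))
    (by rw [QuotientGroup.ker_mk', Subgroup.range_subtype])
  exact Group.isSolvable_of_ker_le_range N.subtype (QuotientGroup.mk' N)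
    (by rw [QuotientGroup.ker_mk', Subgroup.range_subtype])

end Cfsg.Agent.RegularOrbit
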