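import Cfsg.Agent.Lib.Blocks.RegularOrbit.Free
import Cfsg.Agent.Lib.Blocks.RegularOrbit.Homocyclic
import Cfsg.Agent.Lib.Blocks.RegularOrbit.RankTwoSolvable

/-!
The principal 2-block when an inertial quotient of prime order acts without fixed points on an
abelian Sylow 2-subgroup.
-/

set_option autoImplicit false
set_option linter.style.haveILetI false
set_option linter.unusedSectionVars false

namespace Cfsg.Agent.RegularOrbit

open Cfsg Cfsg.Agent.Blocks Cfsg.Agent.Char Cfsg.Agent.BrauerPairs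

universe u

variable {G : Type u} [Group G] [Fintype G] {M : Ideal AlgInt} [M.IsPrime] {P : Sylow 2 G} {x : G}

set_option maxHeartbeats 1000000 in
/-- An elementary Sylow subgroup with transitive inertial quotient under a strongly embedded
frame. -/
theorem Setting.rank_eq (hM : IsPModular 2 M) {W : Subgroup G} (T : Setting P x W)
    (hsq : ∀ a ∈ (P : Subgroup G), a * a = 1) (he : (eIdx P).Prime)
    (hcard : Nat.card (P : Subgroup G) = eIdx P + 1) :
    Nat.card (principalBlock M G) = eIdx P + 1 := by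
  classical
  haveI : Fact (Nat.Prime 2) := ⟨Nat.prime_two⟩
  haveI := cC_normal (P := P)
  have hO := T.orbit
  set A := nN P ⧸ (cC P).subgroupOf (nN P) with hA
  have hAcard : Nat.card A = eIdx P := rfl
  letI : CommGroup A :=
    { (inferInstance : Group A) with mul_comm := comm_of_small (hAcard ▸ Or.inl he) }
  set K := W ⊔ (P : Subgroup G) with hK
  set H := nN P ⊔ W with hH
  obtain ⟨φ, hφN, hφK⟩ := exists_projection (P := P) (H := H) (K := K)
    (fun m hm k hk => T.frame.normK hm hk) (fun k hk => T.frame.K_inf_N hO.comm hk.1 hk.2)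
    (fun m hm => by
      obtain ⟨n, hn, hw⟩ := T.frame.mem_H hm
      exact ⟨n, hn, Subgroup.mem_sup_left hw⟩)
    le_sup_left
  have hsurj : Function.Surjective φ := by
    intro α
    obtain ⟨n, rfl⟩ := QuotientGroup.mk_surjective α
    exact ⟨⟨n, Subgroup.mem_sup_left n.2⟩, hφN _ n.2⟩
  have hker : ∀ v : H, Commute (v : G) x → φ v = 1 := fun v hv => hφK v (T.mem_K_of_commute hv)
  have hodd : ¬ 2 ∣ Nat.card A := eIdx_odd hO.comm
  set C := Subgroup.centralizer ({x} : Set G) with hC
  haveI : Fintype C := Fintype.ofFinite C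
  obtain ⟨-, hfac, N, hN, hNodd, hidx, hNreg⟩ := exists_complement hO.comm hO.mem hO.stab hC
  obtain ⟨d, hd0, hd2, hdne, hsum⟩ :=
    column hM hO.ord hC hfac N hNodd hidx P.card_eq_multiplicity hNreg
  have hroot : ∀ w : C, ¬ 2 ∣ orderOf w → ∀ t : G, t * t ≠ x * (w : G) := by
    intro w hw t ht
    obtain ⟨i, hi⟩ : Odd (Nat.card W) := Nat.odd_iff.2 (Nat.two_dvd_ne_zero.1 T.frame.odd)
    have hwW := (T.regular_iff hC w).1 hw
    have hcomm : Commute x (w : G) := (Subgroup.mem_centralizer_singleton_iff.1 w.2).symm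
    have hxw : (x * (w : G)) ^ Nat.card W = x := by
      rw [hcomm.mul_pow, hi, pow_succ, pow_mul, pow_two, T.x_sq, one_pow, one_mul, ← hi,
        show (w : G) ^ Nat.card W = 1 from
          congrArg Subtype.val (pow_card_eq_one' (G := W) (x := ⟨_, hwW⟩)), mul_one]
    have htK : t ∈ K := T.mem_K_of_commute (by
      rw [← hxw, ← ht]
      exact (((Commute.refl t).mul_right (Commute.refl t)).pow_right _))
    have hxwK : x * (w : G) ∈ K :=
      mul_mem (Subgroup.mem_sup_right hO.mem) (Subgroup.mem_sup_left hwW)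
    have h1 : (T.π ⟨x * (w : G), hxwK⟩ : G) = x := T.π_eq hO.mem (by simpa using hwW)
    have h2 : T.π ⟨x * (w : G), hxwK⟩ = T.π ⟨t, htK⟩ * T.π ⟨t, htK⟩ := by
      rw [← map_mul]; exact congrArg T.π (Subtype.ext ht.symm)
    rw [h2, Subgroup.coe_mul, hsq _ (T.π ⟨t, htK⟩).2] at h1
    exact T.x_ne h1.symm
  have hnu := indicator_sum N hsum hroot
  have hregC : (Finset.univ.filter fun v : C => ¬ 2 ∣ orderOf v).card = Nat.card N := by
    rw [Nat.card_eq_fintype_card, Fintype.card_subtype]
    exact congrArg Finset.card (Finset.filter_congr fun v _ => hNreg v)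
  have hHodd : Odd H.index := by
    rw [Nat.odd_iff, ← Nat.two_dvd_ne_zero]
    exact fun h => P.not_dvd_index (h.trans
      (Subgroup.index_dvd_of_le ((Subgroup.le_normalizer).trans le_sup_left)))
  rw [regular_count hO.ord hC N hregC hd0 (by rw [hd2, hAcard, hcard]) hdne hsum hnu T.embedded
    (Subgroup.mem_sup_left (Subgroup.le_normalizer hO.mem)) hHodd hker hsurj hodd, hAcard]

set_option maxHeartbeats 1000000 in
/-- A frame spanning the group: the rank and solvability. -/
theorem frame_top (hM : IsPModular 2 M) (hO : Orbit P x)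
    (hab : ∀ a ∈ (P : Subgroup G), ∀ b ∈ (P : Subgroup G), a * b = b * a) {W : Subgroup G}
    (hF : Frame P W) (htop : nN P ⊔ W = ⊤) (he : (eIdx P).Prime) :
    eIdx P ≤ blockRank 2 (principalBlock M G) ∧ Group.IsSolvable G := by
  classical
  haveI : Fact (Nat.Prime 2) := ⟨Nat.prime_two⟩
  haveI := cC_normal (P := P)
  set A := nN P ⧸ (cC P).subgroupOf (nN P) with hA
  have hAcard : Nat.card A = eIdx P := rfl
  letI : CommGroup A :=
    { (inferInstance : Group A) with mul_comm := comm_of_small (hAcard ▸ Or.inl he) }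
  have hx1 : x ≠ 1 := fun e => by
    have := hO.ord
    rw [e, orderOf_one] at this
    omega
  set K := W ⊔ (P : Subgroup G) with hK
  obtain ⟨φ, hφN, hφK⟩ := exists_projection (P := P) (H := nN P ⊔ W) (K := K)
    (fun m hm k hk => hF.normK hm hk) (fun k hk => hF.K_inf_N hab hk.1 hk.2)
    (fun m hm => by
      obtain ⟨n, hn, hw⟩ := hF.mem_H hm
      exact ⟨n, hn, Subgroup.mem_sup_left hw⟩)
    le_sup_left
  let toH : G →* ↥(nN P ⊔ W) :=
    MonoidHom.mk' (fun g => ⟨g, htop ▸ Subgroup.mem_top g⟩) fun _ _ => rfl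
  let ψ : G →* A := φ.comp toH
  have hψK : ∀ g ∈ K, ψ g = 1 := fun g hg => hφK (toH g) hg
  constructor
  · set C := Subgroup.centralizer ({x} : Set G) with hC
    haveI : Fintype C := Fintype.ofFinite C
    obtain ⟨-, hfac, N, hN, hNodd, hidx, hNreg⟩ := exists_complement hab hO.mem hO.stab hC
    obtain ⟨d, hd0, hd2, hdne, hsum⟩ :=
      column hM hO.ord hC hfac N hNodd hidx P.card_eq_multiplicity hNreg
    rw [← hAcard]
    exact linear_rank hC N hsum (φ := ψ)
      (fun g hg => hψK g (hF.cent x hO.mem hx1 g hg))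
      (fun α => by
        obtain ⟨n, rfl⟩ := QuotientGroup.mk_surjective α
        exact ⟨n, hφN (toH n) n.2⟩) (eIdx_odd hab)
  · have hker : ψ.ker ≤ K := by
      intro g hg
      obtain ⟨n, hn, hw⟩ := hF.mem_H (m := g) (htop ▸ Subgroup.mem_top g)
      have h1 : ψ n = 1 := by
        have e : g = n * (n⁻¹ * g) := by group
        rw [MonoidHom.mem_ker, e, map_mul, hψK _ (Subgroup.mem_sup_left hw), mul_one] at hg
        exact hg
      have hnC : n ∈ cC P := by
        have h2 : φ (toH n) = QuotientGroup.mk ⟨n, hn⟩ := hφN (toH n) hn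
        exact Subgroup.mem_subgroupOf.1 ((QuotientGroup.eq_one_iff _).1 (h2.symm.trans h1))
      have := mul_mem (hF.cC_le_K hO.mem hx1 hnC) (Subgroup.mem_sup_left hw)
      rwa [mul_inv_cancel_left] at this
    obtain ⟨π, hπ⟩ := hF.exists_proj hab
    haveI : Group.IsSolvable W :=
      Cfsg.Agent.S0205.result (Nat.odd_iff.2 (Nat.two_dvd_ne_zero.1 hF.odd))
    haveI : Group.IsSolvable ↥(P : Subgroup G) :=
      Group.isSolvable_of_comm fun a b => Subtype.ext (hab a a.2 b b.2)
    haveI : Group.IsSolvable K := Group.isSolvable_of_ker_le_range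
      (Subgroup.inclusion (le_sup_left : W ≤ K)) π (fun k hk => by
        have h := hπ k
        rw [MonoidHom.mem_ker] at hk
        rw [hk, OneMemClass.coe_one, inv_one, one_mul] at h
        exact ⟨⟨k, h⟩, Subtype.ext rfl⟩)
    haveI : Group.IsSolvable A := Group.isSolvable_of_comm mul_comm
    exact Group.isSolvable_of_ker_le_range K.subtype ψ (by rw [Subgroup.range_subtype]; exact hker)

set_option maxHeartbeats 1000000 in
/-- The free case. -/
theorem free_prime (hM : IsPModular 2 M) (hO : Orbit P x)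
    (hfree : ∀ n ∈ nN P, ∀ u ∈ (P : Subgroup G), u ≠ 1 → n * u * n⁻¹ = u → n ∈ cC P)
    (he : (eIdx P).Prime) :
    blockRank 2 (principalBlock M G) = eIdx P ∧
      (¬ Group.IsSolvable G → Nat.card (P : Subgroup G) = eIdx P + 1) := by
  classical
  haveI : Fact (Nat.Prime 2) := ⟨Nat.prime_two⟩
  haveI : Fintype (cC P) := Fintype.ofFinite _
  have hab := hO.comm
  have hx1 : x ≠ 1 := fun e => by
    have := hO.ord
    rw [e, orderOf_one] at this
    omega
  have hx2 : x * x = 1 := by rw [← pow_two, ← hO.ord, pow_orderOf_eq_one]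
  have hP1 : (P : Subgroup G) ≠ ⊥ := fun e => hx1 (by
    have := hO.mem
    rwa [e, Subgroup.mem_bot] at this)
  have hstabP : stabP ((P : Subgroup G), zB M (cC P) (principalBlock M (cC P))) = nN P :=
    Subgroup.ext (mem_stab_principal hM)
  obtain ⟨m, hm, -, hk, hl, hl3⟩ := Abelian.abelian_free_counts hM (principal_defect (P := P) hM)
    hP1 (le_cC hab) (principal_induced hM hab)
    (fun g hg u hu hu1 h => hfree g ((mem_stab_principal hM g).1 hg) u hu hu1 h) (e := eIdx P)
    (congrArg (cC P).relIndex hstabP)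
  have he2 := he.two_le
  have hodd := eIdx_odd (P := P) hab
  set Ω := omegaOne P hab with hΩ
  have hΩP : Ω ≤ (P : Subgroup G) := fun v hv => hv.1
  have horb : {v : G | ∃ n ∈ nN P, n * x * n⁻¹ = v} ⊆ {v : G | v ∈ Ω ∧ v ≠ 1} := by
    rintro v ⟨n, hn, rfl⟩
    exact ⟨⟨mem_P_of_conj hn hO.mem, by
      rw [show n * x * n⁻¹ * (n * x * n⁻¹) = n * (x * x) * n⁻¹ by group, hx2]; group⟩,
      fun e => hx1 (conj_eq_one_iff.1 e)⟩
  have hΩ1 : Nat.card {v : G | v ∈ Ω ∧ v ≠ 1} + 1 = Nat.card Ω := by
    rw [Nat.card_eq_fintype_card, Fintype.card_subtype, Nat.card_eq_fintype_card,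
      Fintype.card_subtype]
    simp only [Set.mem_setOf_eq]
    have e : (Finset.univ.filter fun v : G => v ∈ Ω ∧ v ≠ 1) =
        (Finset.univ.filter fun v : G => v ∈ Ω).erase 1 := by
      ext v; simp [and_comm]
    rw [e, Finset.card_erase_add_one (by simp [one_mem])]
  have hge : eIdx P + 1 ≤ Nat.card Ω := by
    have h := Nat.card_mono (Set.toFinite _) horb
    rw [show Nat.card {v : G | ∃ n ∈ nN P, n * x * n⁻¹ = v} = eIdx P from
      card_orbit hO.mem hO.stab] at h
    omega
  obtain ⟨j, hj⟩ := IsPGroup.iff_card.1 (P.isPGroup'.to_le hΩP)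
  by_cases h8 : 8 ≤ Nat.card Ω
  · obtain ⟨W, hF⟩ := exists_frame hab hfree h8
    by_cases htop : nN P ⊔ W = ⊤
    · obtain ⟨h1, h2⟩ := frame_top hM hO hab hF htop he
      exact ⟨le_antisymm hl h1, fun h => absurd h2 h⟩
    have hse := hF.embedded htop
    have htrans : ∀ u ∈ (P : Subgroup G), u * u = 1 → u ≠ 1 → ∃ n ∈ nN P, n * x * n⁻¹ = u :=
      fun u hu hu2 hu1 => fusion hab hO.mem hu (Invol.se_isConj hse hO.ord
        (orderOf_eq_prime (by rw [pow_two]; exact hu2) hu1))
    have hΩcard : Nat.card Ω = eIdx P + 1 := by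
      have h := Nat.card_mono (Set.toFinite _)
        (show {v : G | v ∈ Ω ∧ v ≠ 1} ⊆ {v : G | ∃ n ∈ nN P, n * x * n⁻¹ = v} from
          fun v hv => htrans v hv.1.1 hv.1.2 hv.2)
      rw [show Nat.card {v : G | ∃ n ∈ nN P, n * x * n⁻¹ = v} = eIdx P from
        card_orbit hO.mem hO.stab] at h
      omega
    obtain ⟨π, hπ⟩ := hF.exists_proj hab
    let T : Setting P x W := ⟨hO, hfree, hF, hse, htop, htrans, π, hπ⟩
    have hsq := T.elementary hM (by
      have := hΩcard ▸ h8
      omega) (r := j) (hΩcard ▸ hj)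
    have hPΩ : (P : Subgroup G) = Ω := le_antisymm (fun v hv => ⟨hv, hsq v hv⟩) hΩP
    have hq : Nat.card (P : Subgroup G) = eIdx P + 1 := by rw [hPΩ]; exact hΩcard
    have hk' := T.rank_eq hM hsq he hq
    have hm1 : m = 1 := by
      have h1 : m * eIdx P = 1 * eIdx P := by omega
      exact Nat.eq_of_mul_eq_mul_right he.pos h1
    exact ⟨by omega, fun _ => hq⟩
  · have hj4 : Nat.card Ω = 4 := by
      rcases j with _ | _ | _ | j
      · rw [hj, pow_zero] at hge; omega
      · rw [hj, pow_one] at hge; omega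
      · rw [hj]; rfl
      · refine absurd ?_ h8
        rw [hj]
        exact Nat.pow_le_pow_right (show 1 ≤ 2 by norm_num) (show 3 ≤ j + 1 + 1 + 1 by omega)
    have he3 : eIdx P = 3 := by
      have : eIdx P ≤ 3 := by omega
      omega
    refine ⟨hl3 he3.le, fun hns => ?_⟩
    by_cases hsq : ∀ y ∈ (P : Subgroup G), y * y = 1
    · rw [le_antisymm (fun v hv => ⟨hv, hsq v hv⟩ : (P : Subgroup G) ≤ Ω) hΩP, hj4, he3]
    push Not at hsq
    refine absurd (solvable_of_shape hM P ⟨hab, ?_, hsq, ⟨x, hO.mem, hx2, hx1⟩, ?_⟩) hns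
    · obtain ⟨k, hk'⟩ := IsPGroup.iff_card.1 P.isPGroup'
      obtain ⟨y, hy, hy1⟩ := hsq
      have hlt : Ω < (P : Subgroup G) := lt_of_le_of_ne hΩP fun e => hy1 (e.symm ▸ hy : y ∈ Ω).2
      have h4 : 4 < Nat.card (P : Subgroup G) := by
        by_contra h
        exact hlt.ne (Subgroup.eq_of_le_of_card_ge hΩP (by omega))
      rw [hk'] at hm h4 ⊢
      rcases k with _ | _ | _ | _ | k
      · simp at h4
      · simp at h4
      · simp at h4
      · rw [he3] at hm; norm_num at hm; omega
      · exact Dvd.intro_left (2 ^ k) (by ring)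
    · intro a ha b hb c hc d hd a2 b2 c2 d2 a1 b1 c1 d1 hab' hac hbc
      by_contra hcon
      push Not at hcon
      obtain ⟨h1, h2, h3⟩ := hcon
      have hsub : ({1, a, b, c, d} : Finset G) ⊆ Finset.univ.filter fun v : G => v ∈ Ω := by
        intro v hv
        simp only [Finset.mem_insert, Finset.mem_singleton] at hv
        refine Finset.mem_filter.2 ⟨Finset.mem_univ _, ?_⟩
        rcases hv with rfl | rfl | rfl | rfl | rfl
        · exact one_mem _
        · exact ⟨ha, a2⟩
        · exact ⟨hb, b2⟩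
        · exact ⟨hc, c2⟩
        · exact ⟨hd, d2⟩
      have h5 := Finset.card_le_card hsub
      rw [← Fintype.card_subtype, ← Nat.card_eq_fintype_card] at h5
      rw [Finset.card_insert_of_notMem (by simp [Ne.symm a1, Ne.symm b1, Ne.symm c1, Ne.symm d1]),
        Finset.card_insert_of_notMem (by simp [hab', hac, Ne.symm h1]),
        Finset.card_insert_of_notMem (by simp [hbc, Ne.symm h2]),
        Finset.card_insert_of_notMem (by simp [Ne.symm h3]), Finset.card_singleton] at h5
      omega

end Cfsg.Agent.RegularOrbit
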