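import Cfsg.Agent.Lib.Blocks.RegularOrbit.Column
import Cfsg.Agent.Lib.Char.FrobeniusSchur

/-!
The weighted indicator sum of the principal block at an involution without roots in its section.
-/

set_option autoImplicit false
set_option linter.style.haveILetI false
set_option linter.unusedSectionVars false

namespace Cfsg.Agent.RegularOrbit

open Cfsg Cfsg.Agent.Blocks Cfsg.Agent.Char
open scoped ComplexConjugate

universe u

variable {G : Type u} [Group G] [Fintype G] {M : Ideal AlgInt} [M.IsPrime]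

/-- The conjugate of the indicator. -/
noncomputable def nu (χ : IrrCharacter G) : ℂ :=
  (Nat.card G : ℂ)⁻¹ * ∑ t : G, conj ((χ : G → ℂ) (t * t))

theorem nu_eq_conj (χ : IrrCharacter G) :
    nu χ = conj ((Nat.card G : ℂ)⁻¹ * ∑ t : G, (χ : G → ℂ) (t * t)) := by
  simp [nu]

/-- The indicator is an integer of absolute value at most one, equal to one for a real character of
odd degree and zero for a character that is not real. -/
theorem exists_nu (χ : IrrCharacter G) :
    ∃ n : ℤ, nu χ = (n : ℂ) ∧ -1 ≤ n ∧ n ≤ 1 ∧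
      ((∀ g, conj ((χ : G → ℂ) g) = (χ : G → ℂ) g) →
        (∀ m : ℕ, (χ : G → ℂ) 1 = m → Odd m) → n = 1) ∧
      (¬ (∀ g, conj ((χ : G → ℂ) g) = (χ : G → ℂ) g) → n = 0) := by
  rcases FSchur.irr_indicator χ with ⟨hr, h⟩ | ⟨hr, h | ⟨h, m, hm, hχ⟩⟩
  · exact ⟨0, by rw [nu_eq_conj, h]; simp, by norm_num, by norm_num,
      fun h' => absurd h' hr, fun _ => rfl⟩
  · exact ⟨1, by rw [nu_eq_conj, h]; simp, by norm_num, by norm_num, fun _ _ => rfl,
      fun h' => absurd hr h'⟩
  · exact ⟨-1, by rw [nu_eq_conj, h]; simp, by norm_num, by norm_num,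
      fun _ h' => absurd (h' m hχ) (Nat.not_odd_iff_even.2 hm), fun h' => absurd hr h'⟩

theorem indicator_sum {x : G} {C : Subgroup G} [Fintype C] (N : Subgroup C)
    [DecidablePred (· ∈ principalBlock M G)] {d : IrrCharacter G → ℤ}
    (hsum : ∀ χ : IrrCharacter G,
      ∑ w ∈ Finset.univ.filter (fun w : C => ¬ 2 ∣ orderOf w), (χ : G → ℂ) (x * (w : G)) =
        if χ ∈ principalBlock M G then (Nat.card N : ℂ) * (d χ : ℂ) else 0)
    (hroot : ∀ w : C, ¬ 2 ∣ orderOf w → ∀ t : G, t * t ≠ x * (w : G)) :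
    ∑ χ ∈ Finset.univ.filter (· ∈ principalBlock M G), nu χ * (d χ : ℂ) = 0 := by
  classical
  set f : G → ℂ := fun g => ((Finset.univ.filter fun t : G => t * t = g).card : ℂ) with hf
  have hfc : IsClassFunction G f := by
    intro g h
    simp only [hf]
    congr 1
    refine Finset.card_bij (fun t _ => h⁻¹ * t * h) (fun t ht => ?_) (fun a _ b _ e => ?_)
      (fun t ht => ?_)
    · simp only [Finset.mem_filter, Finset.mem_univ, true_and] at ht ⊢
      rw [show h⁻¹ * t * h * (h⁻¹ * t * h) = h⁻¹ * (t * t) * h by group, ht]; group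
    · exact mul_left_cancel (mul_right_cancel e)
    · simp only [Finset.mem_filter, Finset.mem_univ, true_and] at ht
      refine ⟨h * t * h⁻¹, ?_, by group⟩
      simp only [Finset.mem_filter, Finset.mem_univ, true_and]
      rw [show h * t * h⁻¹ * (h * t * h⁻¹) = h * (t * t) * h⁻¹ by group, ht]
  have hinner : ∀ χ : IrrCharacter G, classInner f (χ : G → ℂ) = nu χ := by
    intro χ
    simp only [classInner, nu, hf]
    congr 1
    rw [← Finset.sum_fiberwise (Finset.univ : Finset G) (fun t => t * t)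
      (fun t => conj ((χ : G → ℂ) (t * t)))]
    refine Finset.sum_congr rfl fun g _ => ?_
    rw [Finset.sum_congr rfl fun t ht => by rw [(Finset.mem_filter.1 ht).2],
      Finset.sum_const, nsmul_eq_mul]
  have h0 : ∑ w ∈ Finset.univ.filter (fun w : C => ¬ 2 ∣ orderOf w), f (x * (w : G)) = 0 := by
    refine Finset.sum_eq_zero fun w hw => ?_
    simp only [hf, Nat.cast_eq_zero, Finset.card_eq_zero, Finset.filter_eq_empty_iff]
    exact fun t _ => hroot w (Finset.mem_filter.1 hw).2 t
  rw [classFunction_eq_sum hfc] at h0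
  simp only [Finset.sum_apply, Pi.smul_apply, smul_eq_mul, hinner] at h0
  rw [Finset.sum_comm, Finset.sum_congr rfl fun χ _ => by rw [← Finset.mul_sum, hsum χ]] at h0
  simp only [mul_ite, mul_zero] at h0
  rw [← Finset.sum_filter, Finset.sum_congr rfl
    (g := fun χ => (Nat.card N : ℂ) * (nu χ * (d χ : ℂ))) fun χ _ => by ring, ← Finset.mul_sum] at h0
  exact (mul_eq_zero.1 h0).resolve_left (Nat.cast_ne_zero.2 Nat.card_pos.ne')

end Cfsg.Agent.RegularOrbit
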