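import Cfsg.Agent.Lib.Blocks.RegularOrbit.Setting
import Cfsg.Agent.Lib.Char.Induction
import Cfsg.Agent.Lib.Star.Abelian.Gram

/-!
Two characters induced from the projection onto the Sylow subgroup.
-/

set_option autoImplicit false
set_option linter.style.haveILetI false
set_option linter.unusedSectionVars false

namespace Cfsg.Agent.RegularOrbit

open Cfsg Cfsg.Agent.Char
open scoped ComplexConjugate

universe u

variable {G : Type u} [Group G] [Fintype G] {P : Sylow 2 G} {x : G} {W : Subgroup G}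

namespace Setting

variable (T : Setting P x W)

/-- A linear character of the Sylow subgroup read on the small subgroup. -/
def lift (μ : ↥(P : Subgroup G) →* ℂˣ) : ↥(W ⊔ (P : Subgroup G)) → ℂ :=
  fun k => (μ (T.π k) : ℂ)

/-- The part of an inner product at one element. -/
noncomputable def term [Fintype ↥(W ⊔ (P : Subgroup G))] (μ μ' : ↥(P : Subgroup G) →* ℂˣ) (g : G) : ℂ :=
  ∑ h : ↥(W ⊔ (P : Subgroup G)),
    extendByZero (W ⊔ (P : Subgroup G)) (T.lift μ) (g⁻¹ * (h : G) * g) * conj (T.lift μ' h)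

variable [Fintype ↥(W ⊔ (P : Subgroup G))]

theorem inner_lift (μ μ' : ↥(P : Subgroup G) →* ℂˣ) :
    classInner (indFun (W ⊔ (P : Subgroup G)) (T.lift μ))
      (indFun (W ⊔ (P : Subgroup G)) (T.lift μ')) =
      ((Nat.card ↥(W ⊔ (P : Subgroup G)) : ℂ))⁻¹ * (Nat.card ↥(W ⊔ (P : Subgroup G)) : ℂ)⁻¹ *
        ∑ g : G, T.term μ μ' g := by
  classical
  rw [classInner_indFun_right _ _ (isClassFunction_indFun _ _)]
  simp only [classInner, indFun_apply, term, Finset.mul_sum, Finset.sum_mul]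
  rw [Finset.sum_comm]
  exact Finset.sum_congr rfl fun g _ => Finset.sum_congr rfl fun h _ => by ring

theorem term_outside (μ μ' : ↥(P : Subgroup G) →* ℂˣ) {g : G} (hg : g ∉ nN P ⊔ W) :
    T.term μ μ' g = T.term 1 1 g := by
  refine Finset.sum_congr rfl fun h _ => ?_
  by_cases hk : g⁻¹ * (h : G) * g ∈ W ⊔ (P : Subgroup G)
  · have hodd : ¬ 2 ∣ orderOf (h : G) := fun h2 =>
      hg (T.mem_of_singular (T.frame.K_le_H h.2) h2 (T.frame.K_le_H hk))
    have hodd' : ¬ 2 ∣ orderOf (⟨g⁻¹ * (h : G) * g, hk⟩ : ↥(W ⊔ (P : Subgroup G))) := by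
      rwa [Subgroup.orderOf_mk, show g⁻¹ * (h : G) * g = g⁻¹ * (h : G) * g⁻¹⁻¹ by group,
        Invol.order_conj]
    have hodd'' : ¬ 2 ∣ orderOf h := by rwa [← Subgroup.orderOf_coe]
    rw [extendByZero_mem _ _ hk, extendByZero_mem _ _ hk]
    simp only [lift, T.π_of_odd hodd', T.π_of_odd hodd'', map_one]
  · rw [extendByZero_not_mem _ _ hk, extendByZero_not_mem _ _ hk, zero_mul, zero_mul]

/-- The twisted character. -/
noncomputable def twisted (μ : ↥(P : Subgroup G) →* ℂˣ) (g : G) :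
    ↥(W ⊔ (P : Subgroup G)) → ℂ :=
  fun h => extendByZero (W ⊔ (P : Subgroup G)) (T.lift μ) (g⁻¹ * (h : G) * g)

theorem term_inside (μ μ' : ↥(P : Subgroup G) →* ℂˣ) {g : G} (hg : g ∈ nN P ⊔ W) :
    T.term μ μ' g = if (∀ h, T.twisted μ g h = T.lift μ' h) then
      (Nat.card ↥(W ⊔ (P : Subgroup G)) : ℂ) else 0 := by
  classical
  have hk : ∀ h : ↥(W ⊔ (P : Subgroup G)), g⁻¹ * (h : G) * g ∈ W ⊔ (P : Subgroup G) := fun h => by
    have := T.frame.normK (inv_mem hg) h.2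
    rwa [inv_inv] at this
  let c : ↥(W ⊔ (P : Subgroup G)) →* ↥(W ⊔ (P : Subgroup G)) :=
    MonoidHom.mk' (fun h => ⟨_, hk h⟩) fun a b => Subtype.ext (by
      show g⁻¹ * ((a : G) * b) * g = g⁻¹ * (a : G) * g * (g⁻¹ * (b : G) * g)
      group)
  let f : ↥(W ⊔ (P : Subgroup G)) →* ℂˣ := μ.comp (T.π.comp c)
  let f' : ↥(W ⊔ (P : Subgroup G)) →* ℂˣ := μ'.comp T.π
  have hf : T.twisted μ g = fun h => (f h : ℂ) := by
    funext h
    simp only [twisted, extendByZero_mem _ _ (hk h)]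
    rfl
  have hinner : ((Nat.card ↥(W ⊔ (P : Subgroup G)) : ℂ))⁻¹ * T.term μ μ' g =
      if (∀ h, T.twisted μ g h = T.lift μ' h) then 1 else 0 := by
    have h := classInner_irr (isIrrCharacter_linear f) (isIrrCharacter_linear f')
    rw [← hf] at h
    simp only [funext_iff] at h
    exact h
  have hK0 : (Nat.card ↥(W ⊔ (P : Subgroup G)) : ℂ) ≠ 0 := Nat.cast_ne_zero.2 Nat.card_pos.ne'
  rw [inv_mul_eq_iff_eq_mul₀ hK0] at hinner
  rw [hinner]
  split_ifs <;> simp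

theorem twisted_self {μ : ↥(P : Subgroup G) →* ℂˣ} (hμ : μ ≠ 1) {g : G} (hg : g ∈ nN P ⊔ W) :
    (∀ h, T.twisted μ g h = T.lift μ h) ↔ g ∈ W ⊔ (P : Subgroup G) := by
  classical
  constructor
  · intro hall
    obtain ⟨n, hn, hw, htw⟩ := T.exists_twist hg
    by_contra hgK
    have hnC : n ∉ cC P := fun h => hgK (by
      have := mul_mem (T.frame.cC_le_K T.orbit.mem T.x_ne h) (Subgroup.mem_sup_left hw)
      rwa [mul_inv_cancel_left] at this)
    let τ : ↥(P : Subgroup G) → ↥(P : Subgroup G) := fun v =>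
      ⟨n⁻¹ * v * n * (v : G)⁻¹, mul_mem (by
        have := mem_P_of_conj (inv_mem hn) v.2
        rwa [inv_inv] at this) (inv_mem v.2)⟩
    have hτ : Function.Injective τ := by
      intro v w e
      have e' : n⁻¹ * (v : G) * n * (v : G)⁻¹ = n⁻¹ * w * n * (w : G)⁻¹ := congrArg Subtype.val e
      by_contra hvw
      have h := T.free n⁻¹ (inv_mem hn) ((w : G)⁻¹ * v) (mul_mem (inv_mem w.2) v.2)
        (fun h1 => hvw (Subtype.ext (inv_mul_eq_one.1 h1).symm)) (by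
        calc n⁻¹ * ((w : G)⁻¹ * v) * n⁻¹⁻¹
            = (n⁻¹ * w * n)⁻¹ * (n⁻¹ * v * n * (v : G)⁻¹ * v) := by group
          _ = (w : G)⁻¹ * v := by rw [e']; group)
      exact hnC (inv_inv n ▸ inv_mem h)
    refine hμ (MonoidHom.ext fun v => ?_)
    obtain ⟨w, rfl⟩ := (Finite.injective_iff_surjective.1 hτ) v
    have hwK : (w : G) ∈ W ⊔ (P : Subgroup G) := Subgroup.mem_sup_right w.2
    have h := hall ⟨w, hwK⟩
    have hk : g⁻¹ * (w : G) * g ∈ W ⊔ (P : Subgroup G) := by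
      have := T.frame.normK (inv_mem hg) hwK
      rwa [inv_inv] at this
    simp only [twisted, extendByZero_mem _ _ hk, lift] at h
    have e : T.π ⟨w, hwK⟩ = w := Subtype.ext (T.π_of_mem w.2 hwK)
    have e2 : T.π ⟨g⁻¹ * (w : G) * g, hk⟩ = τ w * w := Subtype.ext (by
      rw [htw ⟨w, hwK⟩ hk, e]
      show n⁻¹ * (w : G) * n = n⁻¹ * (w : G) * n * (w : G)⁻¹ * w
      group)
    rw [e, e2, map_mul, Units.val_mul, mul_eq_right₀ (Units.ne_zero _), Units.val_eq_one] at h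
    rw [h, MonoidHom.one_apply]
  · intro hgK h
    have hk : g⁻¹ * (h : G) * g ∈ W ⊔ (P : Subgroup G) := mul_mem (mul_mem (inv_mem hgK) h.2) hgK
    simp only [twisted, extendByZero_mem _ _ hk, lift]
    have e : (⟨g⁻¹ * (h : G) * g, hk⟩ : ↥(W ⊔ (P : Subgroup G))) = ⟨g, hgK⟩⁻¹ * h * ⟨g, hgK⟩ := rfl
    rw [e]
    simp only [map_mul, map_inv]
    rw [mul_comm (μ (T.π ⟨g, hgK⟩))⁻¹ (μ (T.π h)), inv_mul_cancel_right]

theorem twisted_ne {μ μ' : ↥(P : Subgroup G) →* ℂˣ}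
    (hμ : ∀ v : ↥(P : Subgroup G), v * v = 1 → μ v = 1) (hμ' : μ' ⟨x, T.orbit.mem⟩ ≠ 1) {g : G}
    (hg : g ∈ nN P ⊔ W) :
    (¬ ∀ h, T.twisted μ g h = T.lift μ' h) ∧ (¬ ∀ h, T.twisted μ' g h = T.lift μ h) := by
  have hxK : x ∈ W ⊔ (P : Subgroup G) := Subgroup.mem_sup_right T.orbit.mem
  have ex : T.π ⟨x, hxK⟩ = ⟨x, T.orbit.mem⟩ := Subtype.ext (T.π_of_mem T.orbit.mem hxK)
  have hsq : ∀ {k : ↥(W ⊔ (P : Subgroup G))}, k * k = 1 → T.π k * T.π k = 1 := fun h => by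
    rw [← map_mul, h, map_one]
  constructor
  · intro hall
    have hk : g⁻¹ * x * g ∈ W ⊔ (P : Subgroup G) := by
      have := T.frame.normK (inv_mem hg) hxK
      rwa [inv_inv] at this
    have h := hall ⟨x, hxK⟩
    simp only [twisted, extendByZero_mem _ _ hk, lift, ex] at h
    have h1 : (⟨g⁻¹ * x * g, hk⟩ : ↥(W ⊔ (P : Subgroup G))) * ⟨g⁻¹ * x * g, hk⟩ = 1 := by
      apply Subtype.ext
      show g⁻¹ * x * g * (g⁻¹ * x * g) = 1
      rw [show g⁻¹ * x * g * (g⁻¹ * x * g) = g⁻¹ * (x * x) * g by group, T.x_sq]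
      group
    rw [hμ _ (hsq h1), Units.val_one] at h
    exact hμ' (Units.ext h.symm)
  · intro hall
    have hk' : g * x * g⁻¹ ∈ W ⊔ (P : Subgroup G) := T.frame.normK hg hxK
    have hk : g⁻¹ * (g * x * g⁻¹) * g ∈ W ⊔ (P : Subgroup G) := by
      rw [show g⁻¹ * (g * x * g⁻¹) * g = x by group]; exact hxK
    have h := hall ⟨_, hk'⟩
    simp only [twisted, extendByZero_mem _ _ hk, lift] at h
    have e : (⟨g⁻¹ * (g * x * g⁻¹) * g, hk⟩ : ↥(W ⊔ (P : Subgroup G))) = ⟨x, hxK⟩ :=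
      Subtype.ext (show g⁻¹ * (g * x * g⁻¹) * g = x by group)
    have h1 : (⟨_, hk'⟩ : ↥(W ⊔ (P : Subgroup G))) * ⟨_, hk'⟩ = 1 := by
      apply Subtype.ext
      show g * x * g⁻¹ * (g * x * g⁻¹) = 1
      rw [show g * x * g⁻¹ * (g * x * g⁻¹) = g * (x * x) * g⁻¹ by group, T.x_sq]
      group
    rw [e, ex, hμ _ (hsq h1), Units.val_one] at h
    exact hμ' (Units.ext h)

/-- The sum of a function of the projected conjugates of the involution. -/
theorem sum_orbit [DecidableEq G] (f : ↥(P : Subgroup G) → ℂ) (F : G → ℂ)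
    (hF : ∀ y, ∀ hy : y ∈ nN P ⊔ W, ∀ hk : y⁻¹ * x * y ∈ W ⊔ (P : Subgroup G),
      F y = f (T.π ⟨_, hk⟩)) [DecidablePred (· ∈ nN P ⊔ W)] :
    ∑ y ∈ Finset.univ.filter (· ∈ nN P ⊔ W), F y =
      (Nat.card ↥(W ⊔ (P : Subgroup G)) : ℂ) *
        ∑ u ∈ Finset.univ.filter (fun u : ↥(P : Subgroup G) => u * u = 1 ∧ u ≠ 1), f u := by
  classical
  have hxK : x ∈ W ⊔ (P : Subgroup G) := Subgroup.mem_sup_right T.orbit.mem
  have hk : ∀ y, y ∈ nN P ⊔ W → y⁻¹ * x * y ∈ W ⊔ (P : Subgroup G) := fun y hy => by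
    have := T.frame.normK (inv_mem hy) hxK
    rwa [inv_inv] at this
  let U : G → ↥(P : Subgroup G) := fun y => if hy : y ∈ nN P ⊔ W then T.π ⟨_, hk y hy⟩ else 1
  have hU : ∀ y, ∀ hy : y ∈ nN P ⊔ W, U y = T.π ⟨_, hk y hy⟩ := fun y hy => dif_pos hy
  have hmap : ∀ y ∈ Finset.univ.filter (· ∈ nN P ⊔ W),
      U y ∈ Finset.univ.filter (fun u : ↥(P : Subgroup G) => u * u = 1 ∧ u ≠ 1) := by
    intro y hy
    have hyH := (Finset.mem_filter.1 hy).2
    obtain ⟨n, hn, -, htw⟩ := T.exists_twist hyH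
    have e := htw ⟨x, hxK⟩ (hk y hyH)
    rw [T.π_of_mem T.orbit.mem hxK] at e
    refine Finset.mem_filter.2 ⟨Finset.mem_univ _, ?_, ?_⟩ <;> rw [hU y hyH]
    · apply Subtype.ext
      rw [Subgroup.coe_mul, e, show n⁻¹ * x * n * (n⁻¹ * x * n) = n⁻¹ * (x * x) * n by group,
        T.x_sq]
      simp
    · intro h
      have h' := congrArg Subtype.val h
      simp only [e, OneMemClass.coe_one] at h'
      exact T.x_ne (by
        calc x = n * (n⁻¹ * x * n) * n⁻¹ := by group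
          _ = 1 := by rw [h']; group)
  rw [← Finset.sum_fiberwise_of_maps_to hmap, Finset.mul_sum]
  refine Finset.sum_congr rfl fun u hu => ?_
  obtain ⟨hu2, hu1⟩ := (Finset.mem_filter.1 hu).2
  rw [Finset.sum_congr rfl (g := fun _ => f u) fun y hy => by
    obtain ⟨hyH, hyu⟩ := Finset.mem_filter.1 hy
    have hyH' := (Finset.mem_filter.1 hyH).2
    rw [hF y hyH' (hk y hyH'), ← hU y hyH', hyu], Finset.sum_const, nsmul_eq_mul]
  congr 1
  rw [Nat.cast_inj, Nat.card_eq_fintype_card, Fintype.card_subtype]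
  obtain ⟨n, hn, hnu⟩ := T.trans u u.2 (congrArg Subtype.val hu2) fun h => hu1 (Subtype.ext h)
  have hn' : n⁻¹ ∈ nN P ⊔ W := Subgroup.mem_sup_left (inv_mem hn)
  refine (Finset.card_bij (fun k _ => k * n⁻¹) (fun k hk' => ?_) (fun a _ b _ h => mul_right_cancel h)
    fun y hy => ?_).symm
  · have hkK : k ∈ W ⊔ (P : Subgroup G) := (Finset.mem_filter.1 hk').2
    have hyH : k * n⁻¹ ∈ nN P ⊔ W := mul_mem (T.frame.K_le_H hkK) hn'
    refine Finset.mem_filter.2 ⟨Finset.mem_filter.2 ⟨Finset.mem_univ _, hyH⟩, ?_⟩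
    rw [hU _ hyH]
    obtain ⟨v, hv, hw⟩ := T.frame.mem_K hkK
    apply Subtype.ext
    refine T.π_eq u.2 ?_
    show (u : G)⁻¹ * ((k * n⁻¹)⁻¹ * x * (k * n⁻¹)) ∈ W
    set w := v⁻¹ * k with hwdef
    have hvx : v⁻¹ * x * v = x := by rw [mul_assoc, T.orbit.comm x T.orbit.mem v hv, inv_mul_cancel_left]
    have e : (u : G)⁻¹ * ((k * n⁻¹)⁻¹ * x * (k * n⁻¹)) = n * ((x⁻¹ * w⁻¹ * x⁻¹⁻¹) * w) * n⁻¹ := by
      have hkw : k = v * w := by rw [hwdef, mul_inv_cancel_left]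
      rw [← hnu, hkw]
      calc (n * x * n⁻¹)⁻¹ * ((v * w * n⁻¹)⁻¹ * x * (v * w * n⁻¹))
          = n * (x⁻¹ * w⁻¹ * (v⁻¹ * x * v) * w) * n⁻¹ := by group
        _ = n * ((x⁻¹ * w⁻¹ * x⁻¹⁻¹) * w) * n⁻¹ := by rw [hvx, inv_inv]
    rw [e]
    exact T.frame.normN n hn _ (mul_mem
      (T.frame.normN _ (inv_mem (Subgroup.le_normalizer T.orbit.mem)) _ (inv_mem hw)) hw)
  · obtain ⟨hyH, hyu⟩ := Finset.mem_filter.1 hy
    have hyH' := (Finset.mem_filter.1 hyH).2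
    have hynH : y * n ∈ nN P ⊔ W := mul_mem hyH' (Subgroup.mem_sup_left hn)
    refine ⟨y * n, Finset.mem_filter.2 ⟨Finset.mem_univ _, T.mem_K_of_stab hynH (hk _ hynH) ?_⟩,
      mul_inv_cancel_right y n⟩
    rw [hU y hyH'] at hyu
    have h1 : (T.π ⟨_, hk y hyH'⟩ : G) = n * x * n⁻¹ := by rw [hyu, hnu]
    refine T.π_eq T.orbit.mem ?_
    have h2 := T.hπ ⟨_, hk y hyH'⟩
    rw [h1] at h2
    have h3 := T.frame.normN n⁻¹ (inv_mem hn) _ h2
    have e : n⁻¹ * ((n * x * n⁻¹)⁻¹ * (y⁻¹ * x * y)) * n⁻¹⁻¹ =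
        x⁻¹ * ((y * n)⁻¹ * x * (y * n)) := by group
    rwa [e] at h3

end Setting

end Cfsg.Agent.RegularOrbit
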