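import Cfsg.Agent.Lib.Blocks.RegularOrbit.Setup
import Cfsg.Agent.Lib.BrauerPairs.WatanabeFixed
import Cfsg.Agent.Lib.BrauerPairs.FusionBridge
import Cfsg.Agent.Lib.Blocks.RankFourNine
import Cfsg.Agent.Lib.BrauerPairs.Principal
import Cfsg.Agent.S4571

/-!
The principal 2-block and its local blocks for an abelian Sylow 2-subgroup.
-/

set_option autoImplicit false
set_option linter.style.haveILetI false
set_option linter.unusedSectionVars false

namespace Cfsg.Agent.RegularOrbit

open Cfsg Cfsg.Agent.Blocks Cfsg.Agent.Char Cfsg.Agent.BrauerPairs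

universe u

variable {G : Type u} [Group G] [Fintype G] {M : Ideal AlgInt} [M.IsPrime] {P : Sylow 2 G}

theorem principal_induced (hM : IsPModular 2 M)
    (hab : ∀ a ∈ (P : Subgroup G), ∀ b ∈ (P : Subgroup G), a * b = b * a) [Fintype (cC P)] :
    IsInducedBlock M (cC P) (principalBlock M (cC P)) (principalBlock M G) := by
  classical
  obtain ⟨B', hB'⟩ := exists_isInducedBlock hM P.isPGroup' (le_cC hab) le_rfl cC_le_nN
    (isPBlock_principalBlock M (cC P))
  exact (induced_iff_of_restrict_irr hM (principal G) isIrrCharacter_one (blockHeight_one hM)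
    (blockHeight_one hM) ⟨B', hB'⟩).2 rfl

theorem principal_defect (hM : IsPModular 2 M) :
    IsDefectGroup 2 M (principalBlock M G) (P : Subgroup G) :=
  (isDefectGroup_principal_iff hM _).2 ⟨P, rfl⟩

theorem mem_stab_principal (hM : IsPModular 2 M) (g : G) :
    g ∈ stabP ((P : Subgroup G), zB M (cC P) (principalBlock M (cC P))) ↔ g ∈ nN P := by
  haveI : Fact (Nat.Prime 2) := ⟨Nat.prime_two⟩
  refine ⟨fun hg => hg.1, fun hg => (stab_iff (isPBlock_principalBlock M (cC P)) g).1 ⟨hg, ?_⟩⟩
  exact stabilizesBlock_principal hM (normalizer_le_normalizer_centralizer (P : Subgroup G) hg)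

/-- An element fixed by the normaliser: the rank is that of the centraliser. -/
theorem fixed_rank (hM : IsPModular 2 M)
    (hab : ∀ a ∈ (P : Subgroup G), ∀ b ∈ (P : Subgroup G), a * b = b * a) {u : G}
    (hu : u ∈ (P : Subgroup G)) (hfix : ∀ n ∈ nN P, n * u * n⁻¹ = u) {C : Subgroup G} [Fintype C]
    (hC : C = Subgroup.centralizer ({u} : Set G)) :
    blockRank 2 (principalBlock M C) = blockRank 2 (principalBlock M G) := by
  classical
  haveI : Fact (Nat.Prime 2) := ⟨Nat.prime_two⟩
  haveI : CharP (resField M) 2 := resField_charP hM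
  set a : Pr (resField M) G := ((P : Subgroup G), zB M (cC P) (principalBlock M (cC P))) with ha
  have hpo : IsPairOf 2 ⊤ (Ek M (principalBlock M G)) a :=
    isPrin_Ek.pairOf P.isPGroup' le_top (by simpa only [top_inf_eq] using isPrin_zB (cC P))
  have hmax : IsMax 2 (Ek M (principalBlock M G)) a :=
    ⟨hpo, (isDefectGroup_iff (isPBlock_principalBlock M G) (P : Subgroup G)).1 (principal_defect hM)⟩
  obtain ⟨hl, -⟩ := WatanabeFixed.fixed_counts hM (isPBlock_principalBlock M G) hmax (le_cC hab) hu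
    fun t ht => hfix t ((mem_stab_principal hM t).1 ht)
  have hsec : Star.secC u = C := by rw [hC, Star.secC_eq]
  have hPC : (P : Subgroup G) ≤ C := fun v hv => hC ▸
    Subgroup.mem_centralizer_singleton_iff.2 (hab v hv u hu)
  have hpf : IsPairOf 2 C (zB M C (principalBlock M C)) a := by
    refine (isPrin_zB C).pairOf P.isPGroup' hPC ?_
    have e : C ⊓ cC P = cC P := inf_eq_right.2 fun c hc => hC ▸
      Subgroup.mem_centralizer_singleton_iff.2 (Subgroup.mem_centralizer_iff.1 hc u hu).symm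
    exact e.symm ▸ isPrin_zB (cC P)
  rw [← (AbelianSections.lr_eq (isPBlock_principalBlock M C) hpf).1, ← hl, hsec]

/-- The centraliser of an element with smallest stabiliser has rank one. -/
theorem stab_rank (hM : IsPModular 2 M)
    (hab : ∀ a ∈ (P : Subgroup G), ∀ b ∈ (P : Subgroup G), a * b = b * a) {u : G}
    (hu : u ∈ (P : Subgroup G)) (hstab : ∀ n ∈ nN P, n * u * n⁻¹ = u → n ∈ cC P) {C : Subgroup G}
    [Fintype C] (hC : C = Subgroup.centralizer ({u} : Set G)) :
    blockRank 2 (principalBlock M C) = 1 := by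
  haveI : Fact (Nat.Prime 2) := ⟨Nat.prime_two⟩
  exact (Cfsg.Agent.S4646.result 2 M hM).1
    ((pNilpotent_iff_nilpotent_principal hM).1 (exists_complement hab hu hstab hC).1)

/-- Passing to the centraliser of a fixed involution and dividing by it. -/
theorem exists_quotient (hM : IsPModular 2 M) {x : G} (hO : Orbit P x) {z : G}
    (hz : z ∈ (P : Subgroup G)) (hzo : orderOf z = 2) (hfix : ∀ n ∈ nN P, n * z * n⁻¹ = z)
    (he : eIdx P ≠ 1) :
    ∃ (Q : Type u) (_ : Group Q) (_ : Fintype Q) (S : Sylow 2 Q) (y : Q), Orbit S y ∧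
      eIdx S = eIdx P ∧ 2 * Nat.card (S : Subgroup Q) = Nat.card (P : Subgroup G) ∧
      blockRank 2 (principalBlock M Q) = blockRank 2 (principalBlock M G) := by
  classical
  haveI : Fact (Nat.Prime 2) := ⟨Nat.prime_two⟩
  set C := Subgroup.centralizer ({z} : Set G) with hCdef
  have hPC : (P : Subgroup G) ≤ C := fun v hv =>
    Subgroup.mem_centralizer_singleton_iff.2 (hO.comm v hv z hz)
  have hNC : nN P ≤ C := fun n hn =>
    Subgroup.mem_centralizer_singleton_iff.2 (mul_inv_eq_iff_eq_mul.1 (hfix n hn))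
  let Pc : Sylow 2 C := P.subtype hPC
  let zc : C := ⟨z, hPC hz⟩
  let Z : Subgroup C := Subgroup.zpowers zc
  have hzc : zc ∈ Subgroup.center C := Subgroup.mem_center_iff.2 fun g =>
    Subtype.ext (Subgroup.mem_centralizer_singleton_iff.1 g.2)
  haveI hZn : Z.Normal := ⟨fun v hv g => by
    have : g * v * g⁻¹ = v := by
      rw [Subgroup.mem_center_iff.1 (Subgroup.zpowers_le.2 hzc hv) g, mul_inv_cancel_right]
    rwa [this]⟩
  have hzco : orderOf zc = 2 := by rw [← hzo, ← Subgroup.orderOf_coe]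
  have hZmem : ∀ v : C, v ∈ Z ↔ v = 1 ∨ v = zc := by
    intro v
    constructor
    · intro hv
      obtain ⟨i, rfl⟩ := Subgroup.mem_zpowers_iff.1 hv
      rcases Int.emod_two_eq_zero_or_one i with h | h
      · left; rw [← zpow_mod_orderOf, hzco, Nat.cast_ofNat, h, zpow_zero]
      · right; rw [← zpow_mod_orderOf, hzco, Nat.cast_ofNat, h, zpow_one]
    · rintro (rfl | rfl)
      · exact one_mem _
      · exact Subgroup.mem_zpowers _
  haveI : Fintype (C ⧸ Z) := Fintype.ofFinite _
  let f := QuotientGroup.mk' Z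
  have hf : Function.Surjective f := QuotientGroup.mk'_surjective Z
  let S : Sylow 2 (C ⧸ Z) := Pc.mapSurjective hf
  have hSmem : ∀ v : C, f v ∈ (S : Subgroup (C ⧸ Z)) ↔ (v : G) ∈ (P : Subgroup G) := by
    intro v
    constructor
    · intro hv
      obtain ⟨w, hw, e⟩ := (hv : f v ∈ (Pc : Subgroup C).map f)
      rcases (hZmem _).1 (QuotientGroup.eq.1 e) with h | h
      · rw [← inv_mul_eq_one.1 h]; exact hw
      · rw [inv_mul_eq_iff_eq_mul.1 h]; exact mul_mem (hw : (w : G) ∈ (P : Subgroup G)) hz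
    · intro hv
      exact (⟨v, hv, rfl⟩ : f v ∈ (Pc : Subgroup C).map f)
  have hxC : x ∈ C := hPC hO.mem
  have hxz : x ≠ z := fun e => he (Subgroup.relIndex_eq_one.2 fun n hn =>
    hO.stab n hn (by rw [e]; exact hfix n hn))
  have hz2 : z * z = 1 := by rw [← pow_two, ← hzo, pow_orderOf_eq_one]
  have hx2 : x * x = 1 := by rw [← pow_two, ← hO.ord, pow_orderOf_eq_one]
  -- an element of the normaliser moving `x` into its coset centralises the Sylow subgroup
  have hstab : ∀ n : C, (n : G) ∈ nN P → f n * f ⟨x, hxC⟩ * (f n)⁻¹ = f ⟨x, hxC⟩ →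
      (n : G) ∈ cC P := by
    intro n hn e
    rw [← map_inv, ← map_mul, ← map_mul] at e
    rcases (hZmem _).1 (QuotientGroup.eq.1 e.symm) with h | h
    · exact hO.stab _ hn (congrArg Subtype.val (inv_mul_eq_one.1 h)).symm
    · have h1 : (n : G) * x * (n : G)⁻¹ = x * z :=
        congrArg Subtype.val (inv_mul_eq_iff_eq_mul.1 h)
      have h2 : ((n : G) * n) * x * ((n : G) * n)⁻¹ = x := by
        rw [show (n : G) * n * x * ((n : G) * n)⁻¹ = n * ((n : G) * x * (n : G)⁻¹) * (n : G)⁻¹ by
          group, h1, show (n : G) * (x * z) * (n : G)⁻¹ =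
          ((n : G) * x * (n : G)⁻¹) * ((n : G) * z * (n : G)⁻¹) by group, h1, hfix _ hn,
          mul_assoc, hz2, mul_one]
      have h3 := hO.stab _ (mul_mem hn hn) h2
      haveI := cC_normal (P := P)
      set q : nN P ⧸ (cC P).subgroupOf (nN P) := QuotientGroup.mk ⟨(n : G), hn⟩ with hq
      have hq2 : q ^ 2 = 1 := by
        rw [pow_two, hq, ← QuotientGroup.mk_mul]
        exact (QuotientGroup.eq_one_iff _).2 (Subgroup.mem_subgroupOf.2 h3)
      have hq1 : q = 1 := orderOf_eq_one_iff.1 (by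
        rcases (Nat.dvd_prime Nat.prime_two).1 (orderOf_dvd_of_pow_eq_one hq2) with h4 | h4
        · exact h4
        · exact absurd (h4 ▸ orderOf_dvd_natCard q) (eIdx_odd hO.comm))
      exact Subgroup.mem_subgroupOf.1 ((QuotientGroup.eq_one_iff (⟨(n : G), hn⟩ : nN P)).1 hq1)
  have hNmem : ∀ v : C, f v ∈ nN S ↔ (v : G) ∈ nN P := by
    intro v
    constructor
    · intro hv
      refine Subgroup.mem_normalizer_iff.2 fun w => ⟨fun hw => ?_, fun hw => ?_⟩
      · have h := (Subgroup.mem_normalizer_iff.1 hv (f ⟨w, hPC hw⟩)).1 ((hSmem _).2 hw)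
        rw [← map_inv, ← map_mul, ← map_mul] at h
        exact (hSmem _).1 h
      · have hwC : w ∈ C := by
          have := C.mul_mem (C.mul_mem (C.inv_mem v.2) (hPC hw)) v.2
          simpa [mul_assoc] using this
        refine (hSmem ⟨w, hwC⟩).1 ((Subgroup.mem_normalizer_iff.1 hv _).2 ?_)
        rw [← map_inv, ← map_mul, ← map_mul]
        exact (hSmem _).2 hw
    · intro hv
      refine Subgroup.mem_normalizer_iff.2 fun w => ?_
      obtain ⟨w, rfl⟩ := hf w
      rw [← map_inv, ← map_mul, ← map_mul, hSmem, hSmem]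
      exact Subgroup.mem_normalizer_iff.1 hv _
  have hCmem : ∀ v : C, f v ∈ cC S ↔ (v : G) ∈ cC P := by
    intro v
    constructor
    · intro hv
      have h := Subgroup.mem_centralizer_iff.1 hv _ ((hSmem ⟨x, hxC⟩).2 hO.mem)
      exact hstab v ((hNmem v).1 (cC_le_nN hv)) (mul_inv_eq_iff_eq_mul.2 h.symm)
    · intro hv
      refine Subgroup.mem_centralizer_iff.2 fun w hw => ?_
      obtain ⟨w, rfl⟩ := hf w
      rw [← map_mul, ← map_mul]
      exact congrArg f (Subtype.ext (Subgroup.mem_centralizer_iff.1 hv _ ((hSmem w).1 hw)))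
  refine ⟨C ⧸ Z, inferInstance, inferInstance, S, f ⟨x, hxC⟩, ⟨?_, (hSmem _).2 hO.mem, ?_, ?_⟩,
    ?_, ?_, ?_⟩
  · intro a ha b hb
    obtain ⟨a, rfl⟩ := hf a
    obtain ⟨b, rfl⟩ := hf b
    rw [← map_mul, ← map_mul]
    exact congrArg f (Subtype.ext (hO.comm _ ((hSmem a).1 ha) _ ((hSmem b).1 hb)))
  · refine orderOf_eq_prime ?_ fun e => ?_
    · rw [← map_pow, show (⟨x, hxC⟩ : C) ^ 2 = 1 from Subtype.ext (by simp [pow_two, hx2]), map_one]
    · rcases (hZmem _).1 ((QuotientGroup.eq_one_iff _).1 e) with h | h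
      · have : x = 1 := congrArg Subtype.val h
        have := hO.ord
        simp_all
      · exact hxz (congrArg Subtype.val h)
  · intro n hn e
    obtain ⟨n, rfl⟩ := hf n
    exact (hCmem n).2 (hstab n ((hNmem n).1 hn) e)
  · have h1 : (cC S).comap f = (cC P).subgroupOf C := by
      ext v; exact (hCmem v).trans Subgroup.mem_subgroupOf.symm
    have h2 : (nN S).comap f = (nN P).subgroupOf C := by
      ext v; exact (hNmem v).trans Subgroup.mem_subgroupOf.symm
    have h3 : ((cC S).comap f).relIndex ((nN S).comap f) = (cC S).relIndex (nN S) := by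
      rw [Subgroup.relIndex_comap, Subgroup.map_comap_eq_self_of_surjective hf]
    have h4 : ((cC P).subgroupOf C).relIndex ((nN P).subgroupOf C) = (cC P).relIndex (nN P) := by
      show ((cC P).comap C.subtype).relIndex ((nN P).comap C.subtype) = _
      rw [Subgroup.relIndex_comap, Subgroup.map_comap_eq_self]
      rwa [Subgroup.range_subtype]
    rw [eIdx, ← h3, h1, h2, h4]
  · have h1 : (S : Subgroup (C ⧸ Z)).comap f = (Pc : Subgroup C) := by
      ext v; exact hSmem v
    have h2 : Nat.card ((S : Subgroup (C ⧸ Z)).comap f : Subgroup C) =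
        Nat.card Z * Nat.card (S : Subgroup (C ⧸ Z)) := by
      refine Nat.eq_of_mul_eq_mul_right (Nat.pos_of_ne_zero
        (Subgroup.index_ne_zero_of_finite (H := (S : Subgroup (C ⧸ Z))))) ?_
      rw [mul_assoc, Subgroup.card_mul_index, ← Subgroup.index_comap_of_surjective (f := f) _ hf,
        Subgroup.card_mul_index, ← Subgroup.card_mul_index Z]
      rfl
    rw [h1, Nat.card_zpowers, hzco] at h2
    rw [← h2]
    exact Nat.card_congr (Subgroup.subgroupOfEquivOfLe hPC).toEquiv
  · have hsup : Z ⊔ Subgroup.centralizer (Z : Set C) = ⊤ := by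
      refine eq_top_iff.2 fun g _ => Subgroup.mem_sup_right (Subgroup.mem_centralizer_iff.2 ?_)
      exact fun v hv => (Subgroup.mem_center_iff.1 (Subgroup.zpowers_le.2 hzc hv) g).symm
    have hZp : IsPGroup 2 Z := IsPGroup.of_card (n := 1) (by rw [Nat.card_zpowers, hzco, pow_one])
    rw [← Cfsg.Agent.S4571.result 2 M hM Z hZp hsup, fixed_rank hM hO.comm hz hfix hCdef]

end Cfsg.Agent.RegularOrbit
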