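import Cfsg.Agent.Lib.Blocks.RegularOrbit.Counts
import Mathlib.GroupTheory.Transfer

/-!
The fixed subgroup of a prime inertial quotient in a nonsolvable group with abelian Sylow
2-subgroup.
-/

set_option autoImplicit false
set_option linter.style.haveILetI false
set_option linter.unusedSectionVars false

namespace Cfsg.Agent.RegularOrbit

open Cfsg

universe u

variable {G : Type u} [Group G] [Fintype G] {M : Ideal AlgInt} [M.IsPrime] {P : Sylow 2 G} {x : G}

theorem pow_odd_cancel {u : G} (hu : u ∈ (P : Subgroup G)) {k : ℕ} (hk : ¬ 2 ∣ k) (h : u ^ k = 1) :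
    u = 1 := by
  haveI : Fact (Nat.Prime 2) := ⟨Nat.prime_two⟩
  obtain ⟨i, hi⟩ := IsPGroup.iff_orderOf.1 P.isPGroup' ⟨u, hu⟩
  rw [Subgroup.orderOf_mk] at hi
  have h1 := orderOf_dvd_of_pow_eq_one h
  rw [hi] at h1
  rcases i with _ | i
  · exact orderOf_eq_one_iff.1 (by simpa using hi)
  · exact absurd ((dvd_pow_self 2 (Nat.succ_ne_zero i)).trans h1) hk

theorem solvable_of_complement {A : Type u} [Group A] [Finite A] (h : HasNormalPComplement 2 A)
    (S : Sylow 2 A) (hS : ∀ a ∈ (S : Subgroup A), ∀ b ∈ (S : Subgroup A), a * b = b * a) :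
    Group.IsSolvable A := by
  haveI : Fact (Nat.Prime 2) := ⟨Nat.prime_two⟩
  obtain ⟨N, hN, hcop, k, hk⟩ := PBasic.hasNormalPComplement_iff.1 h
  haveI := hN
  haveI : Group.IsSolvable N := Cfsg.Agent.S0205.result
    (Nat.odd_iff.2 (Nat.two_dvd_ne_zero.1 (Nat.prime_two.coprime_iff_not_dvd.1 (Nat.coprime_comm.1 hcop))))
  haveI : Group.IsSolvable (A ⧸ N) := by
    have htop := PBasic.sylow_sup_eq_top S (N := N) (IsPGroup.of_card (n := k) hk)
    refine Group.isSolvable_of_comm fun a b => ?_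
    have hmap : ∀ c : A ⧸ N, ∃ s ∈ (S : Subgroup A), QuotientGroup.mk s = c := by
      intro c
      obtain ⟨c, rfl⟩ := QuotientGroup.mk_surjective c
      have hc : c ∈ ((S : Subgroup A) ⊔ N : Subgroup A) := by rw [htop]; exact Subgroup.mem_top c
      rw [← SetLike.mem_coe, Subgroup.mul_normal] at hc
      obtain ⟨s, hs, n, hn, rfl⟩ := Set.mem_mul.1 hc
      exact ⟨s, hs, by rw [QuotientGroup.mk_mul, (QuotientGroup.eq_one_iff n).2 hn, mul_one]⟩
    obtain ⟨a, ha, rfl⟩ := hmap a
    obtain ⟨b, hb, rfl⟩ := hmap b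
    rw [← QuotientGroup.mk_mul, ← QuotientGroup.mk_mul, hS a ha b hb]
  exact Group.isSolvable_of_ker_le_range N.subtype (QuotientGroup.mk' N)
    (by rw [QuotientGroup.ker_mk', Subgroup.range_subtype])

set_option maxHeartbeats 1000000 in
/-- In a nonsolvable group the Sylow subgroup is the fixed part times a transitive one. -/
theorem card_of_nonsolvable (hM : IsPModular 2 M) (hO : Orbit P x) (he : (eIdx P).Prime)
    (hns : ¬ Group.IsSolvable G) :
    Nat.card (P : Subgroup G) =
      Nat.card ↥((P : Subgroup G) ⊓ Subgroup.centralizer (nN P : Set G)) * (eIdx P + 1) := by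
  classical
  haveI : Fact (Nat.Prime 2) := ⟨Nat.prime_two⟩
  haveI := cC_normal (P := P)
  have hab := hO.comm
  set A := nN P ⧸ (cC P).subgroupOf (nN P) with hA
  haveI : Fintype A := Fintype.ofFinite A
  have hAcard : Fintype.card A = eIdx P := by rw [← Nat.card_eq_fintype_card]; rfl
  letI : CommGroup ↥(P : Subgroup G) :=
    { (inferInstance : Group ↥(P : Subgroup G)) with
      mul_comm := fun a b => Subtype.ext (hab a a.2 b b.2) }
  let act : nN P → ↥(P : Subgroup G) →* ↥(P : Subgroup G) := fun n =>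
    MonoidHom.mk' (fun v => ⟨(n : G) * v * (n : G)⁻¹, mem_P_of_conj n.2 v.2⟩) fun a b =>
      Subtype.ext (show (n : G) * (a * b) * (n : G)⁻¹ = n * a * (n : G)⁻¹ * (n * b * (n : G)⁻¹) by group)
  have hact : ∀ (n n' : nN P), (QuotientGroup.mk n : A) = QuotientGroup.mk n' → act n = act n' := by
    intro n n' h
    have hc := Subgroup.mem_subgroupOf.1 (QuotientGroup.eq.1 h)
    ext v
    show (n : G) * v * (n : G)⁻¹ = (n' : G) * v * (n' : G)⁻¹
    rw [Subgroup.coe_mul, Subgroup.coe_inv] at hc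
    calc (n : G) * v * (n : G)⁻¹
        = (n : G) * (((n : G)⁻¹ * n') * v * ((n : G)⁻¹ * n')⁻¹) * (n : G)⁻¹ := by rw [conj_cC hc v.2]
      _ = _ := by group
  let ν : ↥(P : Subgroup G) →* ↥(P : Subgroup G) := ∏ a : A, act a.out
  have hν : ∀ v, ν v = ∏ a : A, act a.out v := fun v => MonoidHom.finset_prod_apply _ _ _
  have hcomp : ∀ (n n' : nN P) v, act n (act n' v) = act (n * n') v := fun n n' v =>
    Subtype.ext (show (n : G) * ((n' : G) * v * (n' : G)⁻¹) * (n : G)⁻¹ =
      (n : G) * n' * v * ((n : G) * n')⁻¹ by group)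
  have hνfix : ∀ (n : nN P) v, act n (ν v) = ν v := by
    intro n v
    rw [hν, map_prod]
    refine Fintype.prod_equiv (Equiv.mulLeft (QuotientGroup.mk n : A)) _ _ fun a => ?_
    rw [hcomp, Equiv.coe_mulLeft, hact (n * a.out) ((QuotientGroup.mk n : A) * a).out]
    rw [QuotientGroup.mk_mul, QuotientGroup.out_eq', QuotientGroup.out_eq']
  have hνinv : ∀ (n : nN P) v, ν (act n v) = ν v := by
    intro n v
    rw [hν, hν]
    refine Fintype.prod_equiv (Equiv.mulRight (QuotientGroup.mk n : A)) _ _ fun a => ?_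
    rw [hcomp, Equiv.coe_mulRight, hact (a.out * n) (a * (QuotientGroup.mk n : A)).out]
    rw [QuotientGroup.mk_mul, QuotientGroup.out_eq', QuotientGroup.out_eq']
  set Fix : Subgroup G := (P : Subgroup G) ⊓ Subgroup.centralizer (nN P : Set G) with hFix
  have hFixmem : ∀ v : ↥(P : Subgroup G), (v : G) ∈ Fix ↔ ∀ n : nN P, act n v = v := by
    intro v
    constructor
    · intro h n
      exact Subtype.ext (mul_inv_eq_iff_eq_mul.2 (Subgroup.mem_centralizer_iff.1 h.2 n n.2))
    · intro h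
      exact ⟨v.2, Subgroup.mem_centralizer_iff.2 fun n hn =>
        mul_inv_eq_iff_eq_mul.1 (congrArg Subtype.val (h ⟨n, hn⟩))⟩
  have hνe : ∀ v : ↥(P : Subgroup G), (v : G) ∈ Fix → ν v = v ^ eIdx P := by
    intro v hv
    rw [hν, Finset.prod_congr rfl fun a _ => (hFixmem v).1 hv a.out, Finset.prod_const,
      Finset.card_univ, hAcard]
  have hodd := eIdx_odd (P := P) hab
  have hrange : Nat.card ν.range = Nat.card Fix := by
    have e : ν.range.map (P : Subgroup G).subtype = Fix := by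
      ext v
      constructor
      · rintro ⟨w, ⟨u, rfl⟩, rfl⟩
        exact (hFixmem _).2 fun n => hνfix n u
      · intro hv
        set v' : ↥(P : Subgroup G) := ⟨v, hv.1⟩
        have hcop : Nat.Coprime (eIdx P) (orderOf v') := by
          obtain ⟨i, hi⟩ := IsPGroup.iff_orderOf.1 P.isPGroup' v'
          rw [hi]
          exact Nat.Coprime.pow_right _ ((Nat.prime_two.coprime_iff_not_dvd.2 hodd).symm)
        obtain ⟨j, hj⟩ := exists_pow_eq_self_of_coprime hcop
        refine ⟨v', ⟨v' ^ j, ?_⟩, rfl⟩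
        rw [map_pow, hνe v' hv]
        exact hj
    rw [← e, Subgroup.card_map_of_injective (Subgroup.subtype_injective _)]
  -- the transfer
  set T : G →* ↥(P : Subgroup G) := MonoidHom.transfer ν with hT
  have hTv : ∀ v : ↥(P : Subgroup G), T v = ν v ^ (P : Subgroup G).index := by
    intro v
    letI := (P : Subgroup G).fintypeQuotientOfFiniteIndex
    haveI : Fintype (Quotient (MulAction.orbitRel (Subgroup.zpowers (v : G)) (G ⧸ (P : Subgroup G)))) :=
      Fintype.ofFinite _
    rw [hT, MonoidHom.transfer_eq_prod_quotient_orbitRel_zpowers_quot ν (v : G),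
      Subgroup.index_eq_sum_minimalPeriod (P : Subgroup G) (v : G), ← Finset.prod_pow_eq_pow_sum]
    refine Finset.prod_congr rfl fun q _ => ?_
    set k := Function.minimalPeriod ((v : G) • ·) q.out
    set g₀ := q.out.out
    have hm := QuotientGroup.out_conj_pow_minimalPeriod_mem (P : Subgroup G) (v : G) q.out
    obtain ⟨n, hn, hne⟩ := fusion hab (pow_mem v.2 k) hm (isConj_iff.2 ⟨g₀⁻¹, by rw [inv_inv]⟩)
    rw [← map_pow, ← hνinv ⟨n, hn⟩ (v ^ k)]
    refine congrArg ν (Subtype.ext ?_)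
    show g₀⁻¹ * (v : G) ^ k * g₀ = n * ((v ^ k : ↥(P : Subgroup G)) : G) * n⁻¹
    rw [SubmonoidClass.coe_pow, hne]
  have hidxodd : ¬ 2 ∣ (P : Subgroup G).index := P.not_dvd_index
  have hkerν : ∀ v : ↥(P : Subgroup G), T v = 1 ↔ ν v = 1 := fun v => by
    rw [hTv]
    refine ⟨fun h => Subtype.ext (pow_odd_cancel (ν v).2 hidxodd ?_), fun h => by rw [h, one_pow]⟩
    rw [← SubmonoidClass.coe_pow, h, OneMemClass.coe_one]
  have hTrange : T.range = ν.range := by
    refine le_antisymm ?_ ?_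
    · rintro _ ⟨g, rfl⟩
      letI := (P : Subgroup G).fintypeQuotientOfFiniteIndex
      haveI : Fintype (Quotient (MulAction.orbitRel (Subgroup.zpowers g) (G ⧸ (P : Subgroup G)))) :=
        Fintype.ofFinite _
      rw [hT, MonoidHom.transfer_eq_prod_quotient_orbitRel_zpowers_quot ν g]
      exact Subgroup.prod_mem _ fun q _ => ⟨_, rfl⟩
    · rintro _ ⟨v, rfl⟩
      have hcop : Nat.Coprime (P : Subgroup G).index (orderOf (ν v)) := by
        obtain ⟨i, hi⟩ := IsPGroup.iff_orderOf.1 P.isPGroup' (ν v)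
        rw [hi]
        exact Nat.Coprime.pow_right _ ((Nat.prime_two.coprime_iff_not_dvd.2 hidxodd).symm)
      obtain ⟨j, hj⟩ := exists_pow_eq_self_of_coprime hcop
      exact ⟨(v : G) ^ j, by rw [map_pow, hTv, hj]⟩
  set K := T.ker with hK
  haveI : Fintype K := Fintype.ofFinite K
  have hKns : ¬ Group.IsSolvable K := by
    intro h
    haveI : Group.IsSolvable ↥(P : Subgroup G) := Group.isSolvable_of_comm mul_comm
    exact hns (Group.isSolvable_of_ker_le_range K.subtype T (by rw [Subgroup.range_subtype]))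
  -- the Sylow subgroup of the kernel
  have hsplit : Nat.card ν.ker * Nat.card ν.range = Nat.card (P : Subgroup G) := by
    rw [← ν.ker.card_mul_index, Subgroup.index_ker]
  set R : Subgroup K := ((P : Subgroup G) ⊓ K).subgroupOf K with hR
  have hRmem : ∀ k : K, k ∈ R ↔ (k : G) ∈ (P : Subgroup G) := fun k => by
    simp [hR, Subgroup.mem_subgroupOf]
  have hRcard : Nat.card R = Nat.card ν.ker := Nat.card_congr
    { toFun := fun k => ⟨⟨(k.1 : G), (hRmem k.1).1 k.2⟩, (hkerν _).1 k.1.2⟩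
      invFun := fun v => ⟨⟨(v.1 : G), (hkerν v.1).2 v.2⟩, (hRmem _).2 v.1.2⟩
      left_inv := fun k => rfl
      right_inv := fun v => rfl }
  have hRidx : R.index = (P : Subgroup G).index := by
    have h1 : Nat.card K * Nat.card ν.range = Nat.card G := by
      rw [← hTrange, hK, ← T.ker.card_mul_index, Subgroup.index_ker]
    refine Nat.eq_of_mul_eq_mul_left (Nat.card_pos (α := R)) ?_
    refine Nat.eq_of_mul_eq_mul_right (Nat.card_pos (α := ν.range)) ?_
    rw [R.card_mul_index, h1, ← (P : Subgroup G).card_mul_index, hRcard, ← hsplit]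
    ring
  have hRp : IsPGroup 2 R := by
    obtain ⟨i, hi⟩ := IsPGroup.iff_card.1 (P.isPGroup'.to_subgroup ν.ker)
    exact IsPGroup.of_card (n := i) (hRcard.trans hi)
  let S : Sylow 2 K := hRp.toSylow (by rw [hRidx]; exact hidxodd)
  have hS : ∀ k : K, k ∈ (S : Subgroup K) ↔ (k : G) ∈ (P : Subgroup G) := hRmem
  have hScomm : ∀ a ∈ (S : Subgroup K), ∀ b ∈ (S : Subgroup K), a * b = b * a := fun a ha b hb =>
    Subtype.ext (hab _ ((hS a).1 ha) _ ((hS b).1 hb))
  have hSfree : ∀ n ∈ nN P, ∀ k : K, k ∈ (S : Subgroup K) → k ≠ 1 → n * (k : G) * n⁻¹ = k →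
      n ∈ cC P := by
    intro n hn k hk hk1 hfix
    refine (fixed_or_stab he ((hS k).1 hk)).elim (fun h => absurd ?_ hk1) fun h => h n hn hfix
    set v : ↥(P : Subgroup G) := ⟨(k : G), (hS k).1 hk⟩
    have h1 := hνe v ((hFixmem v).2 fun m => Subtype.ext (h m m.2))
    rw [(hkerν v).1 k.2] at h1
    exact Subtype.ext (pow_odd_cancel v.2 hodd (congrArg Subtype.val h1.symm))
  -- the normaliser in the kernel
  have hlift : ∀ k : nN S, ∃ n : nN P, ∀ r : K, r ∈ (S : Subgroup K) →
      (n : G) * r * (n : G)⁻¹ = ((k : K) : G) * r * ((k : K) : G)⁻¹ := by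
    intro k
    set R' : Subgroup G := (S : Subgroup K).map K.subtype with hR'
    set D := Subgroup.centralizer (R' : Set G) with hD
    have hR'P : R' ≤ (P : Subgroup G) := by
      rintro _ ⟨r, hr, rfl⟩
      exact (hS r).1 hr
    have hPD : (P : Subgroup G) ≤ D := fun v hv =>
      Subgroup.mem_centralizer_iff.2 fun r hr => hab r (hR'P hr) v hv
    let P' : Sylow 2 G := ((k : K) : G) • P
    have hP'D : (P' : Subgroup G) ≤ D := by
      intro v hv
      rw [Sylow.coe_subgroup_smul] at hv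
      obtain ⟨w, hw, rfl⟩ := hv
      refine Subgroup.mem_centralizer_iff.2 ?_
      rintro _ ⟨r, hr, rfl⟩
      have hr' : (k : K)⁻¹ * r * (k : K)⁻¹⁻¹ ∈ (S : Subgroup K) :=
        (Subgroup.mem_normalizer_iff.1 (inv_mem k.2) r).1 hr
      have h := hab _ ((hS _).1 hr') w hw
      simp only [Subgroup.coe_mul, Subgroup.coe_inv, inv_inv] at h
      show (r : G) * (((k : K) : G) * w * ((k : K) : G)⁻¹) =
        ((k : K) : G) * w * ((k : K) : G)⁻¹ * r
      calc (r : G) * (((k : K) : G) * w * ((k : K) : G)⁻¹)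
          = ((k : K) : G) * (((k : K) : G)⁻¹ * r * (k : K) * w) * ((k : K) : G)⁻¹ := by group
        _ = ((k : K) : G) * (w * (((k : K) : G)⁻¹ * r * (k : K))) * ((k : K) : G)⁻¹ := by rw [h]
        _ = ((k : K) : G) * w * ((k : K) : G)⁻¹ * r := by group
    obtain ⟨c, hc⟩ := MulAction.exists_smul_eq D (P'.subtype hP'D) (P.subtype hPD)
    have hmem : ∀ v ∈ (P : Subgroup G),
        ((c : G) * (k : K)) * v * ((c : G) * (k : K))⁻¹ ∈ (P : Subgroup G) := by
      intro v hv
      have hvP' : ((k : K) : G) * v * ((k : K) : G)⁻¹ ∈ (P' : Subgroup G) := by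
        rw [Sylow.coe_subgroup_smul]; exact ⟨v, hv, rfl⟩
      set w : D := ⟨_, hP'D hvP'⟩
      have h1 : c * w * c⁻¹ ∈ (((c • P'.subtype hP'D : Sylow 2 D)) : Subgroup D) := by
        rw [Sylow.coe_subgroup_smul]; exact ⟨w, hvP', rfl⟩
      rw [hc] at h1
      have h2 : ((c * w * c⁻¹ : D) : G) ∈ (P : Subgroup G) := h1
      convert h2 using 1
      simp only [w, Subgroup.coe_mul, Subgroup.coe_inv]
      group
    have hn : (c : G) * (k : K) ∈ nN P := Subgroup.mem_normalizer_iff_map_conj_eq.2 (by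
      refine Subgroup.eq_of_le_of_card_ge ?_ (le_of_eq ?_)
      · rintro _ ⟨v, hv, rfl⟩
        exact hmem v hv
      · exact (Subgroup.card_map_of_injective (MulAut.conj _).injective).symm)
    refine ⟨⟨_, hn⟩, fun r hr => ?_⟩
    have hr' : (k : K) * r * (k : K)⁻¹ ∈ (S : Subgroup K) :=
      (Subgroup.mem_normalizer_iff.1 k.2 r).1 hr
    have h := Subgroup.mem_centralizer_iff.1 c.2 _ ⟨_, hr', rfl⟩
    simp only [Subgroup.coe_subtype, Subgroup.coe_mul, Subgroup.coe_inv] at h
    show (c : G) * (k : K) * r * ((c : G) * (k : K))⁻¹ = _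
    calc (c : G) * (k : K) * r * ((c : G) * (k : K))⁻¹
        = (c : G) * (((k : K) : G) * r * ((k : K) : G)⁻¹) * (c : G)⁻¹ := by group
      _ = _ := by rw [← h, mul_inv_cancel_right]
  choose f hf using hlift
  -- a nontrivial element of the kernel part
  obtain ⟨n₀, hn₀, hn₀C⟩ : ∃ n ∈ nN P, n ∉ cC P := by
    by_contra hcon
    push Not at hcon
    exact he.ne_one (Subgroup.relIndex_eq_one.2 hcon)
  set x' : ↥(P : Subgroup G) := ⟨x, hO.mem⟩
  have hzker : ν (act ⟨n₀, hn₀⟩ x' * x'⁻¹) = 1 := by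
    rw [map_mul, hνinv, map_inv, mul_inv_cancel]
  set z := act ⟨n₀, hn₀⟩ x' * x'⁻¹ with hz
  have hz2 : z * z = 1 := by
    have hx' : x' * x' = 1 :=
      Subtype.ext (show x * x = 1 by rw [← pow_two, ← hO.ord, pow_orderOf_eq_one])
    rw [hz, mul_mul_mul_comm, ← map_mul, hx', map_one, one_mul, ← mul_inv, hx', inv_one]
  have hz1 : z ≠ 1 := by
    intro h
    rw [hz, mul_inv_eq_one] at h
    exact hn₀C (hO.stab n₀ hn₀ (congrArg Subtype.val h))
  set y : K := ⟨(z : G), (hkerν z).2 hzker⟩ with hy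
  have hyS : y ∈ (S : Subgroup K) := (hS y).2 z.2
  have hy1 : y ≠ 1 := fun h => hz1 (Subtype.ext (congrArg (fun k : K => (k : G)) h))
  -- the map of inertial quotients
  haveI := cC_normal (P := S)
  have huniq : ∀ n n' : nN P, (∀ r : K, r ∈ (S : Subgroup K) →
      (n : G) * r * (n : G)⁻¹ = (n' : G) * r * (n' : G)⁻¹) →
      (QuotientGroup.mk n : A) = QuotientGroup.mk n' := by
    intro n n' h
    refine QuotientGroup.eq.2 (Subgroup.mem_subgroupOf.2 ?_)
    refine hSfree _ (mul_mem (inv_mem n.2) n'.2) y hyS hy1 ?_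
    calc (n : G)⁻¹ * n' * y * ((n : G)⁻¹ * n')⁻¹
        = (n : G)⁻¹ * ((n' : G) * y * (n' : G)⁻¹) * n := by group
      _ = (y : G) := by rw [← h y hyS]; group
  let ψ : nN S →* A := MonoidHom.mk' (fun k => QuotientGroup.mk (f k)) fun a b => by
    rw [← QuotientGroup.mk_mul]
    refine huniq _ _ fun r hr => ?_
    have hr' : (b : K) * r * (b : K)⁻¹ ∈ (S : Subgroup K) :=
      (Subgroup.mem_normalizer_iff.1 b.2 r).1 hr
    have e1 := hf b r hr
    have e2 := hf a _ hr'
    simp only [Subgroup.coe_mul, Subgroup.coe_inv] at e2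
    rw [hf (a * b) r hr]
    simp only [Subgroup.coe_mul]
    calc ((a : K) : G) * (b : K) * r * (((a : K) : G) * (b : K))⁻¹
        = ((a : K) : G) * (((b : K) : G) * r * ((b : K) : G)⁻¹) * ((a : K) : G)⁻¹ := by group
      _ = (f a : G) * (((b : K) : G) * r * ((b : K) : G)⁻¹) * (f a : G)⁻¹ := by rw [e2]
      _ = (f a : G) * ((f b : G) * r * (f b : G)⁻¹) * (f a : G)⁻¹ := by rw [e1]
      _ = (f a : G) * (f b : G) * r * ((f a : G) * (f b : G))⁻¹ := by group
  have hψker : ψ.ker = (cC S).subgroupOf (nN S) := by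
    ext k
    rw [MonoidHom.mem_ker, Subgroup.mem_subgroupOf]
    constructor
    · intro h
      have hc := Subgroup.mem_subgroupOf.1 ((QuotientGroup.eq_one_iff (f k)).1 h)
      refine Subgroup.mem_centralizer_iff.2 fun r hr => Subtype.ext ?_
      have e := hf k r hr
      rw [conj_cC hc ((hS r).1 hr)] at e
      simp only [Subgroup.coe_mul]
      exact eq_mul_inv_iff_mul_eq.1 e
    · intro h
      show (QuotientGroup.mk (f k) : A) = 1
      rw [← QuotientGroup.mk_one]
      refine huniq _ _ fun r hr => ?_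
      rw [hf k r hr]
      have e := congrArg Subtype.val (Subgroup.mem_centralizer_iff.1 h r hr)
      simp only [Subgroup.coe_mul] at e
      rw [← e, mul_inv_cancel_right]
      simp
  have hdvd : eIdx S ∣ eIdx P := by
    have h := Subgroup.card_subgroup_dvd_card ψ.range
    rw [← Subgroup.index_ker, hψker] at h
    exact h
  rcases he.eq_one_or_self_of_dvd _ hdvd with h1 | h1
  · exfalso
    refine hKns (solvable_of_complement ?_ S hScomm)
    refine AbelianSylow.hasNormalPComplement_of_abelian S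
      ⟨⟨fun a b => Subtype.ext (hScomm _ a.2 _ b.2)⟩⟩ fun n hn _ => ?_
    exact Subgroup.relIndex_eq_one.1 h1 hn
  have hOS : Orbit S y := by
    refine ⟨hScomm, hyS, ?_, fun k hk hfix => ?_⟩
    · rw [← Subgroup.orderOf_coe]
      refine orderOf_eq_prime ?_ fun h => hy1 (Subtype.ext h)
      rw [pow_two]
      exact congrArg Subtype.val hz2
    · have e := hf ⟨k, hk⟩ y hyS
      have hfix' : (k : G) * y * (k : G)⁻¹ = y := congrArg Subtype.val hfix
      have h2 : (f ⟨k, hk⟩ : G) ∈ cC P := hSfree _ (f ⟨k, hk⟩).2 y hyS hy1 (by rw [e]; exact hfix')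
      have h3 : (⟨k, hk⟩ : nN S) ∈ ψ.ker :=
        (QuotientGroup.eq_one_iff _).2 (Subgroup.mem_subgroupOf.2 h2)
      rw [hψker] at h3
      exact h3
  have hfreeS : ∀ n ∈ nN S, ∀ u ∈ (S : Subgroup K), u ≠ 1 → n * u * n⁻¹ = u → n ∈ cC S := by
    intro k hk u hu hu1 hfix
    have e := hf ⟨k, hk⟩ u hu
    have hfix' : (k : G) * u * (k : G)⁻¹ = u := congrArg Subtype.val hfix
    have h2 : (f ⟨k, hk⟩ : G) ∈ cC P := hSfree _ (f ⟨k, hk⟩).2 u hu hu1 (by rw [e]; exact hfix')
    have h3 : (⟨k, hk⟩ : nN S) ∈ ψ.ker :=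
      (QuotientGroup.eq_one_iff _).2 (Subgroup.mem_subgroupOf.2 h2)
    rw [hψker] at h3
    exact h3
  have hcardS := (free_prime hM hOS hfreeS (h1 ▸ he)).2 hKns
  rw [h1, show Nat.card (S : Subgroup K) = Nat.card ν.ker from hRcard] at hcardS
  rw [← hsplit, hcardS, hrange]
  ring

end Cfsg.Agent.RegularOrbit
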