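import Cfsg.Agent.Lib.Blocks.RegularOrbit.Nonsolvable
import Cfsg.Agent.Lib.Blocks.RegularOrbit.Counts

/-!
A prime inertial index gives an involution with trivial stabiliser, and the number of characters
in the principal block of a nonsolvable group.
-/

set_option autoImplicit false
set_option linter.style.haveILetI false

namespace Cfsg.Agent.RegularOrbit

open Cfsg

universe u

variable {G : Type u} [Group G]

/-- With a prime inertial index some involution of the Sylow subgroup is moved. -/
theorem exists_orbit [Finite G] {P : Sylow 2 G}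
    (hab : ∀ a ∈ (P : Subgroup G), ∀ b ∈ (P : Subgroup G), a * b = b * a)
    (he : (eIdx P).Prime) : ∃ x, Orbit P x := by
  haveI : Fact (Nat.Prime 2) := ⟨Nat.prime_two⟩
  haveI := cC_normal (P := P)
  have key : ∀ k : ℕ, ∀ u ∈ (P : Subgroup G), u ^ 2 ^ k = 1 →
      ∀ n ∈ nN P, n * u * n⁻¹ ≠ u → ∃ x, Orbit P x := by
    intro k
    induction k with
    | zero =>
      intro u _ hu n _ hnu
      rw [pow_zero, pow_one] at hu
      exact absurd (by rw [hu]; group) hnu
    | succ k ih =>
      intro u hu hk n hn hnu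
      by_cases h2 : n * u ^ 2 * n⁻¹ = u ^ 2
      · set w := n * u * n⁻¹ * u⁻¹ with hw
        have hnP := mem_P_of_conj hn hu
        have hwP : w ∈ (P : Subgroup G) := mul_mem hnP (inv_mem hu)
        have hw2 : w ^ 2 = 1 := by
          rw [hw, Commute.mul_pow (hab _ hnP _ (inv_mem hu)), conj_pow, h2,
            inv_pow, mul_inv_cancel]
        have hw1 : w ≠ 1 := fun h => hnu (mul_inv_eq_one.1 h)
        refine ⟨w, hab, hwP, orderOf_eq_prime hw2 hw1, ?_⟩
        refine (fixed_or_stab he hwP).resolve_left fun hfix => hw1 ?_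
        have hpow : ∀ j : ℕ, n ^ j * u * (n ^ j)⁻¹ = w ^ j * u := by
          intro j
          induction j with
          | zero => simp
          | succ j ihj =>
            calc n ^ (j + 1) * u * (n ^ (j + 1))⁻¹ = n * (n ^ j * u * (n ^ j)⁻¹) * n⁻¹ := by
                  rw [pow_succ']; group
              _ = (n * w * n⁻¹) ^ j * (n * u * n⁻¹) := by rw [ihj, conj_pow]; group
              _ = w ^ j * (w * u) := by
                  rw [hfix n hn, show n * u * n⁻¹ = w * u by rw [hw]; group]
              _ = w ^ (j + 1) * u := by rw [pow_succ, mul_assoc (w ^ j) w u]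
        have hne : n ^ eIdx P ∈ cC P := by
          have h : ((⟨n, hn⟩ : nN P) ^ eIdx P) ∈ (cC P).subgroupOf (nN P) := by
            rw [← QuotientGroup.eq_one_iff, QuotientGroup.mk_pow]
            exact pow_card_eq_one'
          exact h
        have h3 := hpow (eIdx P)
        rw [conj_cC hne hu, eq_comm, mul_eq_right] at h3


        have := orderOf_dvd_of_pow_eq_one hw2
        have h5 := orderOf_dvd_of_pow_eq_one h3
        exact orderOf_eq_one_iff.1 (Nat.eq_one_of_dvd_coprimes
          ((Nat.Prime.coprime_iff_not_dvd Nat.prime_two).2 (eIdx_odd hab)) this h5)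
      · exact ih (u ^ 2) (pow_mem hu 2) (by rw [← pow_mul, ← pow_succ', hk]) n hn h2
  have hne : ¬ nN P ≤ cC P := fun h => he.ne_one (Subgroup.relIndex_eq_one.2 h)
  obtain ⟨n, hn, hnC⟩ := SetLike.not_le_iff_exists.1 hne
  obtain ⟨u, hu, hnu⟩ : ∃ u ∈ (P : Subgroup G), n * u * n⁻¹ ≠ u := by
    by_contra h
    push Not at h
    exact hnC (Subgroup.mem_centralizer_iff.2 fun u hu => (mul_inv_eq_iff_eq_mul.1 (h u hu)).symm)
  obtain ⟨k, hk⟩ := IsPGroup.iff_orderOf.1 P.isPGroup' ⟨u, hu⟩
  rw [Subgroup.orderOf_mk] at hk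
  exact key k u hu (by rw [← hk, pow_orderOf_eq_one]) n hn hnu

/-- A nonsolvable group has as many characters in the principal block as Sylow elements. -/
theorem card_principal_nonsolvable [Fintype G] {M : Ideal AlgInt} [M.IsPrime] {P : Sylow 2 G}
    {x : G} (hM : IsPModular 2 M) (hO : Orbit P x) (he : (eIdx P).Prime)
    (hns : ¬ Group.IsSolvable G) :
    Nat.card (principalBlock M G) = Nat.card (P : Subgroup G) := by
  obtain ⟨F, hF, -, -, -, -, hk⟩ := count_prime hM hO he
  have hq := card_of_nonsolvable hM hO he hns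
  rw [← hF] at hq
  refine Nat.eq_of_mul_eq_mul_right he.pos (hk.trans ?_)
  rw [hq, Nat.mul_succ, Nat.add_sub_cancel]
  ring

end Cfsg.Agent.RegularOrbit
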