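import Cfsg.Agent.Lib.Blocks.RegularOrbit.Frame

/-!
The projection of the subgroup spanned by the odd frame and the Sylow subgroup onto the latter.
-/

set_option autoImplicit false
set_option linter.style.haveILetI false
set_option linter.unusedSectionVars false

namespace Cfsg.Agent.RegularOrbit

open Cfsg

universe u

variable {G : Type u} [Group G] [Finite G] {P : Sylow 2 G} {W : Subgroup G}

namespace Frame

variable (hF : Frame P W)
include hF

theorem inf_bot {v : G} (hv : v ∈ (P : Subgroup G)) (hw : v ∈ W) : v = 1 := by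
  haveI : Fact (Nat.Prime 2) := ⟨Nat.prime_two⟩
  obtain ⟨k, hk⟩ := IsPGroup.iff_orderOf.1 P.isPGroup' ⟨v, hv⟩
  rw [Subgroup.orderOf_mk] at hk
  rcases k with _ | k
  · exact orderOf_eq_one_iff.1 (by simpa using hk)
  · exact absurd (((dvd_pow_self 2 (Nat.succ_ne_zero k)).trans hk.symm.dvd).trans
      (Subgroup.orderOf_dvd_natCard W hw)) hF.odd

theorem mem_K {k : G} (hk : k ∈ W ⊔ (P : Subgroup G)) :
    ∃ v ∈ (P : Subgroup G), v⁻¹ * k ∈ W := by
  have hle : (P : Subgroup G) ≤ Subgroup.normalizer (W : Set G) := fun v hv =>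
    Subgroup.mem_normalizer_iff.2 fun h => ⟨fun hh => hF.normN v (Subgroup.le_normalizer hv) h hh,
      fun hh => by
        have := hF.normN v⁻¹ (inv_mem (Subgroup.le_normalizer hv)) _ hh
        simpa [mul_assoc] using this⟩
  rw [sup_comm, ← SetLike.mem_coe, Subgroup.coe_mul_of_left_le_normalizer_right _ _ hle] at hk
  obtain ⟨v, hv, w, hw, rfl⟩ := Set.mem_mul.1 hk
  exact ⟨v, hv, by simpa using hw⟩

theorem K_le_H : W ⊔ (P : Subgroup G) ≤ nN P ⊔ W :=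
  sup_le le_sup_right (Subgroup.le_normalizer.trans le_sup_left)

/-- The projection. -/
theorem exists_proj (hab : ∀ a ∈ (P : Subgroup G), ∀ b ∈ (P : Subgroup G), a * b = b * a) :
    ∃ π : ↥(W ⊔ (P : Subgroup G)) →* ↥(P : Subgroup G),
      ∀ k, ((π k : G))⁻¹ * (k : G) ∈ W := by
  classical
  choose f hfP hfW using fun k : ↥(W ⊔ (P : Subgroup G)) => hF.mem_K k.2
  refine ⟨MonoidHom.mk' (fun k => ⟨f k, hfP k⟩) fun a b => Subtype.ext ?_, fun k => hfW k⟩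
  show f (a * b) = f a * f b
  have hW' : (f a * f b)⁻¹ * ((a : G) * (b : G)) ∈ W := by
    have e : (f a * f b)⁻¹ * ((a : G) * b) =
        (f b)⁻¹ * ((f a)⁻¹ * a) * f b * ((f b)⁻¹ * b) := by group
    rw [e]
    refine mul_mem ?_ (hfW b)
    have := hF.normN (f b)⁻¹ (inv_mem (Subgroup.le_normalizer (hfP b))) _ (hfW a)
    simpa using this
  have h := mul_mem hW' (inv_mem (hfW (a * b)))
  have h1 : (f a * f b)⁻¹ * f (a * b) = 1 := hF.inf_bot
    (mul_mem (inv_mem (mul_mem (hfP a) (hfP b))) (hfP (a * b))) (by simpa [mul_assoc] using h)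
  exact (inv_mul_eq_one.1 h1).symm

theorem K_inf_N (hab : ∀ a ∈ (P : Subgroup G), ∀ b ∈ (P : Subgroup G), a * b = b * a) {k : G}
    (hk : k ∈ W ⊔ (P : Subgroup G)) (hn : k ∈ nN P) : k ∈ cC P := by
  obtain ⟨v, hv, hw⟩ := hF.mem_K hk
  set w := v⁻¹ * k with hwdef
  have hwN : w ∈ nN P := mul_mem (inv_mem (Subgroup.le_normalizer hv)) hn
  have hwC : w ∈ cC P := Subgroup.mem_centralizer_iff.2 fun u hu => by
    have h1 : w * u * w⁻¹ * u⁻¹ ∈ (P : Subgroup G) :=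
      mul_mem (mem_P_of_conj hwN hu) (inv_mem hu)
    have h2 : w * u * w⁻¹ * u⁻¹ ∈ W := by
      rw [show w * u * w⁻¹ * u⁻¹ = w * (u * w⁻¹ * u⁻¹) by group]
      exact mul_mem hw (hF.normN u (Subgroup.le_normalizer hu) _ (inv_mem hw))
    exact (mul_inv_eq_iff_eq_mul.1 (mul_inv_eq_one.1 (hF.inf_bot h1 h2))).symm
  have := mul_mem (le_cC hab hv) hwC
  rwa [hwdef, mul_inv_cancel_left] at this

theorem cC_le_K {u : G} (hu : u ∈ (P : Subgroup G)) (hu1 : u ≠ 1) :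
    cC P ≤ W ⊔ (P : Subgroup G) := fun c hc =>
  hF.cent u hu hu1 c (Subgroup.mem_centralizer_iff.1 hc u hu).symm

theorem mem_H {m : G} (hm : m ∈ nN P ⊔ W) : ∃ n ∈ nN P, n⁻¹ * m ∈ W := by
  have hle : nN P ≤ Subgroup.normalizer (W : Set G) := fun v hv =>
    Subgroup.mem_normalizer_iff.2 fun h => ⟨fun hh => hF.normN v hv h hh,
      fun hh => by
        have := hF.normN v⁻¹ (inv_mem hv) _ hh
        simpa [mul_assoc] using this⟩
  rw [← SetLike.mem_coe, Subgroup.coe_mul_of_left_le_normalizer_right _ _ hle] at hm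
  obtain ⟨v, hv, w, hw, rfl⟩ := Set.mem_mul.1 hm
  exact ⟨v, hv, by simpa using hw⟩

theorem normH {m w : G} (hm : m ∈ nN P ⊔ W) (hw : w ∈ W) : m * w * m⁻¹ ∈ W := by
  obtain ⟨n, hn, hw'⟩ := hF.mem_H hm
  have h := hF.normN n hn _ (mul_mem (mul_mem hw' hw) (inv_mem hw'))
  rwa [show n * (n⁻¹ * m * w * (n⁻¹ * m)⁻¹) * n⁻¹ = m * w * m⁻¹ by group] at h

theorem normK {m k : G} (hm : m ∈ nN P ⊔ W) (hk : k ∈ W ⊔ (P : Subgroup G)) :
    m * k * m⁻¹ ∈ W ⊔ (P : Subgroup G) := by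
  obtain ⟨n, hn, hw⟩ := hF.mem_H hm
  obtain ⟨v, hv, hw'⟩ := hF.mem_K hk
  have h1 : n⁻¹ * m * k * (n⁻¹ * m)⁻¹ ∈ W ⊔ (P : Subgroup G) :=
    mul_mem (mul_mem (Subgroup.mem_sup_left hw) hk) (inv_mem (Subgroup.mem_sup_left hw))
  obtain ⟨v', hv', hw''⟩ := hF.mem_K h1
  have e : m * k * m⁻¹ =
      n * v' * n⁻¹ * (n * (v'⁻¹ * (n⁻¹ * m * k * (n⁻¹ * m)⁻¹)) * n⁻¹) := by group
  rw [e]
  exact mul_mem (Subgroup.mem_sup_right (mem_P_of_conj hn hv'))
    (Subgroup.mem_sup_left (hF.normN n hn _ hw''))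

/-- An element of the big subgroup whose square lies in the small one lies in it. -/
theorem mem_K_of_sq (hab : ∀ a ∈ (P : Subgroup G), ∀ b ∈ (P : Subgroup G), a * b = b * a) {u : G}
    (hu : u ∈ (P : Subgroup G)) (hu1 : u ≠ 1) {m : G} (hm : m ∈ nN P ⊔ W)
    (hm2 : m * m ∈ W ⊔ (P : Subgroup G)) : m ∈ W ⊔ (P : Subgroup G) := by
  obtain ⟨n, hn, hw⟩ := hF.mem_H hm
  set w := n⁻¹ * m with hwdef
  have hwK : w ∈ W ⊔ (P : Subgroup G) := Subgroup.mem_sup_left hw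
  have hn2K : n * n ∈ W ⊔ (P : Subgroup G) := by
    have h1 : n⁻¹ * w * n * w ∈ W ⊔ (P : Subgroup G) := mul_mem (by
      have := hF.normN n⁻¹ (inv_mem hn) _ hw
      rw [inv_inv] at this
      exact Subgroup.mem_sup_left this) hwK
    have h2 := mul_mem hm2 (inv_mem h1)
    have e : m * m * (n⁻¹ * w * n * w)⁻¹ = n * n := by rw [hwdef]; group; rw [zpow_two]
    rwa [e] at h2
  have hn2C := hF.K_inf_N hab hn2K (mul_mem hn hn)
  haveI := cC_normal (P := P)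
  have hne : (⟨n, hn⟩ : nN P) ^ eIdx P ∈ (cC P).subgroupOf (nN P) :=
    Subgroup.pow_index_mem ((cC P).subgroupOf (nN P)) _
  rw [Subgroup.mem_subgroupOf, SubmonoidClass.coe_pow] at hne
  obtain ⟨i, hi⟩ : Odd (eIdx P) := Nat.odd_iff.2 (Nat.two_dvd_ne_zero.1 (eIdx_odd hab))
  have hnC : n ∈ cC P := by
    have h := mul_mem (inv_mem (pow_mem hn2C i)) hne
    rwa [hi, pow_succ, pow_mul, pow_two, inv_mul_cancel_left] at h
  have := mul_mem (hF.cC_le_K hu hu1 hnC) hwK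
  rwa [hwdef, mul_inv_cancel_left] at this

end Frame

end Cfsg.Agent.RegularOrbit
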