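import Cfsg.Agent.Lib.Blocks.RegularOrbit.Local
import Cfsg.Agent.Lib.Blocks.ExceptionalCoherence
import Cfsg.Agent.Lib.Star.Abelian.Count

/-!
The rows of a principal 2-block with free inertia and more orbits than the inertial index.
-/

set_option autoImplicit false
set_option linter.style.haveILetI false
set_option linter.unusedSectionVars false

namespace Cfsg.Agent.RegularOrbit

open Cfsg Cfsg.Agent.Blocks Cfsg.Agent.Char Cfsg.Agent.BrauerPairs
open scoped ComplexConjugate

universe u

variable {G : Type u} [Group G] [Fintype G] {M : Ideal AlgInt} [M.IsPrime] {P : Sylow 2 G} {x : G}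

open scoped Classical in
/-- The rows. -/
structure RowSet (M : Ideal AlgInt) [M.IsPrime] (G : Type u) [Group G] [Fintype G] (e m : ℕ) where
  /-- The unit rows. -/
  η : Fin m → IrrCharacter G
  /-- The sign. -/
  δ : ℤ
  /-- The constants of the other rows. -/
  b : IrrCharacter G → ℤ
  sign : δ = 1 ∨ δ = -1
  inj : Function.Injective η
  mem : ∀ i, η i ∈ principalBlock M G
  unit_b : ∀ i, b (η i) = 0
  off : ∀ χ ∈ principalBlock M G, (∀ i, η i ≠ χ) → ∀ g : G, 2 ∣ orderOf g →
    (χ : G → ℂ) g = (b χ : ℂ)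
  norm : ∑ χ ∈ Finset.univ.filter (· ∈ principalBlock M G), b χ * b χ = (e : ℤ)
  one : b (principal G) = 1
  principal_ne : ∀ i, η i ≠ principal G
  regular : ∀ i, ∀ s : G, ¬ 2 ∣ orderOf s → (δ : ℂ) * (η i : G → ℂ) s +
    ∑ χ ∈ Finset.univ.filter (· ∈ principalBlock M G), (b χ : ℂ) * (χ : G → ℂ) s = 0
  singular : ∀ g : G, 2 ∣ orderOf g → ∑ i, (δ : ℂ) * (η i : G → ℂ) g = 1

/-- A linear character trivial on the elements of odd order is trivial when the inertial quotient
acts without fixed points. -/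
theorem eq_principal_of_linear (hab : ∀ a ∈ (P : Subgroup G), ∀ b ∈ (P : Subgroup G), a * b = b * a)
    (hfree : ∀ n ∈ nN P, ∀ u ∈ (P : Subgroup G), u ≠ 1 → n * u * n⁻¹ = u → n ∈ cC P)
    (he : eIdx P ≠ 1) {χ : IrrCharacter G}
    (h : ∀ s : G, ¬ 2 ∣ orderOf s → (χ : G → ℂ) s = 1) : χ = principal G := by
  classical
  haveI : Fact (Nat.Prime 2) := ⟨Nat.prime_two⟩
  obtain ⟨f, hf⟩ := exists_hom_of_degree_one (irr_isCharacter χ) (h 1 (by simp))
  obtain ⟨n, hn, hnC⟩ : ∃ n ∈ nN P, n ∉ cC P := by
    by_contra hcon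
    push Not at hcon
    exact he (Subgroup.relIndex_eq_one.2 hcon)
  let τ : ↥(P : Subgroup G) → ↥(P : Subgroup G) := fun v =>
    ⟨n * v * n⁻¹ * (v : G)⁻¹, mul_mem (mem_P_of_conj hn v.2) (inv_mem v.2)⟩
  have hτ : Function.Injective τ := by
    intro v w e
    have e' : n * (v : G) * n⁻¹ * (v : G)⁻¹ = n * w * n⁻¹ * (w : G)⁻¹ := congrArg Subtype.val e
    by_contra hvw
    refine hnC (hfree n hn ((w : G)⁻¹ * v) (mul_mem (inv_mem w.2) v.2)
      (fun h1 => hvw (Subtype.ext (inv_mul_eq_one.1 h1).symm)) ?_)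
    calc n * ((w : G)⁻¹ * v) * n⁻¹ = (n * w * n⁻¹)⁻¹ * (n * v * n⁻¹ * (v : G)⁻¹ * v) := by group
      _ = (w : G)⁻¹ * v := by rw [e']; group
  have hP : ∀ v ∈ (P : Subgroup G), f v = 1 := by
    intro v hv
    obtain ⟨w, hw⟩ := (Finite.injective_iff_surjective.1 hτ) ⟨v, hv⟩
    have e' : n * (w : G) * n⁻¹ * (w : G)⁻¹ = v := congrArg Subtype.val hw
    rw [← e', map_mul, map_mul, map_mul, map_inv, map_inv, mul_comm (f n), mul_inv_cancel_right,
      mul_inv_cancel]
  refine Subtype.ext ?_
  rw [hf]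
  funext g
  show ((f g : ℂˣ) : ℂ) = 1
  obtain ⟨a, b, hab', -, hpow, hb⟩ := Blocks.exists_isPPart Nat.prime_two g
  obtain ⟨v, hv, hav⟩ := conj_into (P := P) hpow
  obtain ⟨c, rfl⟩ := isConj_iff.1 hav
  have ha : f a = 1 := by
    have := hP _ hv
    rwa [map_mul, map_mul, map_inv, mul_comm (f c), mul_inv_cancel_right] at this
  have hb1 : ((f b : ℂˣ) : ℂ) = 1 := by rw [← h b hb, hf]
  rw [← hab', map_mul, ha, one_mul, hb1]

set_option maxHeartbeats 1000000 in
open scoped Classical in
/-- The rows exist. -/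
theorem exists_rowSet (hM : IsPModular 2 M) (hO : Orbit P x)
    (hfree : ∀ n ∈ nN P, ∀ u ∈ (P : Subgroup G), u ≠ 1 → n * u * n⁻¹ = u → n ∈ cC P)
    (he : eIdx P ≠ 1) {m : ℕ} (hm : m * eIdx P + 1 = Nat.card (P : Subgroup G))
    (hm2 : eIdx P + 2 ≤ m) :
    Nonempty (RowSet M G (eIdx P) m) := by
  classical
  haveI : Fact (Nat.Prime 2) := ⟨Nat.prime_two⟩
  haveI : Fintype (cC P) := Fintype.ofFinite _
  have hx1 : x ≠ 1 := fun e => by
    have := hO.ord
    rw [e, orderOf_one] at this
    omega
  have hP1 : (P : Subgroup G) ≠ ⊥ := fun e => hx1 (by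
    have := hO.mem
    rwa [e, Subgroup.mem_bot] at this)
  let B := principalBlock M G
  have hB : IsPBlock M B := isPBlock_principalBlock M G
  have hstabP : stabP ((P : Subgroup G), zB M (cC P) (principalBlock M (cC P))) = nN P :=
    Subgroup.ext (mem_stab_principal hM)
  have hfree' : FreeInertia (P : Subgroup G) (zB M (cC P) (principalBlock M (cC P))) :=
    fun g hg u hu hu1 h => hfree g ((mem_stab_principal hM g).1 hg) u hu hu1 h
  have hidx : (Subgroup.centralizer ((P : Subgroup G) : Set G)).relIndex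
      (stabP ((P : Subgroup G), zB M (Subgroup.centralizer ((P : Subgroup G) : Set G))
        (principalBlock M (cC P)))) = eIdx P := congrArg (cC P).relIndex hstabP
  have hPD := principal_defect (P := P) hM
  have hc := principal_induced (P := P) hM hO.comm
  obtain ⟨m₁, X, hm₁, hgram, hnz, hkill⟩ :=
    Abelian.exists_inertial_rows hM hPD hP1 (le_cC hO.comm) hc hfree'
  obtain ⟨m', hm', he1, hk, -, -⟩ := Abelian.abelian_free_counts hM hPD hP1 (le_cC hO.comm) hc
    hfree' (e := eIdx P) hidx
  have hm₁' : m₁ * eIdx P + 1 = Nat.card (P : Subgroup G) :=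
    (congrArg (fun t => m₁ * t + 1) hidx).symm.trans hm₁
  replace hgram : ∀ i i', ∑ b, X b i * X b i' = (if i = i' then 1 else 0) + (eIdx P : ℤ) :=
    fun i i' => (hgram i i').trans (congrArg (fun t : ℕ => (if i = i' then (1 : ℤ) else 0) + (t : ℤ)) hidx)
  have epos : 0 < eIdx P := he1
  obtain rfl : m = m₁ := Nat.eq_of_mul_eq_mul_right epos (by omega)
  obtain rfl : m = m' := Nat.eq_of_mul_eq_mul_right epos (by omega)
  have hl1 : 1 ≤ blockRank 2 (principalBlock M G) := one_le_blockRank hM hB
  have hcard : Fintype.card {χ // χ ∈ principalBlock M G} = Nat.card (principalBlock M G) := Nat.card_eq_fintype_card.symm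
  have h1 : ¬ 2 ∣ orderOf (1 : G) := by simp
  -- coherence
  obtain ⟨δ, η, hδ, -, hinj, hdiff⟩ := Cfsg.Agent.ExPrincipal.coherent (Finset.univ : Finset {χ // χ ∈ principalBlock M G})
    (Finset.univ : Finset (Fin m)) (fun i b => X b i) (fun b => (charDegree (b.1 : G → ℂ) : ℤ))
    (by rw [Finset.card_univ, Fintype.card_fin]; omega)
    (fun b _ => by exact_mod_cast charDegree_pos b.1)
    (fun i _ j _ k _ l _ => by
      simp only [sub_mul, mul_sub, Finset.sum_sub_distrib, hgram]
      ring)
    (fun i _ j _ => by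
      apply Int.cast_injective (α := ℂ)
      push_cast
      have hi := hkill i 1 h1
      have hj := hkill j 1 h1
      simp only [irr_one_eq_charDegree] at hi hj
      simp only [sub_mul, Finset.sum_sub_distrib, hi, hj, sub_zero])
  have hinj' : Function.Injective η := fun i j h =>
    hinj (Finset.mem_coe.2 (Finset.mem_univ i)) (Finset.mem_coe.2 (Finset.mem_univ j)) h
  have hδ2 : δ * δ = 1 := by rcases hδ with h | h <;> rw [h] <;> norm_num
  set i₀ : Fin m := ⟨0, by omega⟩
  let base : {χ // χ ∈ principalBlock M G} → ℤ := fun b => X b i₀ - δ * (if b = η i₀ then 1 else 0)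
  have hform : ∀ b i, X b i = base b + δ * (if b = η i then 1 else 0) := by
    intro b i
    have h := hdiff i (Finset.mem_univ i) i₀ (Finset.mem_univ i₀) b (Finset.mem_univ b)
    simp only [Cfsg.Agent.ExPrincipal.ud] at h
    simp only [base]
    linear_combination h
  have key : ∀ i, ∑ b, base b * base b + 2 * δ * base (η i) = (eIdx P : ℤ) := by
    intro i
    have h := hgram i i
    rw [if_pos rfl, Finset.sum_congr rfl fun b _ => show X b i * X b i =
      base b * base b + (if b = η i then 2 * δ * base (η i) + 1 else 0) by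
        rw [hform b i]
        by_cases hb : b = η i
        · rw [if_pos hb, if_pos hb, hb]; linear_combination hδ2
        · rw [if_neg hb, if_neg hb]; ring,
      Finset.sum_add_distrib, Finset.sum_ite_eq' Finset.univ (η i)
        (fun _ => 2 * δ * base (η i) + 1), if_pos (Finset.mem_univ _)] at h
    linarith
  set Cs := ((Finset.univ : Finset (Fin m)).image η)ᶜ with hCs
  have hCs0 : ∀ b, b ∈ Cs ↔ ∀ i, η i ≠ b := fun b => by simp [hCs]
  have hbase0 : ∀ b ∈ Cs, base b ≠ 0 := by
    intro b hb h0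
    obtain ⟨i, hi⟩ := hnz b
    apply hi
    rw [hform, h0, if_neg (fun h => (hCs0 b).1 hb i h.symm)]
    ring
  have hsplit : ∀ f : {χ // χ ∈ principalBlock M G} → ℤ, ∑ b, f b = ∑ b ∈ Cs, f b + ∑ j, f (η j) := fun f => by
    rw [← Finset.sum_compl_add_sum ((Finset.univ : Finset (Fin m)).image η),
      Finset.sum_image fun a _ b _ h => hinj' h]
  have hQ : ∀ i, base (η i) = 0 := by
    have hQe : ∀ i, base (η i) = base (η i₀) := fun i => by
      have h1 := key i
      have h2 := key i₀
      rcases hδ with h | h <;> rw [h] at h1 h2 <;> linarith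
    intro i
    rw [hQe i]
    obtain ⟨b₀, hb₀⟩ : Cs.Nonempty := Finset.card_pos.1 (by
      rw [hCs, Finset.card_compl, Finset.card_image_of_injective _ hinj', Finset.card_univ,
        Fintype.card_fin, hcard, hk]
      omega)
    have hsum := key i₀
    rw [hsplit, Finset.sum_congr rfl (g := fun _ => base (η i₀) * base (η i₀))
      (s₁ := (Finset.univ : Finset (Fin m))) fun j _ => by rw [hQe j], Finset.sum_const,
      Finset.card_univ, Fintype.card_fin, nsmul_eq_mul] at hsum
    have hge : 1 ≤ ∑ b ∈ Cs, base b * base b := le_trans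
      (mul_self_pos.2 (hbase0 b₀ hb₀))
      (Finset.single_le_sum (fun b _ => mul_self_nonneg (base b)) hb₀)
    by_contra hne
    set Q := base (η i₀)
    have hm2' : (eIdx P : ℤ) + 2 ≤ (m : ℤ) := by exact_mod_cast hm2
    rcases lt_or_gt_of_ne hne with hq | hq <;> rcases hδ with h | h <;> rw [h] at hsum <;>
      nlinarith [mul_le_mul_of_nonneg_left (show 1 ≤ Q * Q by nlinarith)
        (show (0 : ℤ) ≤ (m : ℤ) - 2 by omega)]
  have hXη : ∀ j i, X (η j) i = δ * (if j = i then 1 else 0) := fun j i => by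
    rw [hform, hQ, zero_add]
    by_cases h : j = i
    · subst h; simp
    · rw [if_neg h, if_neg fun h' => h (hinj' h')]
  have hXC : ∀ b ∈ Cs, ∀ i, X b i = base b := fun b hb i => by
    rw [hform, if_neg (fun h => (hCs0 b).1 hb i h.symm), mul_zero, add_zero]
  have hregη : ∀ i, ∀ s : G, ¬ 2 ∣ orderOf s →
      (δ : ℂ) * ((η i).1 : G → ℂ) s + ∑ b, (base b : ℂ) * (b.1 : G → ℂ) s = 0 := by
    intro i s hs
    rw [← hkill i s hs]
    have e : ∀ b : {χ // χ ∈ principalBlock M G}, (X b i : ℂ) * (b.1 : G → ℂ) s =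
        (base b : ℂ) * (b.1 : G → ℂ) s + (if b = η i then (δ : ℂ) * (b.1 : G → ℂ) s else 0) :=
      fun b => by
        rw [hform]
        split_ifs <;> push_cast <;> ring
    rw [Finset.sum_congr rfl fun b _ => e b, Finset.sum_add_distrib, Finset.sum_ite_eq',
      if_pos (Finset.mem_univ _), add_comm]
  -- the singular columns lie in the span of the rows
  let L : ({χ // χ ∈ principalBlock M G} → ℂ) →ₗ[ℂ] (G → ℂ) :=
    Fintype.linearCombination ℂ fun b => pRegularPart 2 (b.1 : G → ℂ)
  have hrange : LinearMap.range L = Submodule.span ℂ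
      ((fun χ : IrrCharacter G => pRegularPart 2 (χ : G → ℂ)) '' B) := by
    rw [Fintype.range_linearCombination, Set.image_eq_range]
  have hLker : ∀ v : {χ // χ ∈ principalBlock M G} → ℂ,
      v ∈ LinearMap.ker L ↔ ∀ s : G, ¬ 2 ∣ orderOf s → ∑ b, v b * (b.1 : G → ℂ) s = 0 := by
    intro v
    rw [LinearMap.mem_ker, funext_iff]
    simp only [L, Fintype.linearCombination_apply, Finset.sum_apply, Pi.smul_apply, smul_eq_mul,
      pRegularPart_apply, Pi.zero_apply]
    refine ⟨fun h s hs => by simpa [hs] using h s, fun h s => ?_⟩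
    by_cases hs : 2 ∣ orderOf s
    · simp [hs]
    · simpa [hs] using h s hs
  let Xv : Fin m → LinearMap.ker L := fun i => ⟨fun b => (X b i : ℂ), (hLker _).2 (hkill i)⟩
  have hli : LinearIndependent ℂ Xv := by
    refine LinearIndependent.of_comp (LinearMap.ker L).subtype
      (Fintype.linearIndependent_iff.2 fun c hc i => ?_)
    have h := congrFun hc (η i)
    simp only [Xv, Function.comp_apply, Submodule.coe_subtype, Finset.sum_apply, Pi.smul_apply,
      smul_eq_mul, hXη, Pi.zero_apply] at h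
    push_cast at h
    simp only [mul_ite, mul_one, mul_zero, Finset.sum_ite_eq, Finset.mem_univ, if_true] at h
    exact (mul_eq_zero.1 h).resolve_right
      (Int.cast_ne_zero.2 (by rcases hδ with h' | h' <;> rw [h'] <;> norm_num))
  have hfin : Module.finrank ℂ (LinearMap.ker L) = m := by
    have h2 := L.finrank_range_add_finrank_ker
    rw [hrange, Module.finrank_pi, hcard, hk] at h2
    change blockRank 2 (principalBlock M G) + _ = _ at h2
    omega
  have hcol : ∀ g : G, 2 ∣ orderOf g → ∃ S : ℂ,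
      (∀ b ∈ Cs, conj ((b.1 : G → ℂ) g) = S * (base b : ℂ)) ∧
        S = ∑ j, (δ : ℂ) * conj (((η j).1 : G → ℂ) g) := by
    intro g hg
    have hmem : (fun b : {χ // χ ∈ principalBlock M G} => conj ((b.1 : G → ℂ) g)) ∈ LinearMap.ker L := (hLker _).2 fun s hs => by
      have h := blockPair_regular_singular hM hB hs hg
      unfold blockPair at h
      rw [← h, Finset.sum_subtype (p := fun θ => θ ∈ B) (Finset.univ.filter (· ∈ B))
        (fun θ => by simp) fun θ => (θ : G → ℂ) s * conj ((θ : G → ℂ) g)]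
      exact Finset.sum_congr rfl fun b _ => mul_comm _ _
    have htop := hli.span_eq_top_of_card_eq_finrank' (by rw [Fintype.card_fin, hfin])
    have hs : (⟨_, hmem⟩ : LinearMap.ker L) ∈ Submodule.span ℂ (Set.range Xv) := by
      rw [htop]; exact Submodule.mem_top
    obtain ⟨c, hc⟩ := (Submodule.mem_span_range_iff_exists_fun ℂ).1 hs
    have hv : ∀ b : {χ // χ ∈ principalBlock M G}, conj ((b.1 : G → ℂ) g) = ∑ i, c i * (X b i : ℂ) := fun b => by
      have h := congrArg (fun q : LinearMap.ker L => (q : {χ // χ ∈ principalBlock M G} → ℂ) b) hc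
      simpa [Xv] using h.symm
    refine ⟨∑ i, c i, fun b hb => ?_, ?_⟩
    · rw [hv, Finset.sum_mul]
      exact Finset.sum_congr rfl fun i _ => by rw [hXC b hb]
    · refine Finset.sum_congr rfl fun j _ => ?_
      rw [hv]
      simp only [hXη]
      push_cast
      simp only [mul_ite, mul_one, mul_zero, Finset.sum_ite_eq, Finset.mem_univ, if_true]
      rw [mul_comm (c j), ← mul_assoc, show (δ : ℂ) * δ = 1 by exact_mod_cast hδ2, one_mul]
  -- the principal character
  set pr : {χ // χ ∈ principalBlock M G} := ⟨principal G, principal_mem_principalBlock⟩ with hpr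
  have hprC : pr ∈ Cs := by
    rw [hCs0]
    intro i hi
    obtain ⟨j, hj⟩ : ∃ j : Fin m, j ≠ i := Fintype.exists_ne_of_one_lt_card
      (by rw [Fintype.card_fin]; omega) i
    refine hj (hinj' (Subtype.ext ?_))
    rw [hi, hpr]
    refine eq_principal_of_linear hO.comm hfree he fun s hs => ?_
    have e := (hregη j s hs).trans (hregη i s hs).symm
    rw [hi] at e
    have e' : (δ : ℂ) * ((η j).1 : G → ℂ) s = (δ : ℂ) * 1 := by
      have : ((pr.1 : IrrCharacter G) : G → ℂ) s = 1 := rfl
      rw [this] at e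
      linear_combination e
    exact mul_left_cancel₀ (Int.cast_ne_zero.2 (fun h => by rw [h] at hδ2; simp at hδ2)) e'
  set σ := base pr with hσ
  have hσS : ∀ g : G, 2 ∣ orderOf g → ∀ S : ℂ,
      (∀ b ∈ Cs, conj ((b.1 : G → ℂ) g) = S * (base b : ℂ)) → S * (σ : ℂ) = 1 := fun g _ S hS => by
    rw [← hS pr hprC]
    exact map_one _
  have hσ2 : σ = 1 ∨ σ = -1 := by
    have hxdvd : 2 ∣ orderOf x := by rw [hO.ord]
    obtain ⟨S, hS, hS2⟩ := hcol x hxdvd
    choose d hd _ using fun χ : IrrCharacter G => char_involution χ hO.ord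
    have h := hσS x hxdvd S hS
    rw [hS2] at h
    have h' : ((((∑ j, δ * d (η j).1) * σ : ℤ)) : ℂ) = ((1 : ℤ) : ℂ) := by
      push_cast
      rw [← h]
      simp only [hd, map_intCast]
    exact Int.eq_one_or_neg_one_of_mul_eq_one (by rw [mul_comm]; exact_mod_cast h')
  have hσσ : σ * σ = 1 := by rcases hσ2 with h | h <;> rw [h] <;> norm_num
  have hS : ∀ g : G, 2 ∣ orderOf g →
      (∀ b ∈ Cs, conj ((b.1 : G → ℂ) g) = (σ : ℂ) * (base b : ℂ)) ∧
        (σ : ℂ) = ∑ j, (δ : ℂ) * conj (((η j).1 : G → ℂ) g) := by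
    intro g hg
    obtain ⟨S, h1, h2⟩ := hcol g hg
    have h3 := hσS g hg S h1
    have h4 : S = (σ : ℂ) := by
      have hσc : (σ : ℂ) * (σ : ℂ) = 1 := by exact_mod_cast hσσ
      linear_combination (σ : ℂ) * h3 - S * hσc
    subst h4
    exact ⟨h1, h2⟩
  let bb : IrrCharacter G → ℤ := fun χ => if h : χ ∈ B then σ * base ⟨χ, h⟩ else 0
  have hbb : ∀ b : {χ // χ ∈ principalBlock M G}, bb b.1 = σ * base b := fun b => dif_pos b.2
  refine ⟨{
    η := fun i => (η i).1
    δ := σ * δ
    b := bb
    sign := ?_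
    inj := fun i j h => hinj' (Subtype.ext h)
    mem := fun i => (η i).2
    unit_b := fun i => by rw [hbb, hQ, mul_zero]
    off := ?_
    norm := ?_
    one := ?_
    principal_ne := fun i h => (hCs0 pr).1 hprC i (Subtype.ext h)
    regular := ?_
    singular := ?_ }⟩
  · rcases hσ2 with h | h <;> rcases hδ with h' | h' <;> rw [h, h'] <;> norm_num
  · intro χ hχ hne g hg
    have h := (hS g hg).1 ⟨χ, hχ⟩ ((hCs0 _).2 fun i e => hne i (congrArg Subtype.val e))
    rw [hbb ⟨χ, hχ⟩]
    have h' := congrArg conj h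
    rw [starRingEnd_self_apply, map_mul, map_intCast, map_intCast] at h'
    push_cast
    exact h'
  · rw [Finset.sum_subtype (p := fun θ => θ ∈ B) (Finset.univ.filter (· ∈ B)) (fun θ => by simp)
      fun θ => bb θ * bb θ]
    have h := key i₀
    rw [hQ, mul_zero, add_zero] at h
    rw [← h]
    exact Finset.sum_congr rfl fun b _ => by rw [hbb]; linear_combination base b * base b * hσσ
  · exact (hbb pr).trans hσσ
  · intro i s hs
    rw [Finset.sum_subtype (p := fun θ => θ ∈ B) (Finset.univ.filter (· ∈ B)) (fun θ => by simp)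
      fun θ => (bb θ : ℂ) * (θ : G → ℂ) s, Finset.sum_congr rfl (g := fun b : {χ // χ ∈ principalBlock M G} => (σ : ℂ) *
      ((base b : ℂ) * (b.1 : G → ℂ) s)) fun b _ => by rw [hbb]; push_cast; ring, ← Finset.mul_sum]
    have h := hregη i s hs
    push_cast
    linear_combination (σ : ℂ) * h
  · intro g hg
    have h' := congrArg conj (hS g hg).2
    simp only [map_intCast, map_sum, map_mul, starRingEnd_self_apply] at h'
    push_cast
    simp only [mul_assoc, ← Finset.mul_sum]
    simp only [← Finset.mul_sum] at h'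
    rw [← h']
    exact_mod_cast hσσ

end Cfsg.Agent.RegularOrbit
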