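import Cfsg.Agent.Lib.Blocks.RegularOrbit.Projection

/-!
A strongly embedded frame with one class of involutions.
-/

set_option autoImplicit false
set_option linter.style.haveILetI false
set_option linter.unusedSectionVars false

namespace Cfsg.Agent.RegularOrbit

open Cfsg

universe u

variable {G : Type u} [Group G] [Finite G]

/-- The data: a frame, the projection, and transitivity on the involutions. -/
structure Setting (P : Sylow 2 G) (x : G) (W : Subgroup G) where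
  orbit : Orbit P x
  free : ∀ n ∈ nN P, ∀ u ∈ (P : Subgroup G), u ≠ 1 → n * u * n⁻¹ = u → n ∈ cC P
  frame : Frame P W
  embedded : IsStronglyEmbedded (nN P ⊔ W)
  proper : nN P ⊔ W ≠ ⊤
  trans : ∀ u ∈ (P : Subgroup G), u * u = 1 → u ≠ 1 → ∃ n ∈ nN P, n * x * n⁻¹ = u
  π : ↥(W ⊔ (P : Subgroup G)) →* ↥(P : Subgroup G)
  hπ : ∀ k, ((π k : G))⁻¹ * (k : G) ∈ W

namespace Setting

variable {P : Sylow 2 G} {x : G} {W : Subgroup G} (T : Setting P x W)

include T

theorem x_ne : x ≠ 1 := fun e => by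
  have := T.orbit.ord
  rw [e, orderOf_one] at this
  omega

theorem x_sq : x * x = 1 := by rw [← pow_two, ← T.orbit.ord, pow_orderOf_eq_one]

theorem π_eq {v : G} (hv : v ∈ (P : Subgroup G)) {k : ↥(W ⊔ (P : Subgroup G))}
    (hw : v⁻¹ * (k : G) ∈ W) : (T.π k : G) = v := by
  have h := mul_mem (T.hπ k) (inv_mem hw)
  have h1 : ((T.π k : G))⁻¹ * v = 1 :=
    T.frame.inf_bot (mul_mem (inv_mem (T.π k).2) hv) (by simpa [mul_assoc] using h)
  exact inv_mul_eq_one.1 h1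

theorem π_of_mem {v : G} (hv : v ∈ (P : Subgroup G)) (hk : v ∈ W ⊔ (P : Subgroup G)) :
    (T.π ⟨v, hk⟩ : G) = v := T.π_eq hv (by simp)

theorem π_of_W {w : G} (hw : w ∈ W) (hk : w ∈ W ⊔ (P : Subgroup G)) :
    (T.π ⟨w, hk⟩ : G) = 1 := T.π_eq (one_mem _) (by simpa using hw)

theorem π_of_odd {k : ↥(W ⊔ (P : Subgroup G))} (hk : ¬ 2 ∣ orderOf k) : T.π k = 1 := by
  haveI : Fact (Nat.Prime 2) := ⟨Nat.prime_two⟩
  obtain ⟨i, hi⟩ := IsPGroup.iff_orderOf.1 P.isPGroup' (T.π k)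
  rcases i with _ | i
  · exact orderOf_eq_one_iff.1 (by simpa using hi)
  · exact absurd ((dvd_pow_self 2 (Nat.succ_ne_zero i)).trans
      (hi ▸ orderOf_map_dvd T.π k)) hk

/-- Conjugation by an element of the big subgroup acts on the projection as an element of the
normaliser. -/
theorem exists_twist {y : G} (hy : y ∈ nN P ⊔ W) :
    ∃ n ∈ nN P, n⁻¹ * y ∈ W ∧ ∀ (k : ↥(W ⊔ (P : Subgroup G)))
      (hk : y⁻¹ * (k : G) * y ∈ W ⊔ (P : Subgroup G)),
        (T.π ⟨_, hk⟩ : G) = n⁻¹ * (T.π k : G) * n := by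
  obtain ⟨n, hn, hw⟩ := T.frame.mem_H hy
  refine ⟨n, hn, hw, fun k hk => T.π_eq ?_ ?_⟩
  · have := mem_P_of_conj (inv_mem hn) (T.π k).2
    rwa [inv_inv] at this
  · have hyH : y⁻¹ ∈ nN P ⊔ W := inv_mem hy
    have hvN : n⁻¹ * (T.π k : G) * n ∈ nN P := Subgroup.le_normalizer (by
      have := mem_P_of_conj (inv_mem hn) (T.π k).2
      rwa [inv_inv] at this)
    set w := n⁻¹ * y with hwdef
    have h1 := T.frame.normN n⁻¹ (inv_mem hn) _ (T.hπ k)
    rw [inv_inv] at h1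
    have h2 := T.frame.normN _ (inv_mem hvN) _ (inv_mem hw)
    rw [inv_inv] at h2
    have e : (n⁻¹ * (T.π k : G) * n)⁻¹ * (y⁻¹ * (k : G) * y) =
        (n⁻¹ * (T.π k : G) * n)⁻¹ * w⁻¹ * (n⁻¹ * (T.π k : G) * n) *
          (n⁻¹ * ((T.π k : G)⁻¹ * k) * n) * w := by
      rw [hwdef]; group
    show (n⁻¹ * (T.π k : G) * n)⁻¹ * (y⁻¹ * (k : G) * y) ∈ W
    rw [e]
    exact mul_mem (mul_mem h2 h1) hw

theorem mem_K_of_commute {v : G} (hv : Commute v x) : v ∈ W ⊔ (P : Subgroup G) :=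
  T.frame.cent x T.orbit.mem T.x_ne v hv

/-- An element of the big subgroup fixing the projection of the involution lies in the small one. -/
theorem mem_K_of_stab {y : G} (hy : y ∈ nN P ⊔ W)
    (hk : y⁻¹ * x * y ∈ W ⊔ (P : Subgroup G)) (h : (T.π ⟨_, hk⟩ : G) = x) :
    y ∈ W ⊔ (P : Subgroup G) := by
  obtain ⟨n, hn, hw, htw⟩ := T.exists_twist hy
  have hxK : x ∈ W ⊔ (P : Subgroup G) := Subgroup.mem_sup_right T.orbit.mem
  have e := htw ⟨x, hxK⟩ hk
  rw [h, T.π_of_mem T.orbit.mem hxK] at e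
  have hnC : n ∈ cC P := T.orbit.stab n hn (by
    calc n * x * n⁻¹ = n * (n⁻¹ * x * n) * n⁻¹ := by rw [← e]
      _ = x := by group)
  have := mul_mem (T.frame.cC_le_K T.orbit.mem T.x_ne hnC) (Subgroup.mem_sup_left hw)
  rwa [mul_inv_cancel_left] at this

/-- A 2-singular element of the big subgroup only meets it from inside. -/
theorem mem_of_singular {g h : G} (hh : h ∈ nN P ⊔ W) (hh2 : 2 ∣ orderOf h)
    (hgh : g⁻¹ * h * g ∈ nN P ⊔ W) : g ∈ nN P ⊔ W := by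
  obtain ⟨c, hc⟩ := hh2
  have hc0 : 0 < c := by
    have := orderOf_pos h
    rcases Nat.eq_zero_or_pos c with h' | h'
    · rw [h', mul_zero] at hc; omega
    · exact h'
  have ho : orderOf (h ^ c) = 2 := by
    rw [orderOf_pow' h hc0.ne', hc, Nat.gcd_eq_right (Dvd.intro_left _ rfl),
      Nat.mul_div_cancel _ hc0]
  have h2 : g⁻¹ * h ^ c * g⁻¹⁻¹ ∈ nN P ⊔ W := by
    rw [← conj_pow, inv_inv]
    exact pow_mem hgh c
  exact inv_mem_iff.1 (Invol.se_mem_of_conj T.embedded ho (pow_mem hh c) h2)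

end Setting

end Cfsg.Agent.RegularOrbit
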